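import Cfsg.Agent.Lib.Classical.OrthPlanesMax.Maximal
import Cfsg.Agent.Lib.Classical.OrthDecompMax.Apply
import Cfsg.Agent.Lib.Classical.OrthDecompMax.Two

set_option autoImplicit false
set_option linter.unusedSectionVars false

/-!
Stabilisers of orthogonal decompositions in even dimension at least ten.
-/

namespace CfsgLib.Orth.PlanesMax

open Matrix DecompMax

variable {F : Type*} [Field F] [Fintype F] {ι : Type} [Fintype ι] [DecidableEq ι]
variable {Q : QuadraticForm F (ι → F)} {t k : ℕ} {D : Fin t → Submodule F (ι → F)}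

/-- One plus member makes all of them plus. -/
theorem all_plus_of_one (hD : Cfsg.Geo.IsOrthogonalMDecomposition ⇑Q k D) {i : Fin t}
    (h : Cfsg.Geo.IsPlusTypeOn ⇑Q (D i)) (l : Fin t) : Cfsg.Geo.IsPlusTypeOn ⇑Q (D l) := by
  obtain ⟨U, hU, hs, hr⟩ := h
  obtain ⟨e, he⟩ := hD.isometric i l
  let f : U →ₗ[F] ι → F := ((D l).subtype.comp e.toLinearMap).comp (Submodule.inclusion hU)
  have hinj : Function.Injective f :=
    (Subtype.val_injective.comp e.injective).comp (Submodule.inclusion_injective hU)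
  refine ⟨LinearMap.range f, ?_, ?_, ?_⟩
  · rintro _ ⟨x, rfl⟩
    exact (e (Submodule.inclusion hU x)).2
  · rintro _ ⟨x, rfl⟩
    exact (he (Submodule.inclusion hU x)).trans (hs x x.2)
  · rw [LinearMap.finrank_range_of_inj hinj, hr, hD.decomp.decomp.finrank_eq,
      hD.decomp.decomp.finrank_eq]

theorem decomposition_maximal (hB : Nondeg Q) (hn : 10 ≤ Module.finrank F (ι → F))
    (heven : Even (Module.finrank F (ι → F))) (hk : 2 ≤ k)
    (hD : Cfsg.Geo.IsOrthogonalMDecomposition ⇑Q k D)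
    (hko : Odd k → Odd (Fintype.card F)) (h3 : k = 3 → Fintype.card F ≠ 3)
    (h2q : k = 2 → Fintype.card F ≠ 3)
    (h2 : k = 2 → (∀ i, Cfsg.Geo.IsPlusTypeOn ⇑Q (D i)) →
      Fintype.card F ≠ 2 ∧ Fintype.card F ≠ 4 ∧ Fintype.card F ≠ 5)
    (h4 : k = 4 → Fintype.card F = 2 → ¬ ∀ i, Cfsg.Geo.IsPlusTypeOn ⇑Q (D i)) :
    Cfsg.Geo.IsMaximalIn (Cfsg.Geo.omegaGL ⇑Q)
      (Cfsg.Geo.decompositionStabilizer D ⊓ Cfsg.Geo.omegaGL ⇑Q) := by
  classical
  have htk := mul_eq_finrank hD
  have ht2 := hD.decomp.decomp.two_le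
  have hq1 := Fintype.one_lt_card (α := F)
  have hfine : k = 4 → 3 ≤ Nat.card F ∨ ∀ i, ∀ a ∈ D i, ∀ b ∈ D i,
      a ≠ 0 → b ≠ 0 → a ≠ b → Q a = 0 → Q b = 0 → QuadraticMap.polar ⇑Q a b ≠ 0 := by
    intro hk4
    by_cases hq : 3 ≤ Nat.card F
    · exact Or.inl hq
    refine Or.inr fun i a ha b hb ha0 hb0 hab hQa hQb hB0 => ?_
    have hcard : Fintype.card F = 2 := by rw [Nat.card_eq_fintype_card] at hq; omega
    refine h4 hk4 hcard fun l => all_plus_of_one hD (i := i) ⟨Submodule.span F ({a, b} : Set (ι → F)),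
      Submodule.span_le.2 fun z hz => ?_, fun z hz => ?_, ?_⟩ l
    · rcases Set.mem_insert_iff.1 hz with rfl | hz
      · exact ha
      · rw [Set.mem_singleton_iff.1 hz]; exact hb
    · obtain ⟨p, r, rfl⟩ := Submodule.mem_span_pair.1 hz
      rw [q_add, q_smul, q_smul, hQa, hQb, b_smul_left, b_smul_right, hB0]
      ring
    · have hli : LinearIndependent F ![a, b] := by
        rw [LinearIndependent.pair_iff' ha0]
        intro c hc
        by_cases hc0 : c = 0
        · exact hb0 (by rw [← hc, hc0, zero_smul])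
        · refine hab ?_
          rw [← hc, eq_one_of_card_two hq hc0, one_smul]
      have h := finrank_span_eq_card hli
      rw [Fintype.card_fin, Matrix.range_cons, Matrix.range_cons, Matrix.range_empty,
        Set.union_empty, Set.singleton_union] at h
      rw [h, hD.decomp.decomp.finrank_eq, hk4]
  have hd := dec_of hB (by omega) hk hD hfine
  by_cases hk2 : k = 2
  · subst hk2
    refine isMaximalIn hd (by omega) ?_
    by_cases hns : ∀ i, NoSing Q (D i)
    · exact Or.inr ⟨hns, by rw [Nat.card_eq_fintype_card]; exact h2q rfl⟩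
    left
    simp only [NoSing, not_forall] at hns
    obtain ⟨i, s, hs, hQs, hs0⟩ := hns
    have hall := all_plus_of_one hD
      (isPlusTypeOn_of_singular (hD.decomp.decomp.finrank_eq i) hs hs0 hQs)
    obtain ⟨e1, e2, e3⟩ := h2 rfl hall
    have e4 := h2q rfl
    have e6 : Fintype.card F ≠ 6 := fun e => by
      obtain ⟨p, m, hp, hm, hpm⟩ := (isPrimePow_nat_iff _).1 (FiniteField.isPrimePow_card F)
      rw [e] at hpm
      have h2 : 2 ∣ p ^ m := ⟨3, by omega⟩
      have h3 : 3 ∣ p ^ m := ⟨2, by omega⟩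
      have := (Nat.prime_dvd_prime_iff_eq Nat.prime_two hp).1 (Nat.prime_two.dvd_of_dvd_pow h2)
      have := (Nat.prime_dvd_prime_iff_eq Nat.prime_three hp).1 (Nat.prime_three.dvd_of_dvd_pow h3)
      omega
    rw [Nat.card_eq_fintype_card]
    omega
  have hL : Large F k := by
    refine ⟨by omega, ?_⟩
    by_cases hk3 : k = 3
    · have hodd := hko (hk3 ▸ by decide)
      rw [Nat.odd_iff] at hodd
      refine Or.inl ⟨Ring.two_ne_zero fun e => ?_, ?_⟩
      · have := FiniteField.even_card_of_char_two e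
        omega
      · have := h3 hk3
        rw [Nat.card_eq_fintype_card]
        omega
    · exact Or.inr (by omega)
  by_cases ht : t = 2
  · subst ht
    rw [Nat.even_iff] at heven
    exact hd.isMaximalIn_two (by omega) hL
  · exact hd.isMaximalIn hL (by omega)

end CfsgLib.Orth.PlanesMax
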