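import Cfsg.Agent.Lib.Classical.OrthPlanesMax.Spread

set_option autoImplicit false
set_option linter.unusedSectionVars false

/-!
Anisotropic planes over two elements.
-/

namespace CfsgLib.Orth.PlanesMax

open Matrix DecompMax

variable {F : Type*} [Field F] [Finite F] {ι : Type} [Fintype ι] [DecidableEq ι]
variable {Q : QuadraticForm F (ι → F)} {t : ℕ} {D : Fin t → Submodule F (ι → F)}

local notation "B" => QuadraticMap.polar (DFunLike.coe Q)

variable (hd : Dec Q 2 D) (hq : ¬ 3 ≤ Nat.card F) (hns : ∀ i, NoSing Q (D i))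
include hd hq hns

omit hd in
theorem q_one {i : Fin t} {a : ι → F} (ha : a ∈ D i) (ha0 : a ≠ 0) : Q a = 1 :=
  eq_one_of_card_two hq fun e => ha0 (hns i a ha e)

omit hd hns in
theorem two_eq_zero_of_two : (2 : F) = 0 := by
  by_contra h
  exact one_ne_zero (α := F) (by linear_combination eq_one_of_card_two hq h)

omit hd in
theorem b_one {i : Fin t} {a b : ι → F} (ha : a ∈ D i) (hb : b ∈ D i) (ha0 : a ≠ 0) (hb0 : b ≠ 0)
    (hab : a ≠ b) : B a b = 1 := by
  have h := q_one hq hns ((D i).sub_mem ha hb) (sub_ne_zero.2 hab)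
  rw [q_sub, q_one hq hns ha ha0, q_one hq hns hb hb0] at h
  linear_combination -h

variable {M : Subgroup (Grp Q)} (hM : ∀ g, g ∈ Cfsg.Omega F ⇑Q → Perm D g → g ∈ M)
include hM

/-- A non-zero component may be replaced by any other. -/
theorem mx_change {v : ι → F} (hv : Mx M D v) {i : Fin t} (hi : proj Q (D i) v ≠ 0) {a' : ι → F}
    (ha' : a' ∈ D i) (ha'0 : a' ≠ 0) : Mx M D (v - proj Q (D i) v + a') := by
  obtain ⟨a, ha⟩ : ∃ a, a = proj Q (D i) v := ⟨_, rfl⟩
  rw [← ha] at hi ⊢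
  have haD : a ∈ D i := ha ▸ hd.comp_mem i v
  by_cases e : a = a'
  · rwa [← e, sub_add_cancel]
  have h2 := two_eq_zero_of_two hq
  have hd1 : Q (a - a') = 1 := q_one hq hns ((D i).sub_mem haD ha') (sub_ne_zero.2 e)
  have hQa' : Q a' = 1 := q_one hq hns ha' ha'0
  obtain ⟨r, hr⟩ := exists_refl hd.nd (v := a - a') (by rw [hd1]; exact one_ne_zero)
  obtain ⟨s, hs⟩ := exists_refl hd.nd (v := a') (by rw [hQa']; exact one_ne_zero)
  have hB : B (a - a') v = 1 := by
    rw [b_comm, ← hd.b_comp i v ((D i).sub_mem haD ha'), ← ha, b_sub_right, b_self,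
      q_one hq hns haD hi, b_one hq hns haD ha' hi ha'0 e]
    ring
  have hrv : ap r v = v - a + a' := by
    rw [hr.2, hd1, hB, inv_one, mul_one, one_smul]; abel
  have hsv : ap s (v - a + a') = v - a + a' := by
    refine refl_fix hs ?_
    rw [b_comm, ← hd.b_comp i _ ha', ha, (comp_replace hd i v ha').1, b_self, h2, zero_mul]
  have h := mx_perm hd hM hv (refl_pair_mem hd hs hr (isSquare_char_two h2 _))
    (hd.perm_refl_pair ha' ((D i).sub_mem haD ha') hs hr)
  rwa [ap_mul, hrv, hsv] at h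

omit hns in
theorem comp_triple {a b c : Fin t} (hab : a ≠ b) (hac : a ≠ c) {x y z : ι → F} (hx : x ∈ D a)
    (hy : y ∈ D b) (hz : z ∈ D c) : proj Q (D a) (x + y + z) = x := by
  rw [map_add, map_add, hd.comp_self hx, hd.comp_other hab.symm hy, hd.comp_other hac.symm hz,
    add_zero, add_zero]

/-- Every triple of members. -/
theorem triple_all (ht : 5 ≤ t) {v : ι → F} (hv : Mx M D v) (hvb : ¬ Blk D v) :
    ∀ p q r : Fin t, p ≠ q → p ≠ r → q ≠ r → ∀ x ∈ D p, ∀ y ∈ D q, ∀ z ∈ D r,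
      x ≠ 0 → y ≠ 0 → z ≠ 0 → Mx M D (x + y + z) := by
  classical
  have h2 := two_eq_zero_of_two hq
  let Ok : Fin t → Fin t → Fin t → Prop := fun p q r => p ≠ q ∧ p ≠ r ∧ q ≠ r ∧
    ∀ x ∈ D p, ∀ y ∈ D q, ∀ z ∈ D r, x ≠ 0 → y ≠ 0 → z ≠ 0 → Mx M D (x + y + z)
  have hrot : ∀ {p q r}, Ok p q r → Ok q r p := fun {p q r} h =>
    ⟨h.2.2.1, h.1.symm, h.2.1.symm, fun x hx y hy z hz hx0 hy0 hz0 => by
      have := h.2.2.2 z hz x hx y hy hz0 hx0 hy0
      convert this using 1; abel⟩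
  have hflip : ∀ {p q r}, Ok p q r → Ok p r q := fun {p q r} h =>
    ⟨h.2.1, h.1, h.2.2.1.symm, fun x hx y hy z hz hx0 hy0 hz0 => by
      have := h.2.2.2 x hx z hz y hy hx0 hz0 hy0
      convert this using 1; abel⟩
  have hof : ∀ {p q r}, p ≠ q → p ≠ r → q ≠ r → ∀ {x y z : ι → F}, x ∈ D p → y ∈ D q → z ∈ D r →
      x ≠ 0 → y ≠ 0 → z ≠ 0 → Mx M D (x + y + z) → Ok p q r := by
    intro p q r hpq hpr hqr x y z hx hy hz hx0 hy0 hz0 h
    refine ⟨hpq, hpr, hqr, fun x' hx' y' hy' z' hz' hx'0 hy'0 hz'0 => ?_⟩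
    have h1 := mx_change hd hq hns hM h (i := p)
      (by rw [comp_triple hd hq hM hpq hpr hx hy hz]; exact hx0) hx' hx'0
    rw [comp_triple hd hq hM hpq hpr hx hy hz, show x + y + z - x + x' = y + z + x' by abel] at h1
    have h2' := mx_change hd hq hns hM h1 (i := q)
      (by rw [comp_triple hd hq hM hqr hpq.symm hy hz hx']; exact hy0) hy' hy'0
    rw [comp_triple hd hq hM hqr hpq.symm hy hz hx', show y + z + x' - y + y' = z + x' + y' by abel] at h2'
    have h3 := mx_change hd hq hns hM h2' (i := r)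
      (by rw [comp_triple hd hq hM hpr.symm hqr.symm hz hx' hy']; exact hz0) hz' hz'0
    rwa [comp_triple hd hq hM hpr.symm hqr.symm hz hx' hy',
      show z + x' + y' - z + z' = x' + y' + z' by abel] at h3
  have hex : ∀ i : Fin t, ∃ x ∈ D i, x ≠ 0 := fun i =>
    (D i).exists_mem_ne_zero_of_ne_bot (hd.member_ne_bot i)
  have hstep : ∀ {a b c}, Ok a b c → ∀ d, d ≠ a → d ≠ b → Ok a b d := by
    intro a b c h d hda hdb
    by_cases hdc : d = c
    · exact hdc ▸ h
    obtain ⟨g, hg, hgP, hgc, hgf⟩ := hd.exists_swap (Ne.symm hdc)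
    obtain ⟨x, hx, hx0⟩ := hex a
    obtain ⟨y, hy, hy0⟩ := hex b
    obtain ⟨z, hz, hz0⟩ := hex c
    have h1 := mx_perm hd hM (h.2.2.2 x hx y hy z hz hx0 hy0 hz0) hg hgP
    rw [ap_add, ap_add, hgf a h.2.1 (Ne.symm hda) x hx, hgf b h.2.2.1 (Ne.symm hdb) y hy] at h1
    exact hof h.1 (Ne.symm hda) (Ne.symm hdb) hx hy (hgc z hz) hx0 hy0
      (fun e => hz0 (ap_inj g (by rw [e, ap_zero]))) h1
  -- a first triple
  obtain ⟨i, l, hil, hi, hl⟩ := comp_ne_zero_of_not_blk hd hvb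
  obtain ⟨m, hmi, hml, hm⟩ : ∃ m, m ≠ i ∧ m ≠ l ∧ proj Q (D m) v ≠ 0 := by
    by_contra hc
    push Not at hc
    refine mx_ne hd hM hv ?_
    have e : proj Q (D i) v + proj Q (D l) v = v := by
      refine hd.ext_comp fun p => ?_
      have hp := hd.comp_pair hil (hd.comp_mem i v) (hd.comp_mem l v)
      by_cases e1 : p = i
      · rw [e1]; exact hp.1
      by_cases e2 : p = l
      · rw [e2]; exact hp.2
      rw [map_add, hd.comp_other (Ne.symm e1) (hd.comp_mem i v),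
        hd.comp_other (Ne.symm e2) (hd.comp_mem l v), add_zero, hc p e1 e2]
    rw [← e, q_add, hd.orth i l hil _ (hd.comp_mem i v) _ (hd.comp_mem l v),
      q_one hq hns (hd.comp_mem i v) hi, q_one hq hns (hd.comp_mem l v) hl]
    linear_combination h2
  have hne2 : ∀ p, proj Q (D p) v ≠ 0 → ∃ a' ∈ D p, a' ≠ 0 ∧ a' ≠ proj Q (D p) v ∧
      B (proj Q (D p) v) (a' - proj Q (D p) v) = 1 := by
    intro p hp
    obtain ⟨f, hf, hfa⟩ := (plane hd p).exists_indep hp
    have hf0 : f ≠ 0 := fun e => hfa (e ▸ Submodule.zero_mem _)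
    have hfne : f ≠ proj Q (D p) v := fun e => hfa (e ▸ Submodule.mem_span_singleton_self _)
    refine ⟨f, hf, hf0, hfne, ?_⟩
    rw [b_sub_right, b_one hq hns (hd.comp_mem p v) hf hp hf0 (Ne.symm hfne), b_self, h2, zero_mul, sub_zero]
  obtain ⟨a', ha', ha'0, hai, hBi⟩ := hne2 i hi
  obtain ⟨c', hc', hc'0, hcl, hBl⟩ := hne2 l hl
  obtain ⟨e', he', he'0, hem, hBm⟩ := hne2 m hm
  obtain ⟨v₁, hv₁⟩ : ∃ v₁, v₁ = v - proj Q (D i) v + a' := ⟨_, rfl⟩
  obtain ⟨v₂, hv₂⟩ : ∃ v₂, v₂ = v₁ - proj Q (D l) v₁ + c' := ⟨_, rfl⟩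
  obtain ⟨v₃, hv₃⟩ : ∃ v₃, v₃ = v₂ - proj Q (D m) v₂ + e' := ⟨_, rfl⟩
  have hm₁ : Mx M D v₁ := hv₁ ▸ mx_change hd hq hns hM hv hi ha' ha'0
  have e₁ : ∀ p, p ≠ i → proj Q (D p) v₁ = proj Q (D p) v := hv₁ ▸ (comp_replace hd i v ha').2
  have e₂ : proj Q (D m) v₂ = proj Q (D m) v := by
    rw [hv₂, (comp_replace hd l v₁ hc').2 m hml, e₁ m hmi]
  have hm₂ : Mx M D v₂ := hv₂ ▸ mx_change hd hq hns hM hm₁ (by rw [e₁ l hil.symm]; exact hl) hc' hc'0
  have hm₃ : Mx M D v₃ := hv₃ ▸ mx_change hd hq hns hM hm₂ (by rw [e₂]; exact hm) he' he'0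
  have ediff : v₃ - v = (a' - proj Q (D i) v) + (c' - proj Q (D l) v) + (e' - proj Q (D m) v) := by
    rw [hv₃, e₂, hv₂, e₁ l hil.symm, hv₁]; abel
  have hB : B v v₃ = Q v := by
    have h := congrArg (B v) ediff
    rw [b_sub_right, b_add_right, b_add_right, b_self,
      ← hd.b_comp i v ((D i).sub_mem ha' (hd.comp_mem i v)), hBi,
      ← hd.b_comp l v ((D l).sub_mem hc' (hd.comp_mem l v)), hBl,
      ← hd.b_comp m v ((D m).sub_mem he' (hd.comp_mem m v)), hBm] at h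
    rw [eq_one_of_card_two hq (mx_ne hd hM hv)] at h ⊢
    linear_combination h + 2 * h2
  obtain ⟨r, hr⟩ := exists_refl hd.nd (mx_ne hd hM hv)
  have h0 := mx_refl hd hM hv hm₃ (isSquare_char_two h2 _) hr
  rw [hr.2, hB, inv_mul_cancel₀ hr.1, one_smul, ediff] at h0
  have hfirst : Ok i l m := hof hil hmi.symm hml.symm ((D i).sub_mem ha' (hd.comp_mem i v))
    ((D l).sub_mem hc' (hd.comp_mem l v)) ((D m).sub_mem he' (hd.comp_mem m v))
    (sub_ne_zero.2 hai) (sub_ne_zero.2 hcl) (sub_ne_zero.2 hem) h0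
  intro p q r hpq hpr hqr
  obtain ⟨b₁, c₁, h₁⟩ : ∃ b c, Ok p b c := by
    by_cases e1 : p = i
    · exact ⟨l, m, e1 ▸ hfirst⟩
    by_cases e2 : p = l
    · exact ⟨m, i, e2 ▸ hrot hfirst⟩
    · exact ⟨i, l, hrot (hrot (hstep hfirst p e1 e2))⟩
  obtain ⟨c₂, h₂⟩ : ∃ c, Ok p q c := by
    by_cases e1 : q = b₁
    · exact ⟨c₁, e1 ▸ h₁⟩
    · exact ⟨b₁, hflip (hstep h₁ q (Ne.symm hpq) e1)⟩
  exact (hstep h₂ r (Ne.symm hpr) (Ne.symm hqr)).2.2.2

/-- Every anisotropic vector. -/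
theorem mx_all_binary (ht : 5 ≤ t) {v : ι → F} (hv : Mx M D v) (hvb : ¬ Blk D v) {w : ι → F}
    (hQw : Q w ≠ 0) : Mx M D w := by
  classical
  obtain ⟨N, hN⟩ : ∃ N, N = (Finset.univ.filter fun i => proj Q (D i) w ≠ 0).card := ⟨_, rfl⟩
  induction N using Nat.strong_induction_on generalizing w with
  | _ N ih =>
    have h2 := two_eq_zero_of_two hq
    by_cases hb : Blk D w
    · exact mx_blk hd hM hb hQw
    obtain ⟨i, l, hil, hi, hl⟩ := comp_ne_zero_of_not_blk hd hb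
    obtain ⟨a, ha⟩ : ∃ a, a = proj Q (D i) w := ⟨_, rfl⟩
    obtain ⟨c, hc⟩ : ∃ c, c = proj Q (D l) w := ⟨_, rfl⟩
    rw [← ha] at hi
    rw [← hc] at hl
    have haD : a ∈ D i := ha ▸ hd.comp_mem i w
    have hcD : c ∈ D l := hc ▸ hd.comp_mem l w
    obtain ⟨m, hmi, hml, hm⟩ : ∃ m, m ≠ i ∧ m ≠ l ∧ proj Q (D m) w ≠ 0 := by
      by_contra hcn
      push Not at hcn
      refine hQw ?_
      have e : a + c = w := by
        refine hd.ext_comp fun p => ?_
        by_cases e1 : p = i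
        · rw [e1, (hd.comp_pair hil haD hcD).1, ha]
        by_cases e2 : p = l
        · rw [e2, (hd.comp_pair hil haD hcD).2, hc]
        rw [map_add, hd.comp_other (Ne.symm e1) haD, hd.comp_other (Ne.symm e2) hcD, add_zero,
          hcn p e1 e2]
      rw [← e, q_add, hd.orth i l hil _ haD _ hcD, q_one hq hns haD hi, q_one hq hns hcD hl]
      linear_combination h2
    obtain ⟨e, he⟩ : ∃ e, e = proj Q (D m) w := ⟨_, rfl⟩
    rw [← he] at hm
    have heD : e ∈ D m := he ▸ hd.comp_mem m w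
    obtain ⟨z, hzD, hza⟩ := (plane hd i).exists_indep hi
    have hz0 : z ≠ 0 := fun e0 => hza (e0 ▸ Submodule.zero_mem _)
    have haz : a ≠ z := fun e0 => hza (e0 ▸ Submodule.mem_span_singleton_self _)
    have hdz : a - z ∈ D i := (D i).sub_mem haD hzD
    obtain ⟨u, hu⟩ : ∃ u, u = (a - z) + c + e := ⟨_, rfl⟩
    have hmu : Mx M D u := hu ▸ triple_all hd hq hns hM ht hv hvb i l m hil hmi.symm hml.symm _ hdz
      c hcD e heD (sub_ne_zero.2 haz) hl hm
    have hQu : Q u = 1 := eq_one_of_card_two hq (mx_ne hd hM hmu)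
    have hBuw : B u w = 1 := by
      rw [hu, b_add_left, b_add_left, b_comm (a - z), ← hd.b_comp i w hdz, b_comm c,
        ← hd.b_comp l w hcD, b_comm e, ← hd.b_comp m w heD, ← ha, ← hc, ← he, b_sub_right, b_self,
        b_self, b_self, b_one hq hns haD hzD hi hz0 haz, h2]
      linear_combination -h2
    have hQy : Q (w - u) = Q w := by rw [q_sub, b_comm, hBuw, hQu]; ring
    have hout : ∀ p, p ≠ i → p ≠ l → p ≠ m → proj Q (D p) u = 0 := fun p h1 h2 h3 => by
      rw [hu, map_add, map_add, hd.comp_other h1.symm hdz, hd.comp_other h2.symm hcD,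
        hd.comp_other h3.symm heD, add_zero, add_zero]
    have hyl : proj Q (D l) (w - u) = 0 := by
      rw [map_sub, hu, map_add, map_add, hd.comp_other hil hdz, hd.comp_self hcD,
        hd.comp_other hml heD, ← hc, zero_add, add_zero, sub_self]
    have hym : proj Q (D m) (w - u) = 0 := by
      rw [map_sub, hu, map_add, map_add, hd.comp_other (Ne.symm hmi) hdz, hd.comp_other (Ne.symm hml) hcD,
        hd.comp_self heD, ← he, zero_add, zero_add, sub_self]
    have hlt : (Finset.univ.filter fun p => proj Q (D p) (w - u) ≠ 0).card < N := by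
      rw [hN]
      refine Finset.card_lt_card ⟨fun p hp => ?_, fun hsub => ?_⟩
      · simp only [Finset.mem_filter, Finset.mem_univ, true_and] at hp ⊢
        intro e0
        by_cases h1 : p = i
        · exact hi (by rw [ha, ← h1]; exact e0)
        by_cases h2 : p = l
        · exact hp (h2 ▸ hyl)
        by_cases h3 : p = m
        · exact hp (h3 ▸ hym)
        exact hp (by rw [map_sub, e0, hout p h1 h2 h3, sub_zero])
      · have h1 := hsub (Finset.mem_filter.2 ⟨Finset.mem_univ l, hc ▸ hl⟩)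
        simp only [Finset.mem_filter, Finset.mem_univ, true_and] at h1
        exact h1 hyl
    have hmy := ih _ hlt (w := w - u) (by rw [hQy]; exact hQw) rfl
    obtain ⟨r, hr⟩ := exists_refl hd.nd (mx_ne hd hM hmu)
    have h := mx_refl hd hM hmu hmy (isSquare_char_two h2 _) hr
    rw [hr.2, b_sub_right, hBuw, b_self, hQu] at h
    convert h using 1
    rw [inv_one, one_mul, h2, zero_mul, sub_zero, one_smul, sub_sub, ← two_smul F, h2, zero_smul, sub_zero]

end CfsgLib.Orth.PlanesMax
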