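import Cfsg.Agent.Lib.Classical.OrthPlanesMax.Plane

set_option autoImplicit false
set_option maxRecDepth 8000

/-!
Three binary quadratic forms over the field of seven elements.
-/

namespace CfsgLib.Orth.PlanesMax

private theorem two_class : ∀ a b c : ZMod 7, a ≠ 0 → b ≠ 0 → c ≠ 0 →
    (∃ r, a * b = r * r) ∨ (∃ r, a * c = r * r) ∨ (∃ r, b * c = r * r) := by decide +kernel

private theorem pair_value : ∀ a b x : ZMod 7, x ≠ 0 → a + b = x → a ≠ 0 → b ≠ 0 →
    (∀ r, a * b ≠ r * r) → a = 2 * x ∨ a = -x := by decide +kernel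

private theorem no_root : ∀ a b c : ZMod 7,
    (∀ x : ZMod 7, x = 0 ∨ a * (x * x) + b * x + c = 0 ∨ a * (x * x) + b * x + c = 2 * x ∨
      a * (x * x) + b * x + c = -x) →
    (∀ x : ZMod 7, x = 0 ∨ a * (x * x) + b * x + c ≠ 0) ∨ (a = 0 ∧ b = 0 ∧ c = 0) := by
  decide +kernel

/-- Some argument gives two values of one class. -/
theorem seven {F : Type*} [Field F] [Fintype F] (h7 : Fintype.card F = 7) (al be ga : Fin 3 → F)
    (hnz : ∀ l, al l ≠ 0 ∨ be l ≠ 0 ∨ ga l ≠ 0)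
    (hsum : ∀ x : F, ∑ l, (al l * (x * x) + be l * x + ga l) = x) :
    ∃ x : F, x ≠ 0 ∧ ∃ i j : Fin 3, i ≠ j ∧ al i * (x * x) + be i * x + ga i ≠ 0 ∧
      al j * (x * x) + be j * x + ga j ≠ 0 ∧
      IsSquare ((al i * (x * x) + be i * x + ga i) * (al j * (x * x) + be j * x + ga j)) := by
  classical
  haveI : Fact (Nat.Prime 7) := ⟨by norm_num⟩
  let e : ZMod 7 ≃+* F := ZMod.ringEquivOfPrime F (by norm_num) h7
  obtain ⟨P, hP⟩ : ∃ P : Fin 3 → ZMod 7 → ZMod 7,
      P = fun l y => e.symm (al l) * (y * y) + e.symm (be l) * y + e.symm (ga l) := ⟨_, rfl⟩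
  have heP : ∀ l y, e (P l y) = al l * (e y * e y) + be l * e y + ga l := fun l y => by
    simp [hP]
  have hnz' : ∀ l, e.symm (al l) ≠ 0 ∨ e.symm (be l) ≠ 0 ∨ e.symm (ga l) ≠ 0 := fun l => by
    simpa using hnz l
  have hs : ∀ y, P 0 y + P 1 y + P 2 y = y := fun y => by
    apply e.injective
    rw [map_add, map_add, heP, heP, heP]
    have h := hsum (e y)
    rwa [Fin.sum_univ_three] at h
  by_contra hc
  push Not at hc
  have hno : ∀ i j, i ≠ j → ∀ y, y ≠ 0 → P i y ≠ 0 → P j y ≠ 0 → ∀ r, P i y * P j y ≠ r * r := by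
    intro i j hij y hy hi hj r hr
    have hy' : e y ≠ 0 := fun h => hy (e.injective (by rw [h, map_zero]))
    have hi' : e (P i y) ≠ 0 := fun h => hi (e.injective (by rw [h, map_zero]))
    have hj' : e (P j y) ≠ 0 := fun h => hj (e.injective (by rw [h, map_zero]))
    refine hc (e y) hy' i j hij (heP i y ▸ hi') (heP j y ▸ hj') ?_
    rw [← heP, ← heP]
    exact ⟨e r, by rw [← map_mul, hr, map_mul]⟩
  -- every argument is a root of exactly one
  set X := (Finset.univ : Finset (ZMod 7)).erase 0 with hX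
  let R : Fin 3 → Finset (ZMod 7) := fun l => X.filter fun y => P l y = 0
  have hR : ∀ l, (R l).card ≤ 2 := fun l => by
    refine le_trans (Finset.card_le_card fun y hy => ?_) (card_roots (α := e.symm (al l))
      (β := e.symm (be l)) (γ := e.symm (ga l)) (hnz' l))
    have h := (Finset.mem_filter.1 hy).2
    rw [Finset.mem_filter]
    exact ⟨Finset.mem_univ _, by rw [hP] at h; exact h⟩
  have hmem : ∀ l y, y ≠ 0 → (y ∈ R l ↔ P l y = 0) := fun l y hy => by simp [R, hX, hy]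
  have hcov : X ⊆ R 0 ∪ R 1 ∪ R 2 := by
    intro y hy
    have hy0 : y ≠ 0 := Finset.ne_of_mem_erase (hX ▸ hy)
    by_contra h
    simp only [Finset.mem_union, hmem _ _ hy0, not_or] at h
    obtain ⟨⟨h0, h1⟩, h2⟩ := h
    rcases two_class _ _ _ h0 h1 h2 with ⟨r, hr⟩ | ⟨r, hr⟩ | ⟨r, hr⟩
    · exact hno 0 1 (by decide) y hy0 h0 h1 r hr
    · exact hno 0 2 (by decide) y hy0 h0 h2 r hr
    · exact hno 1 2 (by decide) y hy0 h1 h2 r hr
  have hXc : X.card = 6 := by rw [hX]; rfl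
  have hu := Finset.card_le_card hcov
  have h01 := Finset.card_union_add_card_inter (R 0) (R 1)
  have h012 := Finset.card_union_add_card_inter (R 0 ∪ R 1) (R 2)
  have := hR 0; have := hR 1; have := hR 2
  have hone : ∀ y, y ≠ 0 → ¬ (P 0 y = 0 ∧ P 1 y = 0) ∧ ¬ (P 0 y = 0 ∧ P 2 y = 0) ∧
      ¬ (P 1 y = 0 ∧ P 2 y = 0) := by
    intro y hy
    have e01 : R 0 ∩ R 1 = ∅ := Finset.card_eq_zero.1 (by omega)
    have e012 : (R 0 ∪ R 1) ∩ R 2 = ∅ := Finset.card_eq_zero.1 (by omega)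
    refine ⟨fun h => ?_, fun h => ?_, fun h => ?_⟩
    · exact Finset.notMem_empty y (e01 ▸ Finset.mem_inter.2 ⟨(hmem 0 y hy).2 h.1, (hmem 1 y hy).2 h.2⟩)
    · exact Finset.notMem_empty y (e012 ▸ Finset.mem_inter.2
        ⟨Finset.mem_union_left _ ((hmem 0 y hy).2 h.1), (hmem 2 y hy).2 h.2⟩)
    · exact Finset.notMem_empty y (e012 ▸ Finset.mem_inter.2
        ⟨Finset.mem_union_right _ ((hmem 1 y hy).2 h.1), (hmem 2 y hy).2 h.2⟩)
  -- the first has a root
  obtain ⟨y, hy⟩ : (R 0).Nonempty := Finset.card_pos.1 (by omega)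
  have hy0 : y ≠ 0 := Finset.ne_of_mem_erase (hX ▸ (Finset.mem_filter.1 hy).1)
  have hval : ∀ x : ZMod 7, x = 0 ∨ P 0 x = 0 ∨ P 0 x = 2 * x ∨ P 0 x = -x := by
    intro x
    by_cases hx : x = 0
    · exact Or.inl hx
    refine Or.inr ?_
    by_cases h0 : P 0 x = 0
    · exact Or.inl h0
    refine Or.inr ?_
    obtain ⟨-, -, h12⟩ := hone x hx
    have hxX : x ∈ X := by rw [hX]; exact Finset.mem_erase.2 ⟨hx, Finset.mem_univ _⟩
    rcases Finset.mem_union.1 (hcov hxX) with h | h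
    · rcases Finset.mem_union.1 h with h | h
      · exact absurd ((hmem 0 x hx).1 h) h0
      · have h1 := (hmem 1 x hx).1 h
        have h2 : P 2 x ≠ 0 := fun h2 => h12 ⟨h1, h2⟩
        exact pair_value _ _ x hx (by have := hs x; rwa [h1, add_zero] at this) h0 h2
          (hno 0 2 (by decide) x hx h0 h2)
    · have h2 := (hmem 2 x hx).1 h
      have h1 : P 1 x ≠ 0 := fun h1 => h12 ⟨h1, h2⟩
      exact pair_value _ _ x hx (by have := hs x; rwa [h2, add_zero] at this) h0 h1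
        (hno 0 1 (by decide) x hx h0 h1)
  subst hP
  rcases no_root _ _ _ hval with h | ⟨ha, hb, hg⟩
  · exact (h y).resolve_left hy0 ((hmem 0 y hy0).1 hy)
  · rcases hnz' 0 with h | h | h
    exacts [h ha, h hb, h hg]

end CfsgLib.Orth.PlanesMax
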