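import Cfsg.Agent.Lib.Classical.OrthPlanesMax.Setup
import Cfsg.Agent.Lib.Classical.OrthPlanesMax.Seven

set_option autoImplicit false
set_option linter.unusedSectionVars false

/-!
An overgroup relating only member vectors permutes the planes.
-/

namespace CfsgLib.Orth.PlanesMax

open Matrix DecompMax

variable {F : Type*} [Field F] [Finite F] {ι : Type} [Fintype ι] [DecidableEq ι]
variable {Q : QuadraticForm F (ι → F)} {t : ℕ} {D : Fin t → Submodule F (ι → F)}

local notation "B" => QuadraticMap.polar (DFunLike.coe Q)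

/-- Three lines of each class in each member. -/
def Three (Q : QuadraticForm F (ι → F)) (D : Fin t → Submodule F (ι → F)) : Prop :=
  ∀ i, ∀ d : F, d ≠ 0 → ∃ x ∈ D i, ∃ y ∈ D i, ∃ z ∈ D i, Cls Q d x ∧ Cls Q d y ∧ Cls Q d z ∧
    y ∉ Submodule.span F {x} ∧ z ∉ Submodule.span F {x} ∧ z ∉ Submodule.span F {y}

/-- The product of the norms of orthogonal bases has one class for all the planes. -/
theorem same_disc (hd : Dec Q 2 D) {l i : Fin t} {a b a' b' : ι → F} (ha : a ∈ D l) (hb : b ∈ D l)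
    (hab : B a b = 0) (hQa : Q a ≠ 0) (hQb : Q b ≠ 0) (ha' : a' ∈ D i) (hb' : b' ∈ D i)
    (hab' : B a' b' = 0) (hQa' : Q a' ≠ 0) (hQb' : Q b' ≠ 0) (h20 : (2 : F) ≠ 0) :
    IsSquare (Q a * Q b * (Q a' * Q b')) := by
  obtain ⟨φ, hφ⟩ := hd.iso l i
  obtain ⟨p, hp⟩ : ∃ p, p = ((φ ⟨a, ha⟩ : D i) : ι → F) := ⟨_, rfl⟩
  obtain ⟨r, hr⟩ : ∃ r, r = ((φ ⟨b, hb⟩ : D i) : ι → F) := ⟨_, rfl⟩
  have hpD : p ∈ D i := hp ▸ (φ ⟨a, ha⟩).2
  have hrD : r ∈ D i := hr ▸ (φ ⟨b, hb⟩).2
  have hQp : Q p = Q a := by rw [hp]; exact hφ _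
  have hQr : Q r = Q b := by rw [hr]; exact hφ _
  have hpr : B p r = 0 := by
    have h := hφ (⟨a, ha⟩ + ⟨b, hb⟩)
    rw [map_add, Submodule.coe_add, Submodule.coe_add, q_add, q_add, ← hp, ← hr, hQp, hQr, hab] at h
    linear_combination h
  have hp0 : p ≠ 0 := fun e => hQa (by rw [← hQp, e, QuadraticMap.map_zero])
  have ha0' : a' ≠ 0 := fun e => hQa' (by rw [e, QuadraticMap.map_zero])
  have hrp : r ∉ Submodule.span F {p} := fun h => by
    obtain ⟨c, hc⟩ := Submodule.mem_span_singleton.1 h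
    rw [← hc, b_smul_right, b_self, hQp, mul_eq_zero] at hpr
    rcases hpr with h' | h'
    · exact hQb (by rw [← hQr, ← hc, h', zero_smul, QuadraticMap.map_zero])
    · exact mul_ne_zero h20 hQa h'
  obtain ⟨β, α, e⟩ := (plane hd i).coords hpD hrD hp0 hrp ha'
  obtain ⟨n, hn⟩ : ∃ n, n = (α * Q a) • r - (β * Q b) • p := ⟨_, rfl⟩
  have hnD : n ∈ D i := hn ▸ (D i).sub_mem ((D i).smul_mem _ hrD) ((D i).smul_mem _ hpD)
  have hQA : Q a' = β * β * Q b + α * α * Q a := by
    rw [e, q_add, q_smul, q_smul, b_smul_left, b_smul_right, b_comm r p, hpr, hQp, hQr]; ring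
  have hBn : B a' n = 0 := by
    rw [e, hn, b_sub_right, b_add_left, b_add_left]
    simp only [b_smul_left, b_smul_right, b_self, hQp, hQr, hpr, b_comm r p]
    ring
  have hQn : Q n = Q a * Q b * Q a' := by
    rw [hn, q_sub, q_smul, q_smul, b_smul_left, b_smul_right, b_comm r p, hpr, hQp, hQr, hQA]; ring
  have hn0 : n ≠ 0 := fun e0 => mul_ne_zero (mul_ne_zero hQa hQb) hQa'
    (by rw [← hQn, e0, QuadraticMap.map_zero])
  obtain ⟨c, hc⟩ := (plane hd i).perp_line ha' hb' hnD ha0' hn0 hab' hBn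
  exact ⟨c * (Q a * Q b * Q a'), by rw [hc, q_smul, hQn]; ring⟩

variable (hd : Dec Q 2 D) (h3 : Three Q D)
include hd h3

theorem exists_mate2 (i : Fin t) {d : F} (hd0 : d ≠ 0) :
    ∃ x ∈ D i, ∃ y ∈ D i, Cls Q d x ∧ Cls Q d y ∧ B x y ≠ 0 ∧ ∀ c : F, y ≠ c • x := by
  obtain ⟨x, hx, y, hy, z, hz, hxc, hyc, hzc, hyx, hzx, hzy⟩ := h3 i d hd0
  have hne : ∀ {a b : ι → F}, b ∉ Submodule.span F {a} → ∀ c : F, b ≠ c • a := fun {a b} h c e =>
    h (Submodule.mem_span_singleton.2 ⟨c, e.symm⟩)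
  by_cases hb : B x y = 0
  · refine ⟨x, hx, z, hz, hxc, hzc, fun hb' => ?_, hne hzx⟩
    have hne0 : ∀ {a : ι → F}, Cls Q d a → a ≠ 0 := fun {a} ha e =>
      ha.1 (by rw [e, QuadraticMap.map_zero])
    obtain ⟨c, hc⟩ := (plane hd i).perp_line hx hz hy (hne0 hxc) (hne0 hyc) hb' hb
    exact hne hzy c hc
  · exact ⟨x, hx, y, hy, hxc, hyc, hb, hne hyx⟩

theorem perm_of_cls2 {g : Grp Q} {d : F} (hd0 : d ≠ 0)
    (h : ∀ x, Blk D x → Cls Q d x → Blk D (ap g x)) : Perm D g := by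
  intro i
  obtain ⟨x, hx, y, hy, z, hz, hxc, hyc, hzc, hyx, hzx, hzy⟩ := h3 i d hd0
  obtain ⟨a, ha⟩ := h x ⟨i, hx⟩ hxc
  have hx0 : x ≠ 0 := fun e => hxc.1 (by rw [e, QuadraticMap.map_zero])
  have hy0 : y ≠ 0 := fun e => hyc.1 (by rw [e, QuadraticMap.map_zero])
  refine ⟨a, fun v hv => ?_⟩
  suffices hya : ap g y ∈ D a by
    obtain ⟨p, q, rfl⟩ := (plane hd i).coords hx hy hx0 hyx hv
    rw [ap_add, ap_smul, ap_smul]
    exact (D a).add_mem ((D a).smul_mem _ hya) ((D a).smul_mem _ ha)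
  obtain ⟨b, hb⟩ := h y ⟨i, hy⟩ hyc
  by_cases hab : b = a
  · exact hab ▸ hb
  exfalso
  obtain ⟨c, hc⟩ := h z ⟨i, hz⟩ hzc
  obtain ⟨p, q, e⟩ := (plane hd i).coords hx hy hx0 hyx hz
  rw [e, ap_add, ap_smul, ap_smul] at hc
  have hcomp := hd.comp_pair hab ((D b).smul_mem p hb) ((D a).smul_mem q ha)
  by_cases hca : c = a
  · subst hca
    have h0 := hd.comp_other (Ne.symm hab) hc
    rw [hcomp.1, ← ap_smul] at h0
    have hp : p = 0 := (smul_eq_zero.1 (ap_inj g (h0.trans (ap_zero g).symm))).resolve_right hy0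
    exact hzx (Submodule.mem_span_singleton.2 ⟨q, by rw [e, hp, zero_smul, zero_add]⟩)
  · have h0 := hd.comp_other hca hc
    rw [hcomp.2, ← ap_smul] at h0
    have hq : q = 0 := (smul_eq_zero.1 (ap_inj g (h0.trans (ap_zero g).symm))).resolve_right hx0
    exact hzy (Submodule.mem_span_singleton.2 ⟨p, by rw [e, hq, zero_smul, add_zero]⟩)

omit h3 in
/-- Two reflections whose product permutes the planes. -/
theorem pair_supp2 {u w : ι → F} {r s : Grp Q} (hr : IsRefl u r) (hs : IsRefl w s)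
    (hind : ∀ c : F, u ≠ c • w) (hg : Perm D (r * s)) :
    (∀ a b c, a ≠ b → a ≠ c → b ≠ c →
      proj Q (D a) u = 0 ∨ proj Q (D b) u = 0 ∨ proj Q (D c) u = 0) ∧ (B u w ≠ 0 → Blk D u) := by
  classical
  by_cases hfix : ∀ l, ∀ x ∈ D l, ap (r * s) x ∈ D l
  · exact hd.pair_supp_of_fix hr hs hind hfix
  push Not at hfix
  obtain ⟨l, x₀, hx₀, hx₀l⟩ := hfix
  set g := r * s with hgdef
  obtain ⟨j, hj⟩ := hg l
  have hjl : j ≠ l := fun e => hx₀l (e ▸ hj x₀ hx₀)
  set P := Submodule.span F ({u, w} : Set (ι → F)) with hP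
  have hu : u ∈ P := Submodule.subset_span (Set.mem_insert _ _)
  have hw : w ∈ P := Submodule.subset_span (Set.mem_insert_of_mem _ rfl)
  have hPdim : Module.finrank F P ≤ 2 := by
    have h := finrank_span_finset_le_card (R := F) ({u, w} : Finset (ι → F))
    rw [Set.finrank, Finset.coe_pair] at h
    exact h.trans Finset.card_le_two
  have hres : ∀ x, ap g x - x ∈ P := by
    intro x
    rw [hgdef, ap_mul, hr.2, hs.2 x]
    have e : ∀ (p q : ι → F), x - p - q - x = -(p + q) := fun p q => by abel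
    rw [e]
    exact neg_mem (add_mem (Submodule.smul_mem _ _ hw) (Submodule.smul_mem _ _ hu))
  let φ : D l →ₗ[F] P := LinearMap.codRestrict P
    ((Matrix.toLin' (((g : GL ι F)) : Matrix ι ι F) - LinearMap.id).comp (D l).subtype)
    fun x => hres x
  have hinj : Function.Injective φ := by
    refine (injective_iff_map_eq_zero φ).2 fun x hx => ?_
    have h' : ap g (x : ι → F) - (x : ι → F) = 0 := congrArg Subtype.val hx
    have hxj : (x : ι → F) ∈ D j := by rw [← sub_eq_zero.1 h']; exact hj x x.2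
    by_contra hx0
    exact hjl (hd.eq_of_mem (fun e => hx0 (Subtype.ext e)) x.2 hxj).symm
  have hsurj : Function.Surjective φ := by
    rw [← LinearMap.range_eq_top]
    refine Submodule.eq_top_of_finrank_eq (le_antisymm (Submodule.finrank_le _) ?_)
    rw [LinearMap.finrank_range_of_inj hinj, hd.rank]
    exact hPdim
  have hPimg : ∀ p ∈ P, ∃ y ∈ D l, p = ap g y - y := fun p hp => by
    obtain ⟨y, hy⟩ := hsurj ⟨p, hp⟩
    exact ⟨y, y.2, (congrArg Subtype.val hy).symm⟩
  have hPsupp : ∀ p ∈ P, ∀ c, c ≠ l → c ≠ j → proj Q (D c) p = 0 := fun p hp c hcl hcj => by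
    obtain ⟨y, hy, rfl⟩ := hPimg p hp
    rw [map_sub, hd.comp_other (Ne.symm hcj) (hj y hy), hd.comp_other (Ne.symm hcl) hy, sub_zero]
  refine ⟨fun a b c hab hac hbc => ?_, fun hβ => ?_⟩
  · by_cases ha : a = l ∨ a = j
    · by_cases hb : b = l ∨ b = j
      · refine Or.inr (Or.inr (hPsupp u hu c ?_ ?_)) <;> rintro rfl <;>
          rcases ha with rfl | rfl <;> rcases hb with rfl | rfl <;> tauto
      · push Not at hb
        exact Or.inr (Or.inl (hPsupp u hu b hb.1 hb.2))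
    · push Not at ha
      exact Or.inl (hPsupp u hu a ha.1 ha.2)
  exfalso
  -- the product is an involution
  obtain ⟨m, hm⟩ := hg j
  have himg : ∀ z ∈ D j, ∃ x ∈ D l, ap g x = z := by
    intro z hz
    have h1 : (D l).map (Matrix.toLin' ((g : GL ι F) : Matrix ι ι F)) = D j := by
      refine Submodule.eq_of_le_of_finrank_eq ?_ ?_
      · rintro _ ⟨x, hx, rfl⟩; exact hj x hx
      · rw [hd.rank j, ← hd.rank l]
        exact ((D l).equivMapOfInjective _ fun x y e => ap_inj g e).finrank_eq.symm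
    rw [← h1] at hz
    obtain ⟨x, hx, e⟩ := hz
    exact ⟨x, hx, e⟩
  obtain ⟨x', hx', hx'0⟩ := (D l).exists_mem_ne_zero_of_ne_bot (hd.member_ne_bot l)
  have hml : m = l := by
    by_contra hml
    have hm' := hm _ (hj x' hx')
    by_cases hmj : m = j
    · subst hmj
      obtain ⟨x, hx, e⟩ := himg _ hm'
      exact hjl (hd.eq_of_mem hx'0 hx' (by
        have := ap_inj g e
        have h0 : ap g x' = 0 := by
          by_contra h0
          exact hjl (hd.eq_of_mem h0 (this ▸ hx) (hj x' hx')).symm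
        rw [ap_inj g (h0.trans (ap_zero g).symm)]
        exact zero_mem _)).symm
    · obtain ⟨y, hy, e⟩ := hPimg _ (hres (ap g x'))
      have h1 := congrArg (proj Q (D m)) e
      rw [map_sub, map_sub, hd.comp_self hm', hd.comp_other (Ne.symm hmj) (hj x' hx'),
        hd.comp_other (Ne.symm hmj) (hj y hy), hd.comp_other (Ne.symm hml) hy, sub_zero,
        sub_zero] at h1
      exact hx'0 (ap_inj g ((ap_inj g (h1.trans (ap_zero g).symm)).trans (ap_zero g).symm))
  have hback : ∀ x ∈ D l, ap g (ap g x) = x := by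
    intro x hx
    have hm' : ap g (ap g x) ∈ D l := hml ▸ hm _ (hj x hx)
    obtain ⟨y, hy, e⟩ := hPimg _ (hres (ap g x))
    have h1 := congrArg (proj Q (D l)) e
    have h2 := congrArg (proj Q (D j)) e
    rw [map_sub, map_sub, hd.comp_self hm', hd.comp_other hjl (hj x hx),
      hd.comp_other hjl (hj y hy), hd.comp_self hy, sub_zero, zero_sub] at h1
    rw [map_sub, map_sub, hd.comp_other (Ne.symm hjl) hm', hd.comp_self (hj x hx),
      hd.comp_self (hj y hy), hd.comp_other (Ne.symm hjl) hy, sub_zero, zero_sub,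
      ← neg_one_smul F (ap g x), ← ap_smul] at h2
    rw [h1, ← ap_inj g h2, neg_one_smul, neg_neg]
  have hinvol : ∀ x, ap g (ap g x) = x := by
    intro x
    have hy : x ∈ iSup D := by rw [hd.top]; trivial
    induction hy using Submodule.iSup_induction' with
    | zero => rw [ap_zero, ap_zero]
    | add p q _ _ hp hq => rw [ap_add, ap_add, hp, hq]
    | mem i z hz =>
      by_cases hil : i = l
      · subst hil; exact hback z hz
      by_cases hij : i = j
      · subst hij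
        obtain ⟨x, hx, rfl⟩ := himg z hz
        rw [hback x hx]
      · have hzfix : ap g z = z := by
          rw [← sub_eq_zero]
          obtain ⟨n, hn⟩ := hg i
          obtain ⟨y, hy', e⟩ := hPimg _ (hres z)
          have h1 := congrArg (proj Q (D i)) e
          rw [map_sub, map_sub, hd.comp_self hz, hd.comp_other (Ne.symm hij) (hj y hy'),
            hd.comp_other (Ne.symm hil) hy', sub_zero, sub_eq_zero] at h1
          by_cases hni : n = i
          · subst hni
            rw [hd.comp_self (hn z hz)] at h1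
            rw [h1, sub_self]
          · rw [hd.comp_other hni (hn z hz)] at h1
            rw [← h1, ap_zero, sub_zero]
        rw [hzfix, hzfix]
  -- commuting reflections are perpendicular
  have hcomm : r * s * r = s := by
    have h1 : g * g = 1 := ext_ap fun x => by rw [ap_mul, hinvol, ap_one]
    calc r * s * r = g * g * s⁻¹ := by rw [hgdef]; group
      _ = s := by rw [h1, one_mul, refl_inv hs]
  have hR := refl_image hr hs
  rw [hcomm] at hR
  obtain ⟨v, hv⟩ : ∃ v, v = ap r w := ⟨_, rfl⟩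
  rw [← hv] at hR
  have hv' : v = w - ((Q u)⁻¹ * B u w) • u := by rw [hv, hr.2]
  obtain ⟨κ, hκ⟩ : ∃ κ, κ = (Q u)⁻¹ * B u w := ⟨_, rfl⟩
  rw [← hκ] at hv'
  have h1 : ap s v = -v := refl_self hR
  rw [hs.2 v] at h1
  obtain ⟨c, hc⟩ : ∃ c, c = (Q w)⁻¹ * B w v := ⟨_, rfl⟩
  rw [← hc, hv'] at h1
  have h2 : (2 * κ) • u = (2 - c) • w := by linear_combination (norm := module) -h1
  have hκ0 : κ ≠ 0 := hκ ▸ mul_ne_zero (inv_ne_zero hr.1) hβ
  by_cases h20 : (2 : F) * κ = 0
  · have h2' : (2 : F) = 0 := (mul_eq_zero.1 h20).resolve_right hκ0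
    rw [h20, zero_smul, eq_comm, smul_eq_zero, h2', zero_sub, neg_eq_zero] at h2
    have hc0 : c = 0 := h2.resolve_right fun e => hs.1 (by rw [e, QuadraticMap.map_zero])
    rw [hc, hv', b_sub_right, b_smul_right, b_self, h2', zero_mul, zero_sub, mul_neg, neg_eq_zero,
      b_comm w u] at hc0
    exact mul_ne_zero (inv_ne_zero hs.1) (mul_ne_zero hκ0 hβ) hc0
  · refine hind ((2 * κ)⁻¹ * (2 - c)) ?_
    rw [← smul_smul, ← h2, smul_smul, inv_mul_cancel₀ h20, one_smul]

variable {M : Subgroup (Grp Q)}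

/-- Only member vectors related: the overgroup permutes the planes. -/
theorem perm_of_not_mix2 (ht : 5 ≤ t)
    (hbig : 7 ≤ Nat.card F ∨ ∀ i, NoSing Q (D i))
    (hM : ∀ g, g ∈ Cfsg.Omega F ⇑Q → Perm D g → g ∈ M)
    (hno : ∀ x, Mx M D x → Blk D x) {g : Grp Q} (hg : g ∈ M) : Perm D g := by
  classical
  cases nonempty_fintype F
  have hrel : ∀ c ∈ M, ∀ x b, Blk D x → Blk D b → Cls Q (Q b) x → Q b ≠ 0 →
      Rel M (ap c x) (ap c b) := fun c hc x b hx hb hxc hQb =>
    rel_conj hc (hd.rel_blk hM hx hb hxc.1 hQb (by rw [mul_comm]; exact hxc.2))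
  have hfixed : ∀ c ∈ M, ∀ b, Blk D b → Q b ≠ 0 → ap c b = b → Perm D c := by
    intro c hc b hb hQb hcb
    refine perm_of_cls2 hd h3 hQb fun x hx hxc => hno _ ⟨cls_self (by rw [ap_q]; exact hxc.1),
      b, hb, ⟨hQb, by rw [ap_q, mul_comm]; exact hxc.2⟩, ?_⟩
    have := hrel c hc x b hx hb hxc hQb
    rwa [hcb] at this
  by_contra hgP
  have hmoved : ∀ g ∈ M, ¬ Perm D g → ∀ z, Blk D z → Q z ≠ 0 → ¬ Blk D (ap g z) := by
    intro g hg hgP z hz hQz hgz
    refine hgP (perm_of_cls2 hd h3 hQz fun x hx hxc => hno _ ⟨cls_self (by rw [ap_q]; exact hxc.1),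
      _, hgz, ⟨by rw [ap_q]; exact hQz, by rw [ap_q, ap_q, mul_comm]; exact hxc.2⟩,
      hrel g hg x z hx hz hxc hQz⟩)
  have hinvP : ∀ g : Grp Q, ¬ Perm D g → ¬ Perm D g⁻¹ := by
    intro g hgP h
    apply hgP
    rw [hd.perm_iff] at h ⊢
    have := Subgroup.inv_mem _ h
    rwa [← Subgroup.coe_inv, inv_inv] at this
  have hconj : ∀ g ∈ M, ∀ z, Blk D z → Q z ≠ 0 → ∀ x y (r s : Grp Q), Blk D x → Blk D y →
      IsSquare (Q x * Q y) → IsRefl x r → IsRefl y s → B x (ap g z) = 0 → B y (ap g z) = 0 →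
      ∃ r' s' : Grp Q, IsRefl (ap g⁻¹ x) r' ∧ IsRefl (ap g⁻¹ y) s' ∧ Perm D (r' * s') := by
    intro g hg z hz hQz x y r s hx hy hsq hr hs hxz hyz
    refine ⟨_, _, refl_conj hr g⁻¹, refl_conj hs g⁻¹, hfixed _ ?_ z hz hQz ?_⟩
    · rw [show g⁻¹ * r * g⁻¹⁻¹ * (g⁻¹ * s * g⁻¹⁻¹) = g⁻¹ * (r * s) * g by group]
      exact M.mul_mem (M.mul_mem (M.inv_mem hg)
        ((hd.rel_blk hM hx hy hr.1 hs.1 hsq).2.2 r s hr hs)) hg
    · rw [show g⁻¹ * r * g⁻¹⁻¹ * (g⁻¹ * s * g⁻¹⁻¹) = g⁻¹ * (r * s) * g by group, ap_mul, ap_mul,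
        ap_mul, refl_fix hs hyz, refl_fix hr hxz, ap_inv_ap]
  have hfull : ∀ g ∈ M, ¬ Perm D g → ∀ z, Blk D z → Q z ≠ 0 → ∀ c,
      proj Q (D c) (ap g z) ≠ 0 := by
    intro g hg hgP z hz hQz c hc
    obtain ⟨x, hx, y, hy, hxc, hyc, hβ, hind⟩ := exists_mate2 hd h3 c (one_ne_zero (α := F))
    obtain ⟨r, hr⟩ := exists_refl hd.nd hxc.1
    obtain ⟨s, hs⟩ := exists_refl hd.nd hyc.1
    have hperp : ∀ v ∈ D c, B v (ap g z) = 0 := fun v hv => by
      rw [b_comm, ← hd.b_comp c _ hv, hc, b_zero_left]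
    obtain ⟨r', s', hr', hs', hP⟩ := hconj g hg z hz hQz y x s r ⟨c, hy⟩ ⟨c, hx⟩
      (cls_pair one_ne_zero hyc hxc) hs hr (hperp y hy) (hperp x hx)
    refine hmoved g⁻¹ (M.inv_mem hg) (hinvP g hgP) y ⟨c, hy⟩ hyc.1
      ((pair_supp2 hd hr' hs' ?_ hP).2 ?_)
    · exact fun e he => hind e (ap_inj g⁻¹ (he.trans (ap_smul _ _ _).symm))
    · rw [ap_b, b_comm]; exact hβ
  -- three members in which one image is anisotropic
  have hthree : ∀ (z : ι → F) (a : Fin 3 → Fin t), Function.Injective a →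
      (∀ k, Q (proj Q (D (a k)) (ap g z)) ≠ 0) →
      ∃ l m, l ≠ m ∧ ∃ p ∈ D l, ∃ p' ∈ D m, p ≠ 0 ∧ B p (ap g z) = 0 ∧ B p' (ap g z) = 0 ∧
        Q p ≠ 0 ∧ Q p' ≠ 0 ∧ IsSquare (Q p * Q p') := by
    intro z a hainj hA
    choose p hp hp0 hpz hQp using fun k => (plane hd (a k)).exists_perp (hd.comp_mem _ (ap g z)) (hA k)
    have hperp : ∀ l, B (p l) (ap g z) = 0 := fun l => by
      rw [b_comm, ← hd.b_comp (a l) _ (hp l)]; exact hpz l
    obtain ⟨i, j, hij, hsq⟩ : ∃ i j, i ≠ j ∧ IsSquare (Q (p i) * Q (p j)) := by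
      by_contra hh
      push Not at hh
      have h01 := hh 0 1 (by decide)
      have h02 := hh 0 2 (by decide)
      have h12 := hh 1 2 (by decide)
      rw [isSquare_mul_iff (hQp _)] at h01 h02 h12
      simp only [hQp, false_or] at h01 h02 h12
      tauto
    exact ⟨a i, a j, hainj.ne hij, p i, hp i, p j, hp j, hp0 i, hperp i, hperp j, hQp i, hQp j, hsq⟩
  obtain ⟨i₀, z, hz, hQz, l, m, hlm, p, hp, p', hp', hp0, hpz, hpz', hQp, hQp', hsq⟩ :
      ∃ i₀, ∃ z ∈ D i₀, Q z ≠ 0 ∧ ∃ l m, l ≠ m ∧ ∃ p ∈ D l, ∃ p' ∈ D m, p ≠ 0 ∧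
        B p (ap g z) = 0 ∧ B p' (ap g z) = 0 ∧ Q p ≠ 0 ∧ Q p' ≠ 0 ∧ IsSquare (Q p * Q p') := by
    set i₀ : Fin t := ⟨0, by omega⟩ with hi₀
    by_cases hns : ∀ i, NoSing Q (D i)
    · obtain ⟨z, hz, hzc⟩ := hd.exists_cls i₀ (one_ne_zero (α := F))
      exact ⟨i₀, z, hz, hzc.1, hthree z (fun k => ⟨k, by omega⟩)
        (fun a b h => Fin.ext (congrArg Fin.val h :))
        fun k h => hfull g hg hgP z ⟨_, hz⟩ hzc.1 _ (hns _ _ (hd.comp_mem _ _) h)⟩
    have hq : 7 ≤ Nat.card F := hbig.resolve_right hns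
    let Deg : Grp Q → Fin t → Fin t → Prop := fun g l i => ∀ w ∈ D i, Q (proj Q (D l) (ap g w)) = 0
    have hrow : ∀ g ∈ M, ¬ Perm D g → ∀ l n₁ n₂ n₃, n₁ ≠ n₂ → n₁ ≠ n₃ → n₂ ≠ n₃ →
        Deg g l n₁ → Deg g l n₂ → Deg g l n₃ → False := by
      intro g hg hgP l n₁ n₂ n₃ h12 h13 h23 d1 d2 d3
      have hsing : ∀ n, Deg g l n → ∃ z ∈ D n, Q z ≠ 0 ∧ proj Q (D l) (ap g z) ≠ 0 ∧
          Q (proj Q (D l) (ap g z)) = 0 := fun n hn => by
        obtain ⟨z, hz, hzc⟩ := hd.exists_cls n (one_ne_zero (α := F))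
        exact ⟨z, hz, hzc.1, hfull g hg hgP z ⟨_, hz⟩ hzc.1 l, hn z hz⟩
      obtain ⟨z₁, hz₁, hQ₁, hs₁, hq₁⟩ := hsing n₁ d1
      obtain ⟨z₂, hz₂, hQ₂, hs₂, hq₂⟩ := hsing n₂ d2
      obtain ⟨z₃, hz₃, hQ₃, hs₃, hq₃⟩ := hsing n₃ d3
      have key : ∀ n m (z s : ι → F), m ≠ n → z ∈ D n → Q z ≠ 0 → Deg g l m →
          proj Q (D l) (ap g z) = s → Q s = 0 → s ≠ 0 →
          (∃ w ∈ D m, ∃ c : F, proj Q (D l) (ap g w) = c • s ∧ c ≠ 0) → False := by
        intro n m z s hmn hz hQz hdm hzs hQs hs0 ⟨w₀, hw₀, c₀, hw₀s, hc₀⟩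
        have hsl : s ∈ D l := hzs ▸ hd.comp_mem _ _
        have himg : ∀ w ∈ D m, B s (proj Q (D l) (ap g w)) = 0 := by
          intro w hw
          have h1 := hdm _ ((D m).add_mem hw hw₀)
          rw [ap_add, map_add, q_add, hdm w hw, hdm w₀ hw₀, hw₀s, b_smul_right, zero_add,
            zero_add, mul_eq_zero] at h1
          rw [b_comm]
          exact h1.resolve_left hc₀
        obtain ⟨x, hx, y, hy, hxc, hyc, hβ, hind⟩ := exists_mate2 hd h3 l (one_ne_zero (α := F))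
        obtain ⟨r, hr⟩ := exists_refl hd.nd hxc.1
        obtain ⟨s', hs'⟩ := exists_refl hd.nd hyc.1
        have hgM : g⁻¹ * (r * s') * g ∈ M := M.mul_mem (M.mul_mem (M.inv_mem hg)
          ((hd.rel_blk hM ⟨l, hx⟩ ⟨l, hy⟩ hxc.1 hyc.1 (cls_pair one_ne_zero hxc hyc)).2.2 r s' hr hs'))
          hg
        have hnP : ¬ Perm D (g⁻¹ * (r * s') * g) := by
          intro hP
          have e : g⁻¹ * (r * s') * g = (g⁻¹ * r * g⁻¹⁻¹) * (g⁻¹ * s' * g⁻¹⁻¹) := by group
          rw [e] at hP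
          refine hmoved g⁻¹ (M.inv_mem hg) (hinvP g hgP) x ⟨l, hx⟩ hxc.1
            ((pair_supp2 hd (refl_conj hr g⁻¹) (refl_conj hs' g⁻¹) ?_ hP).2 ?_)
          · intro c hc
            have hxy : x = c • y := ap_inj g⁻¹ (hc.trans (ap_smul _ _ _).symm)
            by_cases hc0 : c = 0
            · exact hxc.1 (by rw [hxy, hc0, zero_smul, QuadraticMap.map_zero])
            · exact hind c⁻¹ (by rw [hxy, smul_smul, inv_mul_cancel₀ hc0, one_smul])
          · rw [ap_b]; exact hβ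
        -- the product maps the singular vector to a multiple
        obtain ⟨lam, hlam⟩ : ∃ lam : F, ap (r * s') s = lam • s := by
          have hmem : ∀ (v : ι → F) (rr : Grp Q) (x : ι → F), x ∈ D l → IsRefl x rr → v ∈ D l →
              ap rr v ∈ D l := fun v rr x hx hrr hv => by
            rw [hrr.2]; exact (D l).sub_mem hv ((D l).smul_mem _ hx)
          have hflip : ∀ (v : ι → F) (rr : Grp Q) (x : ι → F), x ∈ D l → IsRefl x rr → v ∈ D l →
              v ≠ 0 → Q v = 0 → ∀ c : F, ap rr v ≠ c • v := by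
            intro v rr x hx hrr hv hv0 hQv c hc
            rw [hrr.2] at hc
            have h1 : ((Q x)⁻¹ * B x v) • x = (1 - c) • v := by
              linear_combination (norm := module) -hc
            have h2 := congrArg Q h1
            rw [q_smul, q_smul, hQv, mul_zero, mul_eq_zero] at h2
            have h3 := mul_self_eq_zero.1 (h2.resolve_right hrr.1)
            have h4 : B v x = 0 := by
              rw [b_comm]
              exact (mul_eq_zero.1 h3).resolve_left (inv_ne_zero hrr.1)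
            obtain ⟨e, he⟩ := (plane hd l).sing_perp hv hx hv0 hQv h4
            exact hrr.1 (by rw [he, q_smul, hQv, mul_zero])
          have hne : ap s' s ≠ 0 := fun e => hs0 (ap_inj s' (e.trans (ap_zero s').symm))
          rcases (plane hd l).sing_two hsl (hmem s s' y hy hs' hsl)
            (hmem _ r x hx hr (hmem s s' y hy hs' hsl)) hs0 hne hQs (by rw [ap_q]; exact hQs)
            (by rw [ap_q, ap_q]; exact hQs) with ⟨c, hc⟩ | ⟨c, hc⟩ | ⟨c, hc⟩
          · exact absurd hc (hflip s s' y hy hs' hsl hs0 hQs c)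
          · exact ⟨c, by rw [ap_mul]; exact hc⟩
          · exact absurd hc (hflip _ r x hx hr (hmem s s' y hy hs' hsl) hne (by rw [ap_q]; exact hQs) c)
        refine hfull _ hgM hnP z ⟨n, hz⟩ hQz m ?_
        -- the component in `m` vanishes
        have hv : ap (r * s') (ap g z) = ap g z + (lam - 1) • s := by
          conv_lhs => rw [← add_sub_cancel (proj Q (D l) (ap g z)) (ap g z)]
          have hfix : ∀ v, v ∈ Orth.orth Q (D l) → ap (r * s') v = v := fun v hv => by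
            rw [ap_mul, refl_fix hs' (hv y hy), refl_fix hr (hv x hx)]
          rw [ap_add, hzs, hlam, hfix _ (hzs ▸ hd.sub_mem_orth l (ap g z))]
          module
        rw [ap_mul, ap_mul, hv, ap_add, ap_inv_ap, ap_smul, map_add, map_smul,
          hd.comp_other (Ne.symm hmn) hz, zero_add]
        convert smul_zero (lam - 1)
        refine hd.nondeg m _ (hd.comp_mem m _) fun w hw => ?_
        rw [hd.b_comp m _ hw, ap_b_left, inv_inv, b_comm, ← hd.b_comp l _ hsl, b_comm]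
        exact himg w hw
      have h1l := hd.comp_mem l (ap g z₁)
      have h2l := hd.comp_mem l (ap g z₂)
      have h3l := hd.comp_mem l (ap g z₃)
      rcases (plane hd l).sing_two h1l h2l h3l hs₁ hs₂ hq₁ hq₂ hq₃ with ⟨c, hc⟩ | ⟨c, hc⟩ | ⟨c, hc⟩
      · exact key n₁ n₂ z₁ _ h12.symm hz₁ hQ₁ d2 rfl hq₁ hs₁
          ⟨z₂, hz₂, c, hc, fun e => hs₂ (by rw [hc, e, zero_smul])⟩
      · exact key n₁ n₃ z₁ _ h13.symm hz₁ hQ₁ d3 rfl hq₁ hs₁
          ⟨z₃, hz₃, c, hc, fun e => hs₃ (by rw [hc, e, zero_smul])⟩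
      · exact key n₂ n₃ z₂ _ h23.symm hz₂ hQ₂ d3 rfl hq₂ hs₂
          ⟨z₃, hz₃, c, hc, fun e => hs₃ (by rw [hc, e, zero_smul])⟩
    have htrans : ∀ l, Deg g l i₀ → Deg g⁻¹ i₀ l := by
      intro l hdeg w hw
      -- the kernel of the block is a singular line
      obtain ⟨x, hx, y, hy, hxc, -, -, hind⟩ := exists_mate2 hd h3 i₀ (one_ne_zero (α := F))
      have hxne : x ≠ 0 := fun e => hxc.1 (by rw [e, QuadraticMap.map_zero])
      obtain ⟨z₀, hz₀, hz₀c⟩ := hd.exists_cls i₀ (one_ne_zero (α := F))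
      obtain ⟨s, hsdef⟩ : ∃ s, s = proj Q (D l) (ap g z₀) := ⟨_, rfl⟩
      have hs0 : s ≠ 0 := hsdef ▸ hfull g hg hgP z₀ ⟨_, hz₀⟩ hz₀c.1 l
      have hQs : Q s = 0 := hsdef ▸ hdeg z₀ hz₀
      have hline : ∀ v ∈ D i₀, ∃ c : F, proj Q (D l) (ap g v) = c • s := by
        intro v hv
        refine (plane hd l).sing_perp (hsdef ▸ hd.comp_mem _ _) (hd.comp_mem _ _) hs0 hQs ?_
        have h1 := hdeg _ ((D i₀).add_mem hz₀ hv)
        rw [ap_add, map_add, q_add, ← hsdef, hdeg v hv, hQs, zero_add, zero_add] at h1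
        exact h1
      obtain ⟨cx, hcx⟩ := hline x hx
      obtain ⟨cy, hcy⟩ := hline y hy
      obtain ⟨n, hn, hn0, hgn⟩ : ∃ n ∈ D i₀, n ≠ 0 ∧ proj Q (D l) (ap g n) = 0 := by
        by_cases e : cx = 0
        · refine ⟨x, hx, fun e0 => ?_, by rw [hcx, e, zero_smul]⟩
          exact hxne e0
        · refine ⟨cy • x - cx • y, (D i₀).sub_mem ((D i₀).smul_mem _ hx) ((D i₀).smul_mem _ hy),
            fun e0 => hind (cy / cx) ?_, ?_⟩
          · rw [sub_eq_zero] at e0
            rw [div_eq_inv_mul, ← smul_smul, e0, smul_smul, inv_mul_cancel₀ e, one_smul]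
          · rw [ap_sub, ap_smul, ap_smul, map_sub, map_smul, map_smul, hcx, hcy]; module
      have hQn : Q n = 0 := by
        by_contra h
        exact hfull g hg hgP n ⟨_, hn⟩ h l hgn
      obtain ⟨c, hc⟩ := (plane hd i₀).sing_perp hn (hd.comp_mem i₀ (ap g⁻¹ w)) hn0 hQn (by
        rw [b_comm, hd.b_comp i₀ _ hn, ap_b_left, inv_inv, b_comm, ← hd.b_comp l _ hw, hgn,
          b_zero_left])
      rw [hc, q_smul, hQn, mul_zero]
    obtain ⟨L, hL, hLdeg⟩ : ∃ L : Finset (Fin t), 3 ≤ L.card ∧ ∀ l, l ∈ L ↔ ¬ Deg g l i₀ := by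
      refine ⟨Finset.univ.filter fun l => ¬ Deg g l i₀, ?_, fun l => by simp⟩
      have h1 := Finset.card_filter_add_card_filter_not (s := (Finset.univ : Finset (Fin t)))
        (fun l => ¬ Deg g l i₀)
      rw [Finset.card_univ, Fintype.card_fin] at h1
      have h2 : (Finset.univ.filter fun l => ¬ ¬ Deg g l i₀).card ≤ 2 := by
        by_contra hc
        push Not at hc
        obtain ⟨n₁, n₂, n₃, m1, m2, m3, e12, e13, e23⟩ := Finset.two_lt_card_iff.1 hc
        simp only [Finset.mem_filter, Finset.mem_univ, true_and, not_not] at m1 m2 m3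
        exact hrow g⁻¹ (M.inv_mem hg) (hinvP g hgP) i₀ n₁ n₂ n₃ e12 e13 e23 (htrans _ m1)
          (htrans _ m2) (htrans _ m3)
      omega
    -- a frame of singular vectors
    obtain ⟨e, he, he0, hQe⟩ : ∃ e ∈ D i₀, e ≠ 0 ∧ Q e = 0 := by
      push Not at hns
      obtain ⟨i, hi⟩ := hns
      simp only [NoSing, not_forall] at hi
      obtain ⟨s, hs, hQs, hs0⟩ := hi
      obtain ⟨φ, hφ⟩ := hd.iso i i₀
      exact ⟨_, (φ ⟨s, hs⟩).2, fun e0 => hs0 (congrArg Subtype.val
        ((LinearEquiv.map_eq_zero_iff φ).1 (Subtype.ext e0 : φ ⟨s, hs⟩ = 0))), by rw [hφ]; exact hQs⟩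
    obtain ⟨f₀, hf₀, hf₀e, hef₀⟩ := (plane hd i₀).exists_frame he he0
    obtain ⟨f, hfdef⟩ : ∃ f, f = f₀ - Q f₀ • e := ⟨_, rfl⟩
    have hf : f ∈ D i₀ := hfdef ▸ (D i₀).sub_mem hf₀ ((D i₀).smul_mem _ he)
    have hef : B e f = 1 := by rw [hfdef, b_sub_right, b_smul_right, hef₀, b_self_zero hQe]; ring
    have hQf : Q f = 0 := by
      rw [hfdef, q_sub, q_smul, hQe, b_smul_right, b_comm f₀, hef₀]; ring
    have hfe : f ∉ Submodule.span F {e} := fun h => by
      obtain ⟨c, hc⟩ := Submodule.mem_span_singleton.1 h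
      rw [← hc, b_smul_right, b_self_zero hQe, mul_zero] at hef
      exact zero_ne_one hef
    let bad : F → Fin t → Prop := fun x l => Q (proj Q (D l) (ap g (e + x • f))) = 0
    have hbad : ∀ l ∈ L, (Finset.univ.filter fun x : F => bad x l).card ≤ 2 := by
      intro l hl
      obtain ⟨pe, hpe⟩ : ∃ p, p = proj Q (D l) (ap g e) := ⟨_, rfl⟩
      obtain ⟨pf, hpf⟩ : ∃ p, p = proj Q (D l) (ap g f) := ⟨_, rfl⟩
      have hval : ∀ x : F, Q (proj Q (D l) (ap g (e + x • f))) =
          Q pf * (x * x) + B pe pf * x + Q pe := fun x => by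
        rw [ap_add, ap_smul, map_add, map_smul, ← hpe, ← hpf, q_add, q_smul, b_smul_right]; ring
      refine le_trans (Finset.card_le_card fun x hx => ?_) (card_roots (α := Q pf) (β := B pe pf)
        (γ := Q pe) ?_)
      · rw [Finset.mem_filter] at hx ⊢
        exact ⟨hx.1, by rw [← hval]; exact hx.2⟩
      by_contra h
      push Not at h
      refine (hLdeg l).1 hl fun w hw => ?_
      obtain ⟨p, q, rfl⟩ := (plane hd i₀).coords he hf he0 hfe hw
      rw [ap_add, ap_smul, ap_smul, map_add, map_smul, map_smul, ← hpe, ← hpf, q_add, q_smul,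
        q_smul, b_smul_left, b_smul_right, b_comm pf, h.1, h.2.1, h.2.2]
      ring
    set X := (Finset.univ : Finset F).erase 0 with hX
    have hXc : Fintype.card F = X.card + 1 := by
      rw [hX, Finset.card_erase_add_one (Finset.mem_univ _), Finset.card_univ]
    have hzx : ∀ x : F, e + x • f ∈ D i₀ ∧ Q (e + x • f) = x := fun x =>
      ⟨(D i₀).add_mem he ((D i₀).smul_mem _ hf),
        by rw [q_add, q_smul, hQe, hQf, b_smul_right, hef]; ring⟩
    rw [Nat.card_eq_fintype_card] at hq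
    by_cases hcase : L.card = 3 ∧ Fintype.card F = 7
    · -- three quadratics over the field of seven elements
      obtain ⟨hL3, h7⟩ := hcase
      have h20 : (2 : F) ≠ 0 := fun h2 => by
        have := FiniteField.even_card_of_char_two (F := F) (ringChar.eq F 2 (C :=
          CharTwo.of_one_ne_zero_of_two_eq_zero one_ne_zero h2))
        omega
      obtain ⟨em, hemdef⟩ : ∃ em : Fin 3 ↪o Fin t, em = L.orderEmbOfFin hL3 := ⟨_, rfl⟩
      have hemL : ∀ k, em k ∈ L := fun k => hemdef ▸ Finset.orderEmbOfFin_mem L hL3 k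
      obtain ⟨pe, hpe⟩ : ∃ p : Fin t → ι → F, p = fun l => proj Q (D l) (ap g e) := ⟨_, rfl⟩
      obtain ⟨pf, hpf⟩ : ∃ p : Fin t → ι → F, p = fun l => proj Q (D l) (ap g f) := ⟨_, rfl⟩
      have hval : ∀ (l : Fin t) (x : F), Q (proj Q (D l) (ap g (e + x • f))) =
          Q (pf l) * (x * x) + B (pe l) (pf l) * x + Q (pe l) := fun l x => by
        rw [ap_add, ap_smul, map_add, map_smul, hpe, hpf, q_add, q_smul, b_smul_right]; ring
      have hsumQ : ∀ u : ι → F, Q u = ∑ l, Q (proj Q (D l) u) := by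
        intro u
        suffices h : ∀ s : Finset (Fin t), Q (∑ l ∈ s, proj Q (D l) u) = ∑ l ∈ s, Q (proj Q (D l) u) by
          conv_lhs => rw [← hd.sum_comp u]
          exact h _
        intro s
        induction s using Finset.induction_on with
        | empty => rw [Finset.sum_empty, Finset.sum_empty, QuadraticMap.map_zero]
        | insert q s hq ih =>
          rw [Finset.sum_insert hq, Finset.sum_insert hq, q_add, ih,
            ← QuadraticMap.polarBilin_apply_apply, map_sum]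
          refine add_eq_left.2 (Finset.sum_eq_zero fun l hl => ?_)
          exact hd.orth q l (fun e => hq (e ▸ hl)) _ (hd.comp_mem q u) _ (hd.comp_mem l u)
      obtain ⟨x, hx0, i, j, hij, hi, hj, hsqij⟩ := seven h7 (fun k => Q (pf (em k)))
        (fun k => B (pe (em k)) (pf (em k))) (fun k => Q (pe (em k)))
        (fun k => by
          by_contra h
          push Not at h
          refine (hLdeg (em k)).1 (hemL k) fun w hw => ?_
          obtain ⟨α, β, rfl⟩ := (plane hd i₀).coords he hf he0 hfe hw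
          have h1 := h.1
          have h2 := h.2.1
          have h3 := h.2.2
          rw [hpe, hpf] at *
          simp only at h1 h2 h3
          rw [ap_add, ap_smul, ap_smul, map_add, map_smul, map_smul, q_add, q_smul, q_smul,
            b_smul_left, b_smul_right, b_comm, h1, h2, h3]
          ring)
        (fun x => by
          simp only [← hval]
          conv_rhs => rw [← (hzx x).2, ← ap_q g, hsumQ (ap g (e + x • f))]
          rw [← Finset.sum_subset (Finset.subset_univ L)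
            fun l _ hl => not_not.1 (fun h => hl ((hLdeg l).2 fun h' => h (h' _ (hzx x).1)))]
          rw [← Finset.map_orderEmbOfFin_univ L hL3, Finset.sum_map]
          rw [hemdef]
          rfl)
      rw [← hval] at hi hj hsqij
      rw [← hval] at hsqij
      obtain ⟨p, hp, hp0, hpz, hQp⟩ := (plane hd (em i)).exists_perp (hd.comp_mem _ _) hi
      obtain ⟨p', hp', -, hpz', hQp'⟩ := (plane hd (em j)).exists_perp (hd.comp_mem _ _) hj
      refine ⟨i₀, _, (hzx x).1, by rw [(hzx x).2]; exact hx0, em i, em j, em.injective.ne hij, p, hp,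
        p', hp', hp0, by rw [b_comm, ← hd.b_comp _ _ hp]; exact hpz,
        by rw [b_comm, ← hd.b_comp _ _ hp']; exact hpz', hQp, hQp', ?_⟩
      obtain ⟨r, hr⟩ := same_disc hd (hd.comp_mem _ _) hp hpz hi hQp (hd.comp_mem _ _) hp' hpz' hj hQp' h20
      obtain ⟨s, hs⟩ := hsqij
      have hs0 : s ≠ 0 := fun e => mul_ne_zero hi hj (by rw [hs, e, mul_zero])
      refine ⟨r / s, ?_⟩
      rw [div_mul_div_comm, eq_div_iff (mul_ne_zero hs0 hs0), ← hs, ← hr]
      ring
    obtain ⟨x, hx, hgood⟩ : ∃ x ∈ X, 3 ≤ (L.filter fun l => ¬ bad x l).card := by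
      obtain ⟨L', hL', hL'c, hnum⟩ : ∃ L' ⊆ L, ∃ n : ℕ, L'.card = 3 + n ∧ 2 * (3 + n) < X.card * (n + 1) := by
        by_cases h4 : 4 ≤ L.card
        · obtain ⟨L', hL', h⟩ := Finset.exists_subset_card_eq h4
          exact ⟨L', hL', 1, h, by omega⟩
        · exact ⟨L, subset_rfl, 0, by omega, by omega⟩
      obtain ⟨hcardL, hnum⟩ := hnum
      by_contra hc
      push Not at hc
      have hsum := Finset.sum_le_sum (s := X) (f := fun _ => hL'c + 1)
        (g := fun x => (L'.filter fun l => bad x l).card) fun x hx => by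
          have h1 := Finset.card_le_card (Finset.filter_subset_filter (fun l => ¬ bad x l) hL')
          have h2 := Finset.card_filter_add_card_filter_not (s := L') (fun l => bad x l)
          have := hc x hx
          omega
      rw [Finset.sum_const, smul_eq_mul] at hsum
      have hsw : ∑ x ∈ X, (L'.filter fun l => bad x l).card =
          ∑ l ∈ L', (X.filter fun x => bad x l).card :=
        Finset.sum_card_bipartiteAbove_eq_sum_card_bipartiteBelow _
      rw [hsw] at hsum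
      have hle := Finset.sum_le_card_nsmul L' (fun l => (X.filter fun x => bad x l).card) 2
        fun l hl => le_trans (Finset.card_le_card (Finset.filter_subset_filter _
          (Finset.subset_univ _))) (hbad l (hL' hl))
      rw [smul_eq_mul, hcardL] at hle
      omega
    obtain ⟨G, hG, hG3⟩ := Finset.exists_subset_card_eq hgood
    have hx0 : x ≠ 0 := Finset.ne_of_mem_erase (hX ▸ hx)
    refine ⟨i₀, e + x • f, (hzx x).1, by rw [(hzx x).2]; exact hx0,
      hthree _ (fun k => G.orderEmbOfFin hG3 k) (G.orderEmbOfFin hG3).injective fun k => ?_⟩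
    exact (Finset.mem_filter.1 (hG (Finset.orderEmbOfFin_mem G hG3 k))).2
  obtain ⟨r, hr⟩ := exists_refl hd.nd hQp
  obtain ⟨s, hs⟩ := exists_refl hd.nd hQp'
  obtain ⟨r', s', hr', hs', hP⟩ := hconj g hg z ⟨_, hz⟩ hQz p p' r s ⟨_, hp⟩ ⟨_, hp'⟩
    hsq hr hs hpz hpz'
  have hh3 := (pair_supp2 hd hr' hs' (fun e he => ?_) hP).1 (⟨0, by omega⟩ : Fin t) ⟨1, by omega⟩
    ⟨2, by omega⟩ (by simp) (by simp) (by simp)
  · have hne := hfull g⁻¹ (M.inv_mem hg) (hinvP g hgP) p ⟨_, hp⟩ hQp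
    rcases hh3 with h | h | h <;> exact hne _ h
  · have hxe : p = e • p' := ap_inj g⁻¹ (he.trans (ap_smul _ _ _).symm)
    have h0 := hd.comp_other hlm.symm ((D m).smul_mem e hp')
    rw [← hxe, hd.comp_self hp] at h0
    exact hp0 h0

end CfsgLib.Orth.PlanesMax
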