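import Cfsg.Agent.Lib.Classical.OrthPlanesMax.Plane

set_option autoImplicit false
set_option linter.unusedSectionVars false

/-!
Square values of a quadratic on the set of norms of differences in a plane.
-/

namespace CfsgLib.Orth.PlanesMax.Five

variable {F : Type*} [Field F] [Fintype F] [DecidableEq F]

/-- The norms of the differences, `K` the norm of a discriminant. -/
def Sv (K A : F) : Finset F :=
  Finset.univ.filter fun δ => IsSquare (K * δ * (4 * A - δ))

theorem mem_Sv {K A δ : F} : δ ∈ Sv K A ↔ IsSquare (K * δ * (4 * A - δ)) := by simp [Sv]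

theorem Sv_symm {K A δ : F} (h : δ ∈ Sv K A) : 4 * A - δ ∈ Sv K A := by
  rw [mem_Sv] at h ⊢
  convert h using 1
  ring

theorem zero_mem_Sv (K A : F) : (0 : F) ∈ Sv K A := by rw [mem_Sv, mul_zero, zero_mul]; exact IsSquare.zero

theorem four_mem_Sv (K A : F) : 4 * A ∈ Sv K A := by rw [mem_Sv, sub_self, mul_zero]; exact IsSquare.zero

theorem card_squares (h20 : (2 : F) ≠ 0) :
    2 * (Finset.univ.filter fun x : F => IsSquare x).card = Fintype.card F + 1 := by
  classical
  set U := (Finset.univ : Finset F).erase 0 with hU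
  have hU1 : U.card + 1 = Fintype.card F := by
    rw [hU, Finset.card_erase_add_one (Finset.mem_univ _), Finset.card_univ]
  have e : (Finset.univ.filter fun x : F => IsSquare x) = insert 0 (U.image fun u => u * u) := by
    ext x
    simp only [Finset.mem_filter, Finset.mem_univ, true_and, Finset.mem_insert, Finset.mem_image, hU,
      Finset.mem_erase, and_true]
    constructor
    · rintro ⟨r, rfl⟩
      by_cases hr : r = 0
      · left; rw [hr, mul_zero]
      · exact Or.inr ⟨r, hr, rfl⟩
    · rintro (rfl | ⟨r, -, rfl⟩)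
      exacts [IsSquare.zero, IsSquare.mul_self r]
  have h0 : (0 : F) ∉ U.image fun u => u * u := fun h => by
    obtain ⟨u, hu, e⟩ := Finset.mem_image.1 h
    exact Finset.ne_of_mem_erase hu (mul_self_eq_zero.1 e)
  have hfib : ∀ y ∈ U.image (fun u => u * u), (U.filter fun u => u * u = y).card = 2 := by
    intro y hy
    obtain ⟨u, hu, rfl⟩ := Finset.mem_image.1 hy
    have hu0 := Finset.ne_of_mem_erase hu
    have : (U.filter fun v => v * v = u * u) = {u, -u} := by
      ext v
      simp only [Finset.mem_filter, Finset.mem_insert, Finset.mem_singleton, hU, Finset.mem_erase,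
        Finset.mem_univ, and_true, mul_self_eq_mul_self_iff]
      constructor
      · exact fun h => h.2
      · rintro (rfl | rfl)
        exacts [⟨hu0, Or.inl rfl⟩, ⟨neg_ne_zero.2 hu0, Or.inr rfl⟩]
    rw [this, Finset.card_pair]
    intro h
    exact hu0 ((mul_eq_zero.1 (show (2 : F) * u = 0 by linear_combination h)).resolve_left h20)
  have h2 := Finset.mul_card_image_le_card U 2 fun y hy => (hfib y hy).ge
  have h3 := Finset.card_le_mul_card_image U 2 fun y hy => (hfib y hy).le
  rw [e, Finset.card_insert_of_notMem h0]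
  omega

theorem card_Sv (h20 : (2 : F) ≠ 0) {K A : F} (hK : K ≠ 0) (hA : A ≠ 0) :
    Fintype.card F ≤ 2 * ((Sv K A).erase 0).card + 1 ∧
      (¬ IsSquare (-K) → Fintype.card F + 1 ≤ 2 * ((Sv K A).erase 0).card) := by
  classical
  set P := (Finset.univ.filter fun x : F => IsSquare x).erase (-K) with hP
  have hne : ∀ s ∈ P, K + s ≠ 0 := fun s hs e => Finset.ne_of_mem_erase hs (by linear_combination e)
  have h4 : (4 : F) * A * K ≠ 0 := by
    refine mul_ne_zero (mul_ne_zero ?_ hA) hK
    rw [show (4 : F) = 2 * 2 by norm_num]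
    exact mul_ne_zero h20 h20
  have hsub : (P.image fun s => 4 * A * K / (K + s)) ⊆ (Sv K A).erase 0 := by
    intro δ hδ
    obtain ⟨s, hs, rfl⟩ := Finset.mem_image.1 hδ
    refine Finset.mem_erase.2 ⟨div_ne_zero h4 (hne s hs), mem_Sv.2 ?_⟩
    obtain ⟨r, hr⟩ := (Finset.mem_filter.1 (Finset.mem_of_mem_erase hs)).2
    refine ⟨4 * A * K * r / (K + s), ?_⟩
    have := hne s hs
    field_simp
    rw [hr]
    ring
  have hinj : Set.InjOn (fun s => 4 * A * K / (K + s)) (P : Set F) := fun x hx y hy h => by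
    simp only at h
    rw [div_eq_div_iff (hne x hx) (hne y hy)] at h
    exact add_left_cancel (mul_left_cancel₀ h4 h.symm)
  have h1 := Finset.card_le_card hsub
  rw [Finset.card_image_of_injOn hinj] at h1
  have h2 := card_squares (F := F) h20
  refine ⟨?_, fun h => ?_⟩
  · have := Finset.pred_card_le_card_erase (a := -K) (s := Finset.univ.filter fun x : F => IsSquare x)
    rw [← hP] at this
    omega
  · rw [hP, Finset.erase_eq_of_notMem (fun hm => h (Finset.mem_filter.1 hm).2), ← hP] at *
    omega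

/-- A flip among the norms of differences. -/
theorem exists_shift_nonsquare (h20 : (2 : F) ≠ 0) {K : F} (hK : K ≠ 0) :
    ∃ s : F, IsSquare s ∧ ¬ IsSquare (K + s) := by
  classical
  by_contra hc
  push Not at hc
  set T := Finset.univ.filter fun x : F => IsSquare x with hT
  have e : T.image (fun s => K + s) = T := by
    refine Finset.eq_of_subset_of_card_le (fun x hx => ?_)
      (Finset.card_image_of_injective _ (add_right_injective K)).ge
    obtain ⟨s, hs, rfl⟩ := Finset.mem_image.1 hx
    exact Finset.mem_filter.2 ⟨Finset.mem_univ _, hc s (Finset.mem_filter.1 hs).2⟩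
  have h1 := congrArg (fun S : Finset F => ∑ x ∈ S, x) e
  simp only [Finset.sum_image fun x _ y _ h => add_left_cancel h] at h1
  rw [Finset.sum_add_distrib, Finset.sum_const, nsmul_eq_mul, add_eq_right] at h1
  have h2 := congrArg (Nat.cast (R := F)) (card_squares (F := F) h20)
  rw [← hT] at h2
  push_cast at h2
  rw [FiniteField.cast_card_eq_zero, zero_add] at h2
  exact hK (by linear_combination 2 * h1 - K * h2)

/-- Translations preserving a set of half the size. -/
theorem shift_zero (T : Finset F) (h : F) (hT : 2 * T.card = Fintype.card F + 1)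
    (hh : ∀ x ∈ T, x + h ∈ T) : h = 0 := by
  have e : T.image (fun x => x + h) = T := Finset.eq_of_subset_of_card_le
    (fun x hx => by obtain ⟨y, hy, rfl⟩ := Finset.mem_image.1 hx; exact hh y hy)
    (Finset.card_image_of_injective _ (add_left_injective h)).ge
  have h1 := congrArg (fun S : Finset F => ∑ x ∈ S, x) e
  simp only [Finset.sum_image fun x _ y _ h' => add_right_cancel h', Finset.sum_add_distrib,
    Finset.sum_const, add_eq_left, nsmul_eq_mul] at h1
  have h2 := congrArg (Nat.cast (R := F)) hT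
  push_cast at h2
  rw [FiniteField.cast_card_eq_zero, zero_add] at h2
  linear_combination 2 * h1 - h * h2

/-- Square values of a quadratic without double root. -/
theorem card_quad (h20 : (2 : F) ≠ 0) {L E : F} (hL : L ≠ 0) (hE : E ≠ 0) (W : Finset F)
    (hW : ∀ w ∈ W, L * (w * w - E) ≠ 0 ∧ IsSquare (L * (w * w - E))) :
    2 * W.card ≤ Fintype.card F + 1 ∧
      (IsSquare E → 2 * W.card + 1 ≤ Fintype.card F ∧ (IsSquare L → 2 * W.card + 3 ≤ Fintype.card F)) := by
  classical
  obtain ⟨f, hf⟩ : ∃ f : F → F, f = fun u => (u + E / u) / 2 := ⟨_, rfl⟩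
  set U := (Finset.univ : Finset F).filter fun u => u ≠ 0 ∧ u * u ≠ E with hU
  have hUm : ∀ {u}, u ∈ U ↔ u ≠ 0 ∧ u * u ≠ E := fun {u} => by simp [hU]
  have hU1 : U.card + 1 ≤ Fintype.card F := by
    have h0 : U ⊆ (Finset.univ : Finset F).erase 0 := fun u hu =>
      Finset.mem_erase.2 ⟨(hUm.1 hu).1, Finset.mem_univ _⟩
    have := Finset.card_le_card h0
    rw [Finset.card_erase_of_mem (Finset.mem_univ _), Finset.card_univ] at this
    have := Fintype.card_pos (α := F)
    omega
  have hpair : ∀ r, E = r * r → r ≠ 0 ∧ r ≠ -r := by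
    intro r hr
    have hr0 : r ≠ 0 := fun h => hE (by rw [hr, h, mul_zero])
    exact ⟨hr0, fun h => hr0 ((mul_eq_zero.1 (show (2 : F) * r = 0 by
      linear_combination h)).resolve_left h20)⟩
  have hUroot : ∀ r, E = r * r → U.card + 3 = Fintype.card F := by
    intro r hr
    obtain ⟨hr0, hrr⟩ := hpair r hr
    have e : U = (Finset.univ : Finset F) \ {0, r, -r} := by
      ext u
      simp only [hUm, Finset.mem_sdiff, Finset.mem_univ, true_and, Finset.mem_insert,
        Finset.mem_singleton, not_or, hr, ne_eq, mul_self_eq_mul_self_iff, not_or]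
    have h3 : ({0, r, -r} : Finset F).card = 3 := Finset.card_eq_three.2
      ⟨_, _, _, hr0.symm, (neg_ne_zero.2 hr0).symm, hrr, rfl⟩
    have h4 := Finset.card_le_card (Finset.subset_univ ({0, r, -r} : Finset F))
    rw [Finset.card_univ] at h4
    rw [e, Finset.card_sdiff_of_subset (Finset.subset_univ _), Finset.card_univ]
    omega
  by_cases hLs : IsSquare L
  · have hsub : W ⊆ U.image f := by
      intro w hw
      obtain ⟨hne, r, hr⟩ := hW w hw
      obtain ⟨l, rfl⟩ := hLs
      have hl : l ≠ 0 := fun h => hL (by rw [h, mul_zero])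
      obtain ⟨σ, hσ⟩ : ∃ σ, σ = r / l := ⟨_, rfl⟩
      have hσ2 : w * w - E = σ * σ := by
        rw [hσ]; field_simp; linear_combination hr
      have hu : w + σ ≠ 0 := fun h => hE (by linear_combination (w - σ) * h - hσ2)
      have hσ0 : σ ≠ 0 := fun h => hne (by rw [hσ2, h, mul_zero, mul_zero])
      refine Finset.mem_image.2 ⟨w + σ, hUm.2 ⟨hu, fun h => ?_⟩, ?_⟩
      · exact mul_ne_zero (mul_ne_zero h20 hσ0) hu (by linear_combination h - hσ2)
      · rw [hf]
        simp only
        rw [show E / (w + σ) = w - σ by rw [div_eq_iff hu]; linear_combination -hσ2]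
        field_simp; ring
    have h2 : 2 * (U.image f).card ≤ U.card := by
      refine Finset.mul_card_image_le_card U 2 fun κ hκ => ?_
      obtain ⟨u, hu, rfl⟩ := Finset.mem_image.1 hκ
      obtain ⟨hu0, huE⟩ := hUm.1 hu
      refine le_trans (le_of_eq (Finset.card_pair (a := u) (b := E / u) ?_).symm)
        (Finset.card_le_card fun x hx => ?_)
      · intro e
        rw [eq_div_iff hu0] at e
        exact huE e
      · rw [Finset.mem_filter, hUm]
        rcases Finset.mem_insert.1 hx with rfl | hx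
        · exact ⟨⟨hu0, huE⟩, rfl⟩
        · rw [Finset.mem_singleton.1 hx, hf]
          refine ⟨⟨div_ne_zero hE hu0, fun e => huE ?_⟩, ?_⟩
          · field_simp at e
            linear_combination -e
          · simp only [div_div_cancel₀ hE]
            ring
    have h1 := Finset.card_le_card hsub
    exact ⟨by omega, fun ⟨r, hr⟩ => ⟨by omega, fun _ => by have := hUroot r hr; omega⟩⟩
  · -- the complement contains the square values
    set V := (Finset.univ : Finset F).erase 0 with hV
    have hVc : V.card + 1 = Fintype.card F := by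
      rw [hV, Finset.card_erase_add_one (Finset.mem_univ _), Finset.card_univ]
    have hsq : ∀ u ∈ V, IsSquare (f u * f u - E) := fun u hu => by
      have := Finset.ne_of_mem_erase hu
      exact ⟨(u - E / u) / 2, by rw [hf]; field_simp; ring⟩
    have hdis : Disjoint W (V.image f) := Finset.disjoint_left.2 fun w hw hw' => by
      obtain ⟨u, hu, rfl⟩ := Finset.mem_image.1 hw'
      obtain ⟨hne, s, hs⟩ := hW _ hw
      obtain ⟨r, hr⟩ := hsq u hu
      have hr0 : r ≠ 0 := fun h => hne (by rw [hr, h, mul_zero, mul_zero])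
      exact hLs ⟨s / r, by rw [hr] at hs; field_simp; linear_combination hs⟩
    have h1 := Finset.card_le_card (Finset.subset_univ (W ∪ V.image f))
    rw [Finset.card_union_of_disjoint hdis, Finset.card_univ] at h1
    have hfib : ∀ w, ∀ T ⊆ V, (∀ u ∈ T, f u = w) → T.card ≤ 2 := fun w T hT hTw => by
      refine le_trans (Finset.card_le_card fun u hu => ?_)
        (card_roots (α := (1 : F)) (β := -(2 * w)) (γ := E) (Or.inl one_ne_zero))
      refine Finset.mem_filter.2 ⟨Finset.mem_univ _, ?_⟩
      have h := hTw u hu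
      have := Finset.ne_of_mem_erase (hT hu)
      rw [hf] at h
      field_simp at h
      linear_combination h
    have h2 := Finset.card_le_mul_card_image V 2 fun w _ =>
      hfib w (V.filter fun u => f u = w) (Finset.filter_subset _ _) fun u hu => (Finset.mem_filter.1 hu).2
    refine ⟨by omega, fun ⟨r, hr⟩ => ⟨?_, fun h => absurd h hLs⟩⟩
    obtain ⟨hr0, hrr⟩ := hpair r hr
    have hUV : U ⊆ V := fun u hu => Finset.mem_erase.2 ⟨(hUm.1 hu).1, Finset.mem_univ _⟩
    have h3 := Finset.card_le_mul_card_image U 2 fun w _ =>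
      hfib w (U.filter fun u => f u = w) (fun u hu => hUV (Finset.mem_filter.1 hu).1)
        fun u hu => (Finset.mem_filter.1 hu).2
    have hfix : ∀ s : F, s * s = E → f s = s ∧ s ∈ V ∧ s ∉ U.image f := by
      intro s hs
      have hs0 : s ≠ 0 := fun h => hE (by rw [← hs, h, mul_zero])
      refine ⟨by rw [hf]; field_simp; linear_combination -hs, Finset.mem_erase.2 ⟨hs0, Finset.mem_univ _⟩,
        fun h => ?_⟩
      obtain ⟨u, hu, e⟩ := Finset.mem_image.1 h
      obtain ⟨hu0, huE⟩ := hUm.1 hu
      rw [hf] at e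
      field_simp at e
      have : (u - s) * (u - s) = 0 := by linear_combination e + hs
      exact huE (by rw [sub_eq_zero.1 (mul_self_eq_zero.1 this), hs])
    have h4 : (U.image f).card + 2 ≤ (V.image f).card := by
      obtain ⟨e1, m1, n1⟩ := hfix r hr.symm
      obtain ⟨e2, m2, n2⟩ := hfix (-r) (by rw [neg_mul_neg, ← hr])
      refine le_trans ?_ (Finset.card_le_card (s := insert r (insert (-r) (U.image f))) fun x hx => ?_)
      · rw [Finset.card_insert_of_notMem (by simp [hrr, n1]), Finset.card_insert_of_notMem n2]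
      · simp only [Finset.mem_insert] at hx
        rcases hx with rfl | rfl | hx
        · exact Finset.mem_image.2 ⟨_, m1, e1⟩
        · exact Finset.mem_image.2 ⟨_, m2, e2⟩
        · exact Finset.image_subset_image hUV hx
    have := hUroot r hr
    omega

/-- The class of the norm of the new component. -/
def Rv (A Q c δ : F) : F := (c - δ / Q) * (c - δ / Q) + (1 + c - δ / Q) * δ / A

theorem Rv_mirror {A Q : F} (hA : A ≠ 0) (hQ : Q ≠ 0) (c δ : F) :
    Rv A Q c (4 * A - δ) = Rv A Q (-(c + 2 - 4 * A / Q)) δ := by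
  unfold Rv
  field_simp
  ring

theorem Rv_four {A Q : F} (hA : A ≠ 0) (hQ : Q ≠ 0) (c : F) :
    Rv A Q c (4 * A) = (c + 2 - 4 * A / Q) * (c + 2 - 4 * A / Q) := by
  unfold Rv
  field_simp
  ring

variable (h20 : (2 : F) ≠ 0) {A Q K : F} (hA : A ≠ 0) (hQ : Q ≠ 0) (hK : K ≠ 0)
include h20 hA hQ hK

theorem no_zero_bad (h5 : 5 ≤ Fintype.card F)
    (h : ∀ δ ∈ Sv K A, δ ≠ 0 → Rv A Q 0 δ ≠ 0 ∧ IsSquare (Rv A Q 0 δ)) : False := by
  classical
  obtain ⟨hc1, -⟩ := card_Sv h20 hK hA
  set T := (Sv K A).erase 0 with hT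
  have hTm : ∀ δ ∈ T, Rv A Q 0 δ ≠ 0 ∧ IsSquare (Rv A Q 0 δ) := fun δ hδ =>
    h δ (Finset.mem_of_mem_erase hδ) (Finset.ne_of_mem_erase hδ)
  by_cases hQA : Q = A
  · -- the values are a class of multiples
    have hR : ∀ δ, Rv A Q 0 δ = δ / A := fun δ => by
      rw [Rv, hQA]; field_simp; ring
    set W := Finset.univ.filter fun δ : F => IsSquare (δ / A) with hW
    have hWc : 2 * W.card = Fintype.card F + 1 := by
      rw [← card_squares (F := F) h20]
      congr 1
      refine Finset.card_bij' (fun δ _ => δ / A) (fun δ _ => δ * A) ?_ ?_ ?_ ?_ <;>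
        intro δ hδ <;> simp_all [hW]
    have e : Sv K A = W := by
      refine Finset.eq_of_subset_of_card_le (fun δ hδ => ?_) ?_
      · refine Finset.mem_filter.2 ⟨Finset.mem_univ _, ?_⟩
        by_cases hδ0 : δ = 0
        · rw [hδ0, zero_div]; exact IsSquare.zero
        · rw [← hR]; exact (h δ hδ hδ0).2
      · have := Finset.card_erase_add_one (zero_mem_Sv K A)
        rw [← hT] at this
        omega
    have hmir : ∀ δ ∈ W, 4 * A - δ ∈ W := fun δ hδ => by rw [← e] at hδ ⊢; exact Sv_symm hδ
    obtain ⟨u, -, hu⟩ := Finset.exists_mem_notMem_of_card_lt_card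
      (s := ({0, 1, -1} : Finset F)) (t := Finset.univ) (by
        have := Finset.card_le_three (a := (0 : F)) (b := 1) (c := -1)
        rw [Finset.card_univ]; omega)
    simp only [Finset.mem_insert, Finset.mem_singleton, not_or] at hu
    obtain ⟨hu0, hu1, hu2⟩ := hu
    have hscale : ∀ δ ∈ W, ∀ r : F, δ * (r * r) ∈ W := fun δ hδ r => by
      obtain ⟨s, hs⟩ := (Finset.mem_filter.1 hδ).2
      exact Finset.mem_filter.2 ⟨Finset.mem_univ _, s * r,
        by rw [mul_div_right_comm, hs]; ring⟩
    have hshift := shift_zero W (4 * A * (u * u - 1)) hWc fun δ hδ => by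
      have h1 := hscale _ (hmir _ (hscale _ (hmir _ hδ) u⁻¹)) u
      convert h1 using 1
      field_simp
      ring
    refine mul_ne_zero (mul_ne_zero ?_ hA) (sub_ne_zero.2 fun h1 => ?_) hshift
    · rw [show (4 : F) = 2 * 2 by norm_num]; exact mul_ne_zero h20 h20
    · rcases mul_self_eq_one_iff.1 h1 with h2 | h2
      exacts [hu1 h2, hu2 h2]
  obtain ⟨L, hLdef⟩ : ∃ L, L = 1 / (Q * Q) - 1 / (Q * A) := ⟨_, rfl⟩
  have hL : L ≠ 0 := fun e => hQA (by rw [hLdef] at e; field_simp at e; linear_combination -e)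
  obtain ⟨m, hm⟩ : ∃ m, m = 1 / (2 * A * L) := ⟨_, rfl⟩
  have hm0 : m ≠ 0 := hm ▸ div_ne_zero one_ne_zero (mul_ne_zero (mul_ne_zero h20 hA) hL)
  have hLm : L * m * 2 * A = 1 := by rw [hm]; field_simp
  have hR : ∀ δ, Rv A Q 0 δ = L * ((δ + m) * (δ + m) - m * m) := fun δ => by
    have : Rv A Q 0 δ = L * (δ * δ) + δ / A := by rw [Rv, hLdef]; field_simp; ring
    rw [this]
    field_simp
    linear_combination -δ * hLm
  set W := Finset.univ.filter fun δ : F => Rv A Q 0 δ ≠ 0 ∧ IsSquare (Rv A Q 0 δ) with hW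
  obtain ⟨-, hcount⟩ := card_quad h20 hL (mul_ne_zero hm0 hm0) (W.image fun δ => δ + m) (by
    intro w hw
    obtain ⟨δ, hδ, rfl⟩ := Finset.mem_image.1 hw
    rw [← hR]
    exact (Finset.mem_filter.1 hδ).2)
  rw [Finset.card_image_of_injective _ (add_left_injective m)] at hcount
  obtain ⟨hW1, hW3⟩ := hcount ⟨m, rfl⟩
  have hsub : T ⊆ W := fun δ hδ => Finset.mem_filter.2 ⟨Finset.mem_univ _, hTm δ hδ⟩
  have hsubc := Finset.card_le_card hsub
  have hLs : ¬ IsSquare L := fun hs => by have := hW3 hs; omega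
  have hTW : T = W := Finset.eq_of_subset_of_card_le hsub (by omega)
  obtain ⟨k, hk⟩ : ∃ k, k = -(2 * m) - 4 * A := ⟨_, rfl⟩
  have hmap : ((Sv K A).erase (4 * A)).image (fun δ => δ + k) = T := by
    refine Finset.eq_of_subset_of_card_le (fun x hx => ?_) ?_
    · obtain ⟨δ, hδ, rfl⟩ := Finset.mem_image.1 hx
      have h1 : 4 * A - δ ∈ W := hTW ▸ Finset.mem_erase.2
        ⟨sub_ne_zero.2 (Finset.ne_of_mem_erase hδ).symm, Sv_symm (Finset.mem_of_mem_erase hδ)⟩
      rw [hTW]
      refine Finset.mem_filter.2 ⟨Finset.mem_univ _, ?_⟩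
      have e : Rv A Q 0 (δ + k) = Rv A Q 0 (4 * A - δ) := by rw [hR, hR, hk]; ring
      rw [e]
      exact (Finset.mem_filter.1 h1).2
    · rw [Finset.card_image_of_injective _ (add_left_injective k), hT,
        Finset.card_erase_of_mem (zero_mem_Sv K A), Finset.card_erase_of_mem (four_mem_Sv K A)]
  have h1 := congrArg (fun S : Finset F => ∑ x ∈ S, x) hmap
  simp only [Finset.sum_image fun x _ y _ h' => add_right_cancel h', Finset.sum_add_distrib,
    Finset.sum_const, nsmul_eq_mul] at h1
  have e1 := Finset.add_sum_erase (Sv K A) (fun x : F => x) (four_mem_Sv K A)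
  have e2 := Finset.add_sum_erase (Sv K A) (fun x : F => x) (zero_mem_Sv K A)
  rw [← hT] at e2
  have hn : 2 * ((Sv K A).erase (4 * A)).card + 1 = Fintype.card F := by
    have h2 : ((Sv K A).erase (4 * A)).card = T.card := by
      rw [hT, Finset.card_erase_of_mem (zero_mem_Sv K A), Finset.card_erase_of_mem (four_mem_Sv K A)]
    omega
  have h2 := congrArg (Nat.cast (R := F)) hn
  push_cast at h2
  rw [FiniteField.cast_card_eq_zero] at h2
  have hkk : k = -(8 * A) := by
    linear_combination k * h2 - 2 * h1 + 2 * e1 - 2 * e2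
  have hm2 : m = 2 * A := mul_left_cancel₀ h20 (by rw [hk] at hkk; linear_combination -hkk)
  refine hLs ⟨1 / (2 * A), ?_⟩
  rw [hm2] at hLm
  field_simp
  linear_combination hLm

/-- Where all the values are non-zero squares. -/
theorem bad_shape (h5 : 5 ≤ Fintype.card F) (h2A : 2 * A ≠ Q) {c : F}
    (hbad : ∀ δ ∈ Sv K A, δ ≠ 0 →
      δ = 4 * A ∧ c + 2 - 4 * A / Q = 0 ∨ Rv A Q c δ ≠ 0 ∧ IsSquare (Rv A Q c δ)) :
    (IsSquare (-K) → c = 2 * A / Q - 1) ∧ (¬ IsSquare (-K) → Q * ((1 + c) * (1 + c)) = 4 * A * c) := by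
  classical
  have hne : 2 - 4 * A / Q ≠ 0 := fun e => h2A (by
    field_simp at e
    exact (mul_left_cancel₀ h20 (by linear_combination e : (2 : F) * Q = 2 * (2 * A))).symm)
  by_cases hc0 : c = 0
  · subst hc0
    exfalso
    refine no_zero_bad h20 hA hQ hK h5 fun δ hδ h0 => ?_
    rcases hbad δ hδ h0 with ⟨-, e⟩ | h
    · exact absurd (by linear_combination e : 2 - 4 * A / Q = 0) hne
    · exact h
  by_cases he : c + 2 - 4 * A / Q = 0
  · exfalso
    refine no_zero_bad h20 hA hQ hK h5 fun δ hδ h0 => ?_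
    by_cases h4 : δ = 4 * A
    · rw [h4, Rv_four hA hQ, zero_add]
      exact ⟨mul_ne_zero hne hne, IsSquare.mul_self _⟩
    · have e : Rv A Q c (4 * A - δ) = Rv A Q 0 δ := by rw [Rv_mirror hA hQ, he, neg_zero]
      rcases hbad _ (Sv_symm hδ) (sub_ne_zero.2 (Ne.symm h4)) with ⟨e', -⟩ | h
      · exact absurd (by linear_combination -e') h0
      · rwa [e] at h
  set W := Finset.univ.filter fun δ : F => Rv A Q c δ ≠ 0 ∧ IsSquare (Rv A Q c δ) with hW
  have hsub : Sv K A ⊆ W := fun δ hδ => by
    refine Finset.mem_filter.2 ⟨Finset.mem_univ _, ?_⟩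
    by_cases h0 : δ = 0
    · have e : Rv A Q c δ = c * c := by rw [h0, Rv]; ring
      rw [e]
      exact ⟨mul_ne_zero hc0 hc0, IsSquare.mul_self c⟩
    · exact (hbad δ hδ h0).resolve_left fun h => he h.2
  obtain ⟨hc1, hc2⟩ := card_Sv h20 hK hA
  have hsubc := Finset.card_le_card hsub
  have hS1 := Finset.card_erase_add_one (zero_mem_Sv K A)
  by_cases hdisc : Q * ((1 + c) * (1 + c)) = 4 * A * c
  · refine ⟨fun hKs => ?_, fun _ => hdisc⟩
    by_cases hc : c = 1
    · subst hc
      have h4 : (4 : F) ≠ 0 := by rw [show (4 : F) = 2 * 2 by norm_num]; exact mul_ne_zero h20 h20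
      have hAQ : A = Q := mul_left_cancel₀ h4 (by linear_combination -hdisc)
      rw [hAQ]; field_simp; ring
    exfalso
    have hc' : 1 - c ≠ 0 := sub_ne_zero.2 (Ne.symm hc)
    have h4 : (4 : F) ≠ 0 := by rw [show (4 : F) = 2 * 2 by norm_num]; exact mul_ne_zero h20 h20
    have hcp : 1 + c ≠ 0 := fun e => by
      rw [e, mul_zero, mul_zero, eq_comm] at hdisc
      exact mul_ne_zero (mul_ne_zero h4 hA) hc0 hdisc
    have hA' : A = Q * ((1 + c) * (1 + c)) / (4 * c) := by
      rw [eq_div_iff (mul_ne_zero h4 hc0)]; linear_combination -hdisc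
    obtain ⟨ρ, hρ⟩ : ∃ ρ, ρ = -(c * Q * (1 + c)) / (1 - c) := ⟨_, rfl⟩
    have h4ρ : 4 * A - ρ = Q * (1 + c) / (c * (1 - c)) := by
      rw [hρ, hA']; field_simp; ring
    have hρS : ρ ∈ Sv K A := by
      rw [mem_Sv, h4ρ, hρ]
      obtain ⟨r, hr⟩ := hKs
      refine ⟨r * (Q * (1 + c) / (1 - c)), ?_⟩
      field_simp
      linear_combination hr
    have hR : Rv A Q c ρ = 0 := by
      rw [Rv, hρ, hA']; field_simp; ring
    have := (Finset.mem_filter.1 (hsub hρS)).2.1
    exact this hR
  -- no double root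
  obtain ⟨b, hb⟩ : ∃ b, b = (1 + c) / A - 2 * c / Q := ⟨_, rfl⟩
  by_cases hQA : Q = A
  · exfalso
    have hR : ∀ δ, Rv A Q c δ = b * δ + c * c := fun δ => by rw [Rv, hb, hQA]; field_simp; ring
    have hb0 : b ≠ 0 := fun e => hdisc (by
      rw [hb, hQA] at e
      field_simp at e
      rw [hQA, show c = 1 by linear_combination -e]; ring)
    have hWc : 2 * W.card + 1 ≤ Fintype.card F := by
      have h2 := card_squares (F := F) h20
      have h3 : W.card ≤ ((Finset.univ.filter fun x : F => IsSquare x).erase 0).card := by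
        rw [← Finset.card_image_of_injective W (f := fun δ => b * δ + c * c)
          fun x y h => mul_left_cancel₀ hb0 (add_right_cancel h)]
        refine Finset.card_le_card fun x hx => ?_
        obtain ⟨δ, hδ, rfl⟩ := Finset.mem_image.1 hx
        rw [← hR]
        have := (Finset.mem_filter.1 hδ).2
        exact Finset.mem_erase.2 ⟨this.1, Finset.mem_filter.2 ⟨Finset.mem_univ _, this.2⟩⟩
      have h0 : (0 : F) ∈ Finset.univ.filter fun x : F => IsSquare x :=
        Finset.mem_filter.2 ⟨Finset.mem_univ _, IsSquare.zero⟩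
      rw [Finset.card_erase_of_mem h0] at h3
      omega
    omega
  obtain ⟨L, hLdef⟩ : ∃ L, L = 1 / (Q * Q) - 1 / (Q * A) := ⟨_, rfl⟩
  have hL : L ≠ 0 := fun e => hQA (by rw [hLdef] at e; field_simp at e; linear_combination -e)
  obtain ⟨m, hm⟩ : ∃ m, m = b / (2 * L) := ⟨_, rfl⟩
  obtain ⟨E, hE⟩ : ∃ E, E = m * m - c * c / L := ⟨_, rfl⟩
  have hLm : 2 * (L * m) = b := by rw [hm]; field_simp
  have hLE : L * E = L * (m * m) - c * c := by rw [hE]; field_simp
  have hR : ∀ δ, Rv A Q c δ = L * ((δ + m) * (δ + m) - E) := fun δ => by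
    have : Rv A Q c δ = L * (δ * δ) + b * δ + c * c := by rw [Rv, hLdef, hb]; field_simp; ring
    rw [this]
    linear_combination -δ * hLm + hLE
  have hd : b * b - 4 * L * (c * c) ≠ 0 := fun e => hdisc (by
    have : b * b - 4 * L * (c * c) = ((1 + c) * (1 + c) * Q - 4 * A * c) / (A * A * Q) := by
      rw [hb, hLdef]; field_simp; ring
    rw [this, div_eq_zero_iff] at e
    have := e.resolve_right (mul_ne_zero (mul_ne_zero hA hA) hQ)
    linear_combination this)
  have hE0 : E ≠ 0 := fun e => hd (by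
    rw [e, mul_zero] at hLE
    linear_combination -(b + 2 * (L * m)) * hLm - 4 * L * hLE)
  obtain ⟨hcount, -⟩ := card_quad h20 hL hE0 (W.image fun δ => δ + m) (by
    intro w hw
    obtain ⟨δ, hδ, rfl⟩ := Finset.mem_image.1 hw
    rw [← hR]
    exact (Finset.mem_filter.1 hδ).2)
  rw [Finset.card_image_of_injective _ (add_left_injective m)] at hcount
  have hKs : IsSquare (-K) := by
    by_contra hn
    have := hc2 hn
    omega
  have hSW : Sv K A = W := Finset.eq_of_subset_of_card_le hsub (by omega)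
  have hshift := shift_zero (Sv K A) (4 * A + 2 * m) (by omega) fun δ hδ => by
    have h1 : -(2 * m) - δ ∈ W := by
      have h := (Finset.mem_filter.1 (hsub hδ)).2
      refine Finset.mem_filter.2 ⟨Finset.mem_univ _, ?_⟩
      have e : Rv A Q c (-(2 * m) - δ) = Rv A Q c δ := by rw [hR, hR]; ring
      rwa [e]
    rw [← hSW] at h1
    convert Sv_symm h1 using 1
    ring
  refine ⟨fun _ => ?_, fun h => absurd hKs h⟩
  have hkey : (Q - 2 * A) * (Q * c + Q - 2 * A) = 0 := by
    have h : b + 4 * A * L = 0 := by linear_combination L * hshift - hLm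
    rw [hb, hLdef] at h
    field_simp at h
    linear_combination h
  have h2 := (mul_eq_zero.1 hkey).resolve_left (sub_ne_zero.2 (Ne.symm h2A))
  field_simp
  linear_combination h2

end CfsgLib.Orth.PlanesMax.Five
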