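import Cfsg.Agent.Lib.Classical.OrthPlanesMax.OddFree
import Cfsg.Agent.Lib.Classical.OrthPlanesMax.Five

set_option autoImplicit false
set_option linter.unusedSectionVars false

/-!
Five planes: a related vector outside the members may be taken free.
-/

namespace CfsgLib.Orth.PlanesMax

open Matrix DecompMax

/-! ### Choosing two members -/

section pick

variable {F : Type*} [Field F] [DecidableEq F]

/-- Vanishes exactly when the second double could be at zero. -/
def Fq (Q a b : F) : F := (2 * a + 2 * b - Q) * (2 * a + 2 * b - Q) - a * (4 * a + 4 * b - 3 * Q)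

theorem choose_pair (h20 : (2 : F) ≠ 0) {A : Fin 5 → F} {Q : F} (hA : ∀ i, A i ≠ 0) (hQ : Q ≠ 0)
    (hs : ∑ i, A i = Q) (hne : ∃ i, 2 * A i ≠ Q) :
    ∃ i j, i ≠ j ∧ 2 * A i ≠ Q ∧ 2 * A j ≠ Q - A i ∧ Fq Q (A i) (A j) ≠ 0 := by
  classical
  by_cases hh : ∃ j, 2 * A j = Q
  · obtain ⟨j, hj⟩ := hh
    obtain ⟨i, hi⟩ := hne
    refine ⟨i, j, fun e => hi (e ▸ hj), hi, fun e => hA i ?_, fun e => mul_ne_zero (hA i) hQ ?_⟩
    · linear_combination e - hj
    · unfold Fq at e
      rw [← hj] at e ⊢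
      linear_combination e
  push Not at hh
  by_contra hc
  push Not at hc
  have h : ∀ i j, i ≠ j → 2 * A j = Q - A i ∨ Fq Q (A i) (A j) = 0 := fun i j hij => by
    by_cases e : 2 * A j = Q - A i
    · exact Or.inl e
    · exact Or.inr (hc i j hij (hh i) e)
  let R : F → Prop := fun b => 8 * (b * b) - 5 * Q * b + Q * Q = 0
  have hedge : ∀ i j, A i ≠ A j →
      (A i = Q - 2 * A j ∧ R (A j)) ∨ (A j = Q - 2 * A i ∧ R (A i)) := by
    intro i j hne'
    have hij : i ≠ j := fun e => hne' (e ▸ rfl)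
    rcases h i j hij with l1 | f1 <;> rcases h j i hij.symm with l2 | f2
    · exact absurd (by linear_combination l2 - l1) hne'
    · refine Or.inl ⟨by linear_combination l1, ?_⟩
      show (8 : F) * (A j * A j) - 5 * Q * A j + Q * Q = 0
      have e : A i = Q - 2 * A j := by linear_combination l1
      rw [e] at f2
      unfold Fq at f2
      linear_combination f2
    · refine Or.inr ⟨by linear_combination l2, ?_⟩
      show (8 : F) * (A i * A i) - 5 * Q * A i + Q * Q = 0
      have e : A j = Q - 2 * A i := by linear_combination l2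
      rw [e] at f1
      unfold Fq at f1
      linear_combination f1
    · exfalso
      unfold Fq at f1 f2
      have h1 : 4 * A i + 4 * A j - 3 * Q = 0 :=
        mul_left_cancel₀ (sub_ne_zero.2 hne') (by linear_combination f2 - f1)
      have h2 : 2 * A i + 2 * A j - Q = 0 :=
        mul_self_eq_zero.1 (by linear_combination f1 + A i * h1)
      exact hQ (by linear_combination 2 * h2 - h1)
  have hroot : ∀ a b, a = Q - 2 * b → R a → R b → a = b := by
    intro a b e ha hb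
    by_contra hab
    simp only [R] at ha hb
    have h1 : 8 * (a + b) - 5 * Q = 0 :=
      mul_left_cancel₀ (sub_ne_zero.2 hab) (by linear_combination ha - hb)
    refine mul_ne_zero (mul_ne_zero h20 hQ) hQ ?_
    linear_combination 8 * hb + (8 * b - 2 * Q) * h1 - (64 * b - 16 * Q) * e
  have hsame : ∀ i j, i ≠ j → A i = A j → 3 * A i = Q ∨ R (A i) := by
    intro i j hij e
    rcases h i j hij with l | f
    · left; rw [← e] at l; linear_combination l
    · right
      rw [← e] at f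
      unfold Fq at f
      show (8 : F) * (A i * A i) - 5 * Q * A i + Q * Q = 0
      linear_combination f
  by_cases hex : ∃ k, R (A k)
  · obtain ⟨k, hk⟩ := hex
    obtain ⟨b, hb⟩ : ∃ b, b = A k := ⟨_, rfl⟩
    rw [← hb] at hk
    have hval : ∀ l, A l ≠ b → A l = Q - 2 * b ∧ ¬ R (A l) := by
      intro l hl
      rcases hedge l k (hb ▸ hl) with ⟨e, -⟩ | ⟨e, hRl⟩
      · rw [← hb] at e
        exact ⟨e, fun hR => hl (hroot _ _ e hR hk)⟩
      · rw [← hb] at e
        exact absurd (hroot _ _ e hk hRl).symm hl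
    have hcard : ∀ l m, A l ≠ b → A m ≠ b → l = m := by
      intro l m hl hm
      by_contra hlm
      rcases hsame l m hlm ((hval l hl).1.trans (hval m hm).1.symm) with h3 | hR
      · have e := (hval l hl).1
        have h2 : (2 : F) * (3 * b - Q) = 0 := by linear_combination -h3 + 3 * e
        exact hl (by linear_combination e - ((mul_eq_zero.1 h2).resolve_left h20))
      · exact (hval l hl).2 hR
    have hsum : ∑ i, (A i - b) = Q - 5 * b := by
      rw [Finset.sum_sub_distrib, hs, Finset.sum_const, Finset.card_univ, Fintype.card_fin,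
        nsmul_eq_mul]
      norm_num
    by_cases hN : ∃ l, A l ≠ b
    · obtain ⟨l, hl⟩ := hN
      rw [Finset.sum_eq_single l (fun m _ hm => by
          by_contra hm'
          exact hm (hcard m l (sub_ne_zero.1 hm') hl)) (by simp), (hval l hl).1] at hsum
      have : (2 : F) * b = 0 := by linear_combination hsum
      exact hA k (hb ▸ (mul_eq_zero.1 this).resolve_left h20)
    · push Not at hN
      rw [Finset.sum_eq_zero fun m _ => by rw [hN m, sub_self]] at hsum
      have h5 : Q = 5 * b := by linear_combination -hsum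
      simp only [R] at hk
      rw [h5] at hk
      refine mul_ne_zero (mul_ne_zero (mul_ne_zero (mul_ne_zero h20 h20) h20) (hb ▸ hA k)) (hb ▸ hA k) ?_
      linear_combination hk
  push Not at hex
  have heq : ∀ l, A l = A 0 := fun l => by
    by_contra hl
    rcases hedge l 0 hl with ⟨-, hR⟩ | ⟨-, hR⟩ <;> exact hex _ hR
  have h3 := (hsame 0 1 (by decide) (heq 1).symm).resolve_right (hex 0)
  have h5 : 5 * A 0 = Q := by
    rw [← hs, Finset.sum_congr rfl fun l _ => heq l, Finset.sum_const, Finset.card_univ,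
      Fintype.card_fin, nsmul_eq_mul]
    norm_num
  exact mul_ne_zero h20 (hA 0) (by linear_combination h5 - h3)

end pick

variable {F : Type*} [Field F] [Finite F] {ι : Type} [Fintype ι] [DecidableEq ι]
variable {Q : QuadraticForm F (ι → F)} {D : Fin 5 → Submodule F (ι → F)}

local notation "B" => QuadraticMap.polar (DFunLike.coe Q)

variable (hd : Dec Q 2 D)
include hd

theorem q_sum_five (v : ι → F) : Q v = ∑ i, Q (proj Q (D i) v) := by
  classical
  suffices h : ∀ s : Finset (Fin 5), Q (∑ l ∈ s, proj Q (D l) v) = ∑ l ∈ s, Q (proj Q (D l) v) by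
    conv_lhs => rw [← hd.sum_comp v]
    exact h _
  intro s
  induction s using Finset.induction_on with
  | empty => rw [Finset.sum_empty, Finset.sum_empty, QuadraticMap.map_zero]
  | insert p s hp ih =>
    rw [Finset.sum_insert hp, Finset.sum_insert hp, q_add, ih, ← QuadraticMap.polarBilin_apply_apply,
      map_sum]
    refine add_eq_left.2 (Finset.sum_eq_zero ?_)
    intro l hl
    show B (proj Q (D p) v) (proj Q (D l) v) = 0
    exact hd.orth p l (fun e => hp (e ▸ hl)) _ (hd.comp_mem p v) _ (hd.comp_mem l v)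

variable {M : Subgroup (Grp Q)}

set_option maxHeartbeats 1600000 in
/-- A free related vector for five planes. -/
theorem exists_free_five (hM : ∀ g, g ∈ Cfsg.Omega F ⇑Q → Perm D g → g ∈ M) (hG : Good Q D)
    (h20 : (2 : F) ≠ 0) {v : ι → F} (hv : Mx M D v)
    (hvb : ¬ Blk D v) : ∃ v', Mx M D v' ∧ ¬ Blk D v' ∧ Free D Q v' := by
  classical
  cases nonempty_fintype F
  by_cases hz : ∃ m, proj Q (D m) v = 0
  · obtain ⟨m, hm⟩ := hz
    exact ⟨v, hv, hvb, free_zero hd hm⟩
  push Not at hz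
  by_cases hsing : ∃ i, Q (proj Q (D i) v) = 0
  · obtain ⟨i, hi⟩ := hsing
    exact free_of_sing hd hM hG (by omega) h20 hv hvb hi
  push Not at hsing
  by_cases hcl : ∃ p q, ¬ IsSquare (Q (proj Q (D p) v) * Q (proj Q (D q) v))
  · obtain ⟨p, q, h⟩ := hcl
    exact ⟨v, hv, hvb, free_of_classes hd h20 (hsing p) (hsing q) h⟩
  push Not at hcl
  have h5 : 5 ≤ Fintype.card F := by
    have hodd := FiniteField.odd_card_of_char_ne_two (F := F) fun e => h20 (by
      have := CharP.cast_eq_zero F (ringChar F)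
      rwa [e, Nat.cast_ofNat] at this)
    have := hG.four_le
    rw [Nat.card_eq_fintype_card] at this
    omega
  have hQv : Q v ≠ 0 := mx_ne hd hM hv
  obtain ⟨a, ha⟩ : ∃ a : Fin 5 → ι → F, a = fun i => proj Q (D i) v := ⟨_, rfl⟩
  have hai : ∀ i, a i = proj Q (D i) v := fun i => by rw [ha]
  have haD : ∀ i, a i ∈ D i := fun i => hai i ▸ hd.comp_mem i v
  have hA : ∀ i, Q (a i) ≠ 0 := fun i => hai i ▸ hsing i
  have ha0 : ∀ i, a i ≠ 0 := fun i e => hA i (by rw [e, QuadraticMap.map_zero])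
  have hsum : ∑ i, Q (a i) = Q v := by rw [q_sum_five hd v]; simp only [hai]
  choose b hb hb0 hab hQb using fun i => (plane hd i).exists_perp (haD i) (hA i)
  obtain ⟨ν, hν⟩ := FiniteField.exists_nonsquare (F := F) fun e => h20 (by
    have := CharP.cast_eq_zero F (ringChar F)
    rwa [e, Nat.cast_ofNat] at this)
  have hν0 : ν ≠ 0 := fun e => hν (by rw [e]; exact IsSquare.zero)
  obtain ⟨e₁, -, hQe⟩ := univ_member (hd.nondeg (0 : Fin 5)) (by rw [hd.rank]) 1 one_ne_zero
  obtain ⟨n₁, -, hQn⟩ := univ_member (hd.nondeg (0 : Fin 5)) (by rw [hd.rank]) ν hν0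
  obtain ⟨re, hre⟩ := exists_refl hd.nd (v := e₁) (by rw [hQe]; exact one_ne_zero)
  obtain ⟨rn, hrn⟩ := exists_refl hd.nd (v := n₁) (by rw [hQn]; exact hν0)
  have hnu : ¬ IsSquare (Q e₁ * Q n₁) := by rw [hQe, hQn, one_mul]; exact hν
  have hτ : (((re * rn : Grp Q)) : Grp Q ⧸ Cfsg.Omega F ⇑Q) * (((re * rn : Grp Q)) : Grp Q ⧸ Cfsg.Omega F ⇑Q) = 1 := by
    rw [← QuotientGroup.mk_mul, QuotientGroup.eq_one_iff]
    exact four_mem hd hre hrn hre hrn hnu hnu
  -- the moves
  obtain ⟨K, hKdef⟩ : ∃ K : Fin 5 → F, K = fun i => Q (a i) * Q (b i) := ⟨_, rfl⟩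
  have hKi : ∀ i, K i = Q (a i) * Q (b i) := fun i => by rw [hKdef]
  have h40' : (4 : F) ≠ 0 := by rw [show (4 : F) = 2 * 2 by norm_num]; exact mul_ne_zero h20 h20
  have h40' : (4 : F) ≠ 0 := by rw [show (4 : F) = 2 * 2 by norm_num]; exact mul_ne_zero h20 h20
  have hK : ∀ i, K i ≠ 0 := fun i => hKi i ▸ mul_ne_zero (hA i) (hQb i)
  obtain ⟨sg, hsg⟩ : ∃ sg : Fin 5 → F → Bool,
      sg = fun i δ => decide (δ ≠ 0 ∧ ¬ IsSquare (δ * Q (b i))) := ⟨_, rfl⟩
  have hsg0 : ∀ i, sg i 0 = false := fun i => by rw [hsg]; simp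
  have hsg1 : ∀ i δ, δ ≠ 0 → sg i δ = decide (¬ IsSquare (δ * Q (b i))) := fun i δ h => by
    rw [hsg]; simp [h]
  have hmove : ∀ i, ∀ δ ∈ Five.Sv (K i) (Q (a i)), Mv D (re * rn) v {i} δ (sg i δ) := by
    intro i δ hδ
    by_cases hδ0 : δ = 0
    · rw [hδ0, hsg0]; exact mv_zero hd _ v _
    obtain ⟨s, hs⟩ := Five.mem_Sv.1 hδ
    obtain ⟨r, hr⟩ : ∃ r, r = s / (2 * K i) := ⟨_, rfl⟩
    obtain ⟨p, hp⟩ : ∃ p, p = 1 - δ / (2 * Q (a i)) := ⟨_, rfl⟩
    obtain ⟨x, hx⟩ : ∃ x, x = p • a i + r • b i := ⟨_, rfl⟩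
    have hxD : x ∈ D i := hx ▸ (D i).add_mem ((D i).smul_mem _ (haD i)) ((D i).smul_mem _ (hb i))
    have hrr : r * r * Q (b i) = δ * (4 * Q (a i) - δ) / (4 * Q (a i)) := by
      rw [hr, hKi] at *
      have := hA i
      have := hQb i
      field_simp
      linear_combination -4 * hs
    have hQx : Q x = Q (a i) := by
      rw [hx, q_add, q_smul, q_smul, b_smul_left, b_smul_right, hab i, mul_zero, mul_zero, add_zero,
        hrr, hp]
      have := hA i
      field_simp
      ring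
    have hQd : Q (a i - x) = δ := by
      rw [q_sub, hQx, hx, b_add_right, b_smul_right, b_smul_right, hab i, b_self, hp]
      have := hA i
      field_simp
      ring
    have h := mv_one hd hre hrn hnu i (hai i) (hb i) (hab i) (hQb i) hxD hQx (hQd.symm ▸ hδ0)
    rw [hQd] at h
    rwa [hsg1 i δ hδ0]
  have hmir : ∀ i, ∀ δ ∈ Five.Sv (K i) (Q (a i)),
      sg i (4 * Q (a i) - δ) = xor (sg i δ) (decide (¬ IsSquare (K i))) := by
    intro i δ hδ
    have h4 : IsSquare (4 * Q (a i) * Q (b i)) ↔ IsSquare (K i) := by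
      have e : 4 * Q (a i) * Q (b i) = (2 * 2) * K i := by rw [hKi]; ring
      rw [e, isSquare_mul_iff (mul_ne_zero h20 h20)]
      simp [hK i]
    have h40 : 4 * Q (a i) ≠ 0 := mul_ne_zero
      (by rw [show (4 : F) = 2 * 2 by norm_num]; exact mul_ne_zero h20 h20) (hA i)
    by_cases hδ0 : δ = 0
    · rw [hδ0, sub_zero, hsg0, hsg1 i _ h40, Bool.false_xor]
      simp [h4]
    by_cases hδ4 : δ = 4 * Q (a i)
    · rw [hδ4, sub_self, hsg0, hsg1 i _ h40]
      simp [h4]
    have hne : 4 * Q (a i) - δ ≠ 0 := sub_ne_zero.2 (Ne.symm hδ4)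
    rw [hsg1 i _ hne, hsg1 i _ hδ0]
    obtain ⟨s, hs⟩ := Five.mem_Sv.1 hδ
    have hP : IsSquare (δ * Q (b i) * ((4 * Q (a i) - δ) * Q (b i)) * K i) :=
      ⟨s * Q (b i), by linear_combination (Q (b i) * Q (b i)) * hs⟩
    rw [isSquare_mul_iff (mul_ne_zero (mul_ne_zero hδ0 (hQb i)) (mul_ne_zero hne (hQb i))),
      isSquare_mul_iff (mul_ne_zero hδ0 (hQb i))] at hP
    simp only [hK i, mul_ne_zero hne (hQb i), false_or] at hP
    by_cases h1 : IsSquare (δ * Q (b i)) <;> by_cases h2 : IsSquare ((4 * Q (a i) - δ) * Q (b i)) <;>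
      by_cases h3 : IsSquare (K i) <;> simp_all
  have hflip : ∀ i, ∃ δ ∈ Five.Sv (K i) (Q (a i)), sg i δ = true := by
    intro i
    obtain ⟨s, ⟨r, hr⟩, hns⟩ := Five.exists_shift_nonsquare h20 (hK i)
    have hne : K i + s ≠ 0 := fun e => hns (by rw [e]; exact IsSquare.zero)
    have h4 : 4 * Q (a i) * K i / (K i + s) ≠ 0 := div_ne_zero (mul_ne_zero (mul_ne_zero
      (by rw [show (4 : F) = 2 * 2 by norm_num]; exact mul_ne_zero h20 h20) (hA i)) (hK i)) hne
    refine ⟨4 * Q (a i) * K i / (K i + s), Five.mem_Sv.2 ⟨4 * Q (a i) * K i * r / (K i + s), ?_⟩, ?_⟩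
    · field_simp
      rw [hr]
      ring
    · rw [hsg1 i _ h4, decide_eq_true_eq]
      rintro ⟨w, hw⟩
      have hw0 : w ≠ 0 := fun e => mul_ne_zero h4 (hQb i) (by rw [hw, e, mul_zero])
      refine hns ⟨2 * K i / w, ?_⟩
      have hK2 := hKi i
      field_simp at hw ⊢
      linear_combination -hw - 4 * K i * hK2
  have hnb : ∀ {y : ι → F} (i : Fin 5), proj Q (D i) y ≠ 0 → ∀ m, m ≠ i → proj Q (D m) y ≠ 0 →
      ¬ Blk D y := fun {y} i hi m hmi hm => by
    rw [hd.blk_iff]; push Not; exact ⟨m, i, hmi, hm, hi⟩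
  -- two moves with a reflection
  have hfin : ∀ (i : Fin 5) (S : Finset (Fin 5)) (δ Δ : F) (ε : Bool), i ∉ S →
      Mv D (re * rn) v {i} δ ε → Mv D (re * rn) v S Δ ε →
      ∃ κ : F, ∃ z z' : ι → F, κ = 2 - (δ + Δ) / Q v ∧ Mx M D (v + z + z' - κ • v) ∧ z ∈ D i ∧
        (∀ l, l ∉ S → proj Q (D l) z' = 0) ∧ Q z = δ ∧ B v z = -δ ∧ B v z' = -Δ := by
    rintro i S δ Δ ε hiS ⟨g, hgP, hgq, hgf, hgs, hgB⟩ ⟨g', hgP', hgq', hgf', hgs', hgB'⟩
    obtain ⟨κ, hκ⟩ : ∃ κ, κ = 2 - (δ + Δ) / Q v := ⟨_, rfl⟩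
    obtain ⟨z, hz'⟩ : ∃ z, z = ap g v - v := ⟨_, rfl⟩
    obtain ⟨z', hz''⟩ : ∃ z, z = ap g' v - v := ⟨_, rfl⟩
    rw [← hz'] at hgs hgB
    rw [← hz''] at hgs' hgB'
    have e : ap (g * g') v = v + z + z' := by
      rw [ap_mul, show ap g' v = v + z' by rw [hz'']; abel, ap_add,
        hgf z' fun l hl => hgs' l (by rw [Finset.mem_singleton] at hl; rw [hl]; exact hiS)]
      rw [hz']; abel
    have hgO : g * g' ∈ Cfsg.Omega F ⇑Q := by
      rw [← QuotientGroup.eq_one_iff, QuotientGroup.mk_mul, hgq, hgq']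
      cases ε <;> simp
      simpa using hτ
    have hgv := mx_perm hd hM hv hgO (perm_mul hd hgP hgP')
    obtain ⟨rv, hrv⟩ := exists_refl hd.nd hQv
    have hy := mx_refl hd hM hv hgv ⟨Q v, by rw [ap_q]⟩ hrv
    have hB : B v (ap (g * g') v) = κ * Q v := by
      rw [e, b_add_right, b_add_right, b_self, hgB, hgB', hκ]
      field_simp; ring
    rw [hrv.2, hB, show (Q v)⁻¹ * (κ * Q v) = κ by field_simp, e] at hy
    have hzD : z ∈ D i := by
      rw [← hd.sum_comp z, Finset.sum_eq_single i (fun l _ hl => hgs l (by simpa using hl)) (by simp)]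
      exact hd.comp_mem i z
    refine ⟨κ, z, z', hκ, hy, hzD, hgs', ?_, hgB, hgB'⟩
    have h1 := ap_q g v
    rw [show ap g v = v + z by rw [hz']; abel, q_add, hgB] at h1
    linear_combination h1
  by_cases hhalf : ∀ i, 2 * Q (a i) = Q v
  · -- negating two components
    have h3 : (3 : F) = 0 := by
      have h : ∑ i : Fin 5, 2 * Q (a i) = ∑ i : Fin 5, Q v := Finset.sum_congr rfl fun i _ => hhalf i
      rw [← Finset.mul_sum, hsum, Finset.sum_const, Finset.card_univ, Fintype.card_fin, nsmul_eq_mul] at h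
      push_cast at h
      exact (mul_eq_zero.1 (show (3 : F) * Q v = 0 by linear_combination -h)).resolve_right hQv
    have hK01 : sg 0 (4 * Q (a 0)) = sg 1 (4 * Q (a 1)) := by
      have hsd := same_disc hd (haD 0) (hb 0) (hab 0) (hA 0) (hQb 0) (haD 1) (hb 1) (hab 1) (hA 1)
        (hQb 1) h20
      rw [← hKi, ← hKi, isSquare_mul_iff (hK 0)] at hsd
      have h0 := hmir 0 0 (Five.zero_mem_Sv _ _)
      have h1 := hmir 1 0 (Five.zero_mem_Sv _ _)
      rw [sub_zero, hsg0, Bool.false_xor] at h0 h1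
      rw [h0, h1]
      simp only [hK 1, false_or] at hsd
      simp [hsd]
    obtain ⟨κ, z, z', hκ, hy, hzD, hz'0, hQz, hBz, hBz'⟩ := hfin 0 {1} _ _ _ (by simp)
      (hmove 0 _ (Five.four_mem_Sv _ _)) (hK01 ▸ hmove 1 _ (Five.four_mem_Sv _ _))
    have hκ1 : κ = 1 := by
      rw [hκ]
      field_simp
      linear_combination -2 * hhalf 0 - 2 * hhalf 1 - Q v * h3
    rw [hκ1, one_smul, show v + z + z' - v = z + z' by abel] at hy
    have h4 : ∀ i, 4 * Q (a i) ≠ 0 := fun i => mul_ne_zero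
      (by rw [show (4 : F) = 2 * 2 by norm_num]; exact mul_ne_zero h20 h20) (hA i)
    have hz0 : z ≠ 0 := fun e => h4 0 (by rw [← hQz, e, QuadraticMap.map_zero])
    have hc0 : proj Q (D 0) (z + z') = z := by
      rw [map_add, hd.comp_self hzD, hz'0 0 (by simp), add_zero]
    have hc1 : proj Q (D 1) (z + z') ≠ 0 := fun e => by
      rw [map_add, hd.comp_other (by decide) hzD, zero_add] at e
      have hz' : z' = 0 := by
        rw [← hd.sum_comp z', Finset.sum_eq_zero fun l _ => ?_]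
        by_cases hl : l = 1
        · rw [hl]; exact e
        · exact hz'0 l (by simp [hl])
      rw [hz', b_zero_right, eq_comm, neg_eq_zero] at hBz'
      exact h4 1 hBz'
    refine ⟨_, hy, hnb 0 (by rw [hc0]; exact hz0) 1 (by decide) hc1, free_zero hd (m := 2) ?_⟩
    rw [map_add, hd.comp_other (by decide) hzD, hz'0 2 (by simp), add_zero]
  push Not at hhalf
  obtain ⟨i0, i1, hi01, hH0, hH1, hF⟩ := choose_pair h20 hA hQv hsum hhalf
  obtain ⟨π, hπ0, hπ1⟩ : ∃ π : Equiv.Perm (Fin 5), π 0 = i0 ∧ π 1 = i1 :=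
    ⟨Equiv.swap 0 i0 * Equiv.swap 1 (Equiv.swap 0 i0 i1),
      (by decide : ∀ p q : Fin 5, p ≠ q →
        (Equiv.swap 0 p * Equiv.swap 1 (Equiv.swap 0 p q)) 0 = p ∧
        (Equiv.swap 0 p * Equiv.swap 1 (Equiv.swap 0 p q)) 1 = q) i0 i1 hi01⟩
  have hne : ∀ p q : Fin 5, p ≠ q → π p ≠ π q := fun p q h => π.injective.ne h
  obtain ⟨T, hT⟩ : ∃ T, T = Q (a (π 2)) + Q (a (π 3)) + Q (a (π 4)) := ⟨_, rfl⟩
  have hsumT : Q (a i0) + Q (a i1) + T = Q v := by
    rw [← hsum, ← Equiv.sum_comp π, Fin.sum_univ_five, hπ0, hπ1, hT]; ring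
  -- sums of three moves
  let E : Fin 3 → Finset (F × Bool) := fun k =>
    (Five.Sv (K (π ⟨k.val + 2, by omega⟩)) (Q (a (π ⟨k.val + 2, by omega⟩)))).image
      fun δ => (δ, sg (π ⟨k.val + 2, by omega⟩) δ)
  have hE0 : ((0 : F), false) ∈ E 2 :=
    Finset.mem_image.2 ⟨0, Five.zero_mem_Sv _ _, by rw [hsg0]⟩
  have hEc : ∀ k, Fintype.card F + 1 ≤ 2 * ((E k).image Prod.fst).card := fun k => by
    rw [Finset.image_image, show (Prod.fst ∘ fun δ => (δ, sg (π ⟨k.val + 2, by omega⟩) δ)) = id from rfl,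
      Finset.image_id]
    have h1 := (Five.card_Sv h20 (hK (π ⟨k.val + 2, by omega⟩)) (hA (π ⟨k.val + 2, by omega⟩))).1
    have h2 := Finset.card_erase_add_one
      (Five.zero_mem_Sv (K (π ⟨k.val + 2, by omega⟩)) (Q (a (π ⟨k.val + 2, by omega⟩))))
    omega
  have hEflip : ∃ δ, (δ, true) ∈ E 2 := by
    obtain ⟨δ, hδ, h⟩ := hflip (π ⟨(2 : Fin 3).val + 2, by decide⟩)
    exact ⟨δ, Finset.mem_image.2 ⟨δ, hδ, by rw [h]⟩⟩
  let Dbl : F → Prop := fun x => ∀ s : Bool, ∃ e : Fin 3 → F × Bool, (∀ i, e i ∈ E i) ∧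
      (e 0).1 + (e 1).1 + (e 2).1 = x ∧ xor (xor (e 0).2 (e 1).2) (e 2).2 = s
  have hDmir : ∀ x, Dbl x → Dbl (4 * T - x) := by
    intro x hx s
    obtain ⟨k₀, hk₀⟩ : ∃ k₀ : Fin 3 → Bool,
        k₀ = fun k => decide (¬ IsSquare (K (π ⟨k.val + 2, by omega⟩))) := ⟨_, rfl⟩
    obtain ⟨e, he, hex, hes⟩ := hx (xor s (xor (xor (k₀ 0) (k₀ 1)) (k₀ 2)))
    refine ⟨fun k => (4 * Q (a (π ⟨k.val + 2, by omega⟩)) - (e k).1, xor (e k).2 (k₀ k)),
      fun k => ?_, ?_, ?_⟩
    · obtain ⟨δ, hδ, hek⟩ := Finset.mem_image.1 (he k)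
      refine Finset.mem_image.2 ⟨_, Five.Sv_symm hδ, ?_⟩
      simp only [← hek, hk₀, hmir _ δ hδ]
    · rw [hT, ← hex]
      show 4 * Q (a (π 2)) - _ + (4 * Q (a (π 3)) - _) + (4 * Q (a (π 4)) - _) = _
      ring
    · simp only
      revert hes
      cases (e 0).2 <;> cases (e 1).2 <;> cases (e 2).2 <;> cases k₀ 0 <;> cases k₀ 1 <;>
        cases k₀ 2 <;> cases s <;> simp
  obtain ⟨x, hxne, hxd⟩ : ∃ x, x ≠ 2 * T ∧ Dbl x :=
    exists_double_avoid h20 h5 E hE0 hEc hEflip (2 * T)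
  -- one of the two doubles has a good parameter
  have hpick : ∀ x, Dbl x → x ≠ 0 → ∀ c, c = 1 - x / Q v →
      (∃ d ∈ Five.Sv (K i0) (Q (a i0)), d ≠ 0 ∧
        ¬ (d = 4 * Q (a i0) ∧ c + 2 - 4 * Q (a i0) / Q v = 0) ∧
        ¬ (Five.Rv (Q (a i0)) (Q v) c d ≠ 0 ∧ IsSquare (Five.Rv (Q (a i0)) (Q v) c d))) →
      ∃ v', Mx M D v' ∧ ¬ Blk D v' ∧ Free D Q v' := by
    rintro x hx hx0 c hc ⟨d, hd', hd0, hex, hgood⟩
    obtain ⟨e, he, hsumx, hsx⟩ := hx (sg i0 d)
    have hm : ∀ k : Fin 3, Mv D (re * rn) v {π ⟨k.val + 2, by omega⟩} (e k).1 (e k).2 := fun k => by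
      obtain ⟨δ, hδ, hek⟩ := Finset.mem_image.1 (he k)
      rw [← hek]
      exact hmove _ δ hδ
    have h23 := mv_mul hd hτ (Finset.disjoint_singleton_right.2
      (by simp [Finset.mem_singleton, π.injective.eq_iff])) (hm 0) (hm 1)
    have h234 := mv_mul hd hτ (Finset.disjoint_singleton_right.2
      (by simp [π.injective.eq_iff])) h23 (hm 2)
    rw [hsumx, hsx] at h234
    obtain ⟨κ, z, z', hκ, hy, hzD, hz'0, hQz, hBz, hBz'⟩ := hfin i0 _ d x _
      (by simp [← hπ0, π.injective.eq_iff]) (hmove i0 d hd') h234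
    have hout : ∀ p : Fin 5, p = 0 ∨ p = 1 → proj Q (D (π p)) z' = 0 := fun p hp => hz'0 _ (by
      rcases hp with rfl | rfl <;> simp [π.injective.eq_iff])
    have hc0 : proj Q (D i0) (v + z + z' - κ • v) = z + (1 - κ) • a i0 := by
      rw [map_sub, map_add, map_add, map_smul, hd.comp_self hzD, ← hπ0, hout 0 (Or.inl rfl), hπ0,
        ← hai]
      module
    have hc1 : proj Q (D i1) (v + z + z' - κ • v) = (1 - κ) • a i1 := by
      rw [map_sub, map_add, map_add, map_smul, hd.comp_other hi01 hzD, ← hπ1,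
        hout 1 (Or.inr rfl), hπ1, ← hai]
      module
    have hBaz : B (a i0) z = -d := by rw [hai, hd.b_comp i0 v hzD, hBz]
    have hN : Q (z + (1 - κ) • a i0) = Q (a i0) * Five.Rv (Q (a i0)) (Q v) c d := by
      rw [q_add, q_smul, b_smul_right, b_comm z, hBaz, hQz, Five.Rv, hκ, hc]
      have := hA i0
      field_simp
      ring
    have hzne : z ≠ 0 := fun e => hd0 (by rw [← hQz, e, QuadraticMap.map_zero])
    by_cases hκ1 : κ = 1
    · rw [hκ1, one_smul, show v + z + z' - v = z + z' by abel] at hy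
      obtain ⟨m, hm0⟩ : ∃ m, proj Q (D m) z' ≠ 0 := by
        by_contra h
        push Not at h
        have hz' : z' = 0 := by rw [← hd.sum_comp z', Finset.sum_eq_zero fun l _ => h l]
        rw [hz', b_zero_right, eq_comm, neg_eq_zero] at hBz'
        exact hx0 hBz'
      have hmi : m ≠ i0 := fun e => hm0 (by rw [e, ← hπ0]; exact hout 0 (Or.inl rfl))
      refine ⟨_, hy, hnb i0 (by rw [map_add, hd.comp_self hzD, ← hπ0, hout 0 (Or.inl rfl), add_zero]; exact hzne)
        m hmi (by rw [map_add, hd.comp_other hmi.symm hzD, zero_add]; exact hm0),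
        free_zero hd (m := i1) ?_⟩
      rw [map_add, hd.comp_other hi01 hzD, ← hπ1, hout 1 (Or.inr rfl), add_zero]
    have hκ' : (1 : F) - κ ≠ 0 := sub_ne_zero.2 (Ne.symm hκ1)
    have hne0 : z + (1 - κ) • a i0 ≠ 0 := fun e => by
      have hze : z = (κ - 1) • a i0 := by linear_combination (norm := module) e
      rw [hze, b_smul_right, b_self] at hBaz
      rw [hze, q_smul] at hQz
      have h1 : (κ - 1) * ((κ + 1) * Q (a i0)) = 0 := by linear_combination hQz + hBaz
      have h2 : κ + 1 = 0 :=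
        (mul_eq_zero.1 ((mul_eq_zero.1 h1).resolve_left (sub_ne_zero.2 hκ1))).resolve_right (hA i0)
      have hd4 : d = 4 * Q (a i0) := by linear_combination hBaz - 2 * Q (a i0) * h2
      refine hex ⟨hd4, ?_⟩
      rw [hκ, hd4] at h2
      rw [hc, ← h2]
      field_simp
      ring
    have hnb' := hnb i0 (by rw [hc0]; exact hne0) i1 hi01.symm
      (by rw [hc1]; exact smul_ne_zero hκ' (ha0 i1))
    by_cases hN0 : Q (z + (1 - κ) • a i0) = 0
    · exact free_of_sing hd hM hG (by omega) h20 hy hnb' (i := i0) (by rw [hc0]; exact hN0)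
    refine ⟨_, hy, hnb', free_of_classes hd h20 (p := i0) (q := i1) (by rw [hc0]; exact hN0)
      (by rw [hc1, q_smul]; exact mul_ne_zero (mul_ne_zero hκ' hκ') (hA i1)) fun h => hgood ?_⟩
    refine ⟨fun e => hN0 (by rw [hN, e, mul_zero]), ?_⟩
    rw [hc0, hc1, hN, q_smul] at h
    obtain ⟨s, hs⟩ := h
    obtain ⟨w, hw⟩ := hcl i0 i1
    rw [← hai, ← hai] at hw
    have hw0 : w ≠ 0 := fun e => mul_ne_zero (hA i0) (hA i1) (by rw [hw, e, mul_zero])
    refine ⟨s / ((1 - κ) * w), ?_⟩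
    field_simp
    linear_combination hs - ((1 - κ) * (1 - κ) * Five.Rv (Q (a i0)) (Q v) c d) * hw
  by_contra hcon
  have hshape : ∀ y, Dbl y → y ≠ 0 →
      (IsSquare (-K i0) → 1 - y / Q v = 2 * Q (a i0) / Q v - 1) ∧
      (¬ IsSquare (-K i0) → Q v * ((1 + (1 - y / Q v)) * (1 + (1 - y / Q v))) =
        4 * Q (a i0) * (1 - y / Q v)) := fun y hy hy0 => by
    refine Five.bad_shape h20 (hA i0) hQv (hK i0) h5 hH0 fun δ hδ hδ0 => ?_
    by_contra hb'
    rw [not_or] at hb'
    exact hcon (hpick y hy hy0 _ rfl ⟨δ, hδ, hδ0, hb'⟩)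
  -- both bad
  have key : ∀ y, Dbl y → y ≠ 0 → y ≠ 2 * T → False := by
    intro y hy hy0 hyne
    obtain ⟨h1, h2⟩ := hshape y hy hy0
    by_cases hy' : 4 * T - y = 0
    · by_cases hKs : IsSquare (-K i0)
      · have h := h1 hKs
        field_simp at h
        exact hH1 (mul_left_cancel₀ h20 (by linear_combination h - hy' + 4 * hsumT))
      · have h := h2 hKs
        rw [show y = 4 * T by linear_combination -hy'] at h
        field_simp at h
        refine mul_ne_zero (mul_ne_zero h20 h20) ?_ (?_ : (2 : F) * 2 * Fq (Q v) (Q (a i0)) (Q (a i1)) = 0)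
        · exact hF
        · have e : T = Q v - Q (a i0) - Q (a i1) := by linear_combination hsumT
          rw [e] at h
          unfold Fq
          linear_combination h
    obtain ⟨h1', h2'⟩ := hshape _ (hDmir y hy) hy'
    by_cases hKs : IsSquare (-K i0)
    · have e := (h1 hKs).trans (h1' hKs).symm
      field_simp at e
      exact hyne (mul_left_cancel₀ h20 (by linear_combination -e))
    · have e := h2 hKs
      have e' := h2' hKs
      field_simp at e e'
      refine mul_ne_zero (mul_ne_zero (mul_ne_zero (mul_ne_zero h20 h20) h20) (sub_ne_zero.2 hyne))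
        (hA i1) ?_
      linear_combination -e + e' + 8 * (y - 2 * T) * hsumT
  by_cases hx0 : x = 0
  · refine key _ (hDmir x hxd) ?_ fun e => hxne (by linear_combination -e)
    rw [hx0, sub_zero]
    intro e
    exact hxne (mul_left_cancel₀ h20 (by rw [hx0]; linear_combination -e))
  · exact key x hxd hx0 hxne

end CfsgLib.Orth.PlanesMax
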