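import Cfsg.Agent.Lib.Classical.OrthPlanesMax.Binary
import Cfsg.Agent.Lib.Classical.OrthPlanesMax.FiveFree
import Cfsg.Agent.Lib.Classical.OrthNondegMax

set_option autoImplicit false
set_option linter.unusedSectionVars false

/-!
Stabilisers of decompositions into planes are maximal.
-/

namespace CfsgLib.Orth.PlanesMax

open Matrix DecompMax

variable {F : Type*} [Field F] [Finite F] {ι : Type} [Fintype ι] [DecidableEq ι]
variable {Q : QuadraticForm F (ι → F)} {t : ℕ} {D : Fin t → Submodule F (ι → F)}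

local notation "B" => QuadraticMap.polar (DFunLike.coe Q)

variable (hd : Dec Q 2 D) (ht : 5 ≤ t)
variable (hok : 7 ≤ Nat.card F ∨ ((∀ i, NoSing Q (D i)) ∧ Nat.card F ≠ 3))
include hd ht hok

theorem mx_everywhere {M : Subgroup (Grp Q)}
    (hM : ∀ g, g ∈ Cfsg.Omega F ⇑Q → Perm D g → g ∈ M) {v : ι → F} (hv : Mx M D v) (hvb : ¬ Blk D v)
    {w : ι → F} (hw : Q w ≠ 0) : Mx M D w := by
  have h3 := exists_three hd hok
  by_cases hq : 3 ≤ Nat.card F
  · have hG : Good Q D := hok.imp_right fun h => ⟨h.1, by have := h.2; omega⟩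
    refine mx_all hd hM hG (by omega) ?_ hw
    by_cases h20 : (2 : F) = 0
    · exact pair_even hd hM hG ht h20 hv hvb
    · obtain ⟨v', hv', hvb', hf⟩ : ∃ v', Mx M D v' ∧ ¬ Blk D v' ∧ Free D Q v' := by
        by_cases h6 : 6 ≤ t
        · exact exists_free hd hM hG h6 h20 h3 hv hvb
        · obtain rfl : t = 5 := by omega
          exact exists_free_five hd hM hG h20 hv hvb
      exact pair_of_free hd hM hG ht h20 hv' hvb' hf
  · have hns : ∀ i, NoSing Q (D i) := (hok.resolve_left fun h => hq (by omega)).1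
    exact mx_all_binary hd hq hns hM ht hv hvb hw

theorem omega_le_or_perm {M : Subgroup (Grp Q)}
    (hM : ∀ g, g ∈ Cfsg.Omega F ⇑Q → Perm D g → g ∈ M) :
    Cfsg.Omega F ⇑Q ≤ M ∨ ∀ g ∈ M, Perm D g := by
  have h3 := exists_three hd hok
  by_cases hno : ∀ x, Mx M D x → Blk D x
  · exact Or.inr fun g hg =>
      perm_of_not_mix2 hd h3 ht (hok.imp_right And.left) hM hno hg
  push Not at hno
  obtain ⟨v, hv, hvb⟩ := hno
  left
  let S : Set (Grp Q) :=
    {g | ∃ x y r s, Q x ≠ 0 ∧ Q y ≠ 0 ∧ IsSquare (Q x * Q y) ∧ IsRefl x r ∧ IsRefl y s ∧ g = r * s}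
  have hSO : ∀ g ∈ S, g ∈ Cfsg.Omega F ⇑Q := by
    rintro g ⟨x, y, r, s, -, -, hsq, hr, hs, rfl⟩
    exact refl_pair_mem hd hr hs hsq
  have hNM : Subgroup.closure S ≤ M := (Subgroup.closure_le _).2 (by
    rintro g ⟨x, y, r, s, hx, hy, hsq, hr, hs, rfl⟩
    exact (hd.mix_rel hM hx (mx_everywhere hd ht hok hM hv hvb hx)
      (mix_of_mx hd hM (mx_everywhere hd ht hok hM hv hvb hy) ⟨hy, hsq⟩)).2.2 r s hr hs)
  refine le_trans ?_ hNM
  obtain ⟨p, hp, x, hx, hpc, hxc, hpx, hne⟩ :=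
    exists_mate2 hd h3 (⟨0, by omega⟩ : Fin t) (one_ne_zero (α := F))
  obtain ⟨y, hy, hyc⟩ := hd.exists_cls (⟨1, by omega⟩ : Fin t) (one_ne_zero (α := F))
  obtain ⟨rp, hrp⟩ := exists_refl hd.nd hpc.1
  obtain ⟨rx, hrx⟩ := exists_refl hd.nd hxc.1
  obtain ⟨ry, hry⟩ := exists_refl hd.nd hyc.1
  have ha : rp * rx ∈ S := ⟨p, x, rp, rx, hpc.1, hxc.1, cls_pair one_ne_zero hpc hxc, hrp, hrx, rfl⟩
  have hb : rp * ry ∈ S := ⟨p, y, rp, ry, hpc.1, hyc.1, cls_pair one_ne_zero hpc hyc, hrp, hry, rfl⟩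
  refine omega_le_of_normal hd.nd hd.dim _ (fun a _ z hz => ?_) (Subgroup.subset_closure ha)
    (hSO _ ha) (hSO _ hb) ?_
  · induction hz using Subgroup.closure_induction with
    | mem z hz =>
      obtain ⟨x, y, r, s, hx, hy, hsq, hr, hs, rfl⟩ := hz
      exact Subgroup.subset_closure ⟨ap a x, ap a y, a * r * a⁻¹, a * s * a⁻¹, by rw [ap_q]; exact hx,
        by rw [ap_q]; exact hy, by rw [ap_q, ap_q]; exact hsq, refl_conj hr a, refl_conj hs a, by group⟩
    | one => rw [mul_one, mul_inv_cancel]; exact one_mem _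
    | mul z w _ _ hz hw =>
      rw [show a * (z * w) * a⁻¹ = (a * z * a⁻¹) * (a * w * a⁻¹) by group]; exact mul_mem hz hw
    | inv z _ hz => rw [show a * z⁻¹ * a⁻¹ = (a * z * a⁻¹)⁻¹ by group]; exact inv_mem hz
  · intro hcomm
    have hyx : B y x = 0 := hd.orth _ _ (by simp) y hy x hx
    have hyp : B y p = 0 := hd.orth _ _ (by simp) y hy p hp
    have h1 := congrArg (fun g => ap g x) hcomm
    simp only [ap_mul] at h1
    rw [refl_fix hry hyx] at h1
    have hry' : ∀ c e : F, ap ry (c • x + e • p) = c • x + e • p := fun c e => by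
      refine refl_fix hry ?_
      rw [b_add_right, b_smul_right, b_smul_right, hyx, hyp, mul_zero, mul_zero, add_zero]
    obtain ⟨κ, hκ⟩ : ∃ κ, κ = (Q p)⁻¹ * B p x := ⟨_, rfl⟩
    obtain ⟨κ', hκ'⟩ : ∃ κ', κ' = (Q x)⁻¹ * B x p := ⟨_, rfl⟩
    have hκ0 : κ ≠ 0 := hκ ▸ mul_ne_zero (inv_ne_zero hrp.1) hpx
    have hκ'0 : κ' ≠ 0 := hκ' ▸ mul_ne_zero (inv_ne_zero hrx.1) (by rw [b_comm]; exact hpx)
    have epx : ap rp x = x - κ • p := by rw [hrp.2, hκ]
    have exp : ap rx p = p - κ' • x := by rw [hrx.2, hκ']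
    have hpp : ap rp p = -p := refl_self hrp
    have hxx : ap rx x = -x := refl_self hrx
    -- both sides on `x`
    have hyfix : ap ry (ap rx x) = ap rx x := by
      rw [hxx, show -x = (-1 : F) • x + (0 : F) • p by module]; exact hry' _ _
    have eL : ap rp (ap rx (ap rp x)) = (κ * κ' - 1) • x + (2 * κ - κ * κ * κ') • p := by
      have hp' : ∀ (c e : F), ap rp (c • x + e • p) = c • x + (-(c * κ) - e) • p := fun c e => by
        rw [ap_add, ap_smul, ap_smul, epx, hpp]; module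
      rw [epx, show ap rx (x - κ • p) = (κ * κ' - 1) • x + (-κ) • p by
        rw [ap_sub, ap_smul, hxx, exp]; module, hp']
      module
    have eR : ap rp (ap ry (ap rp (ap rx x))) = (-1 : F) • x := by
      rw [hxx, show ap rp (-x) = (-1 : F) • x + κ • p by
        rw [show -x = (-1 : F) • x by module, ap_smul, epx]; module, hry', ap_add, ap_smul, ap_smul,
        epx, hpp]
      module
    rw [eL, eR] at h1
    have h2 : (κ * κ') • x + (2 * κ - κ * κ * κ') • p = 0 := by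
      linear_combination (norm := module) h1
    have h3 : 2 * κ - κ * κ * κ' ≠ 0 ∨ κ * κ' ≠ 0 := Or.inr (mul_ne_zero hκ0 hκ'0)
    refine hne (-((κ * κ')⁻¹ * (2 * κ - κ * κ * κ'))) ?_
    have h4 := congrArg (fun z => (κ * κ')⁻¹ • z) h2
    simp only [smul_add, smul_zero, smul_smul, inv_mul_cancel₀ (mul_ne_zero hκ0 hκ'0), one_smul] at h4
    rw [eq_neg_of_add_eq_zero_left h4, neg_smul]

theorem exists_not_perm : ∃ g : Grp Q, g ∈ Cfsg.Omega F ⇑Q ∧ ¬ Perm D g := by
  have h3 := exists_three hd hok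
  set j : Fin t := ⟨0, by omega⟩ with hj
  set l : Fin t := ⟨1, by omega⟩ with hl
  set m : Fin t := ⟨2, by omega⟩ with hm
  have hjl : j ≠ l := by simp [hj, hl]
  have hjm : j ≠ m := by simp [hj, hm]
  have hlm : l ≠ m := by simp [hl, hm]
  obtain ⟨x, hx, b, hb, hxc, hbc, hxb, -⟩ := exists_mate2 hd h3 j (one_ne_zero (α := F))
  obtain ⟨y, hy, hQy⟩ := univ_member (hd.nondeg l) (by rw [hd.rank]) 1 one_ne_zero
  obtain ⟨z, hz, hQz⟩ := univ_member (hd.nondeg m) (by rw [hd.rank]) (-Q x) (neg_ne_zero.2 hxc.1)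
  obtain ⟨u, hu⟩ : ∃ u, u = x + y + z := ⟨_, rfl⟩
  have hQu : Q u = 1 := by
    rw [hu, q_add, q_add, b_add_left, hd.orth j l hjl x hx y hy, hd.orth j m hjm x hx z hz,
      hd.orth l m hlm y hy z hz, hQy, hQz]
    ring
  have hBu : B u b = B x b := by
    rw [hu, b_add_left, b_add_left, b_comm y, hd.orth j l hjl b hb y hy, b_comm z,
      hd.orth j m hjm b hb z hz, add_zero, add_zero]
  obtain ⟨r, hr⟩ := exists_refl hd.nd (v := u) (by rw [hQu]; exact one_ne_zero)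
  obtain ⟨s, hs⟩ := exists_refl hd.nd hbc.1
  refine ⟨r * s, refl_pair_mem hd hr hs (by rw [hQu]; exact hbc.2), fun hP => ?_⟩
  have hnb : ¬ Blk D u := fun h => by
    rw [hd.blk_iff] at h
    have hy0 : y ≠ 0 := fun e => one_ne_zero (α := F) (by rw [← hQy, e, QuadraticMap.map_zero])
    have hx0 : x ≠ 0 := fun e => hxc.1 (by rw [e, QuadraticMap.map_zero])
    rcases h j l hjl with h | h
    · rw [hu, map_add, map_add, hd.comp_self hx, hd.comp_other hjl.symm hy, hd.comp_other hjm.symm hz,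
        add_zero, add_zero] at h
      exact hx0 h
    · rw [hu, map_add, map_add, hd.comp_other hjl hx, hd.comp_self hy, hd.comp_other hlm.symm hz,
        zero_add, add_zero] at h
      exact hy0 h
  refine hnb ((pair_supp2 hd hr hs (fun c e => hnb ⟨j, e ▸ (D j).smul_mem c hb⟩) hP).2 ?_)
  rw [hBu]
  exact hxb

theorem isMaximalIn :
    Cfsg.Geo.IsMaximalIn (Cfsg.Geo.omegaGL ⇑Q)
      (Cfsg.Geo.decompositionStabilizer D ⊓ Cfsg.Geo.omegaGL ⇑Q) := by
  refine isMaximalIn_omegaGL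
    (H := (Cfsg.Geo.decompositionStabilizer D).comap (Cfsg.isometryGroup F ⇑Q).subtype)
    (fun _ => Iff.rfl) ⟨lt_of_le_not_ge inf_le_right fun hge => ?_, fun M h1 h2 => ?_⟩
  · obtain ⟨g, hg, hgP⟩ := exists_not_perm hd ht hok
    exact hgP (hd.perm_iff.2 (hge hg).1)
  · have hM : ∀ g, g ∈ Cfsg.Omega F ⇑Q → Perm D g → g ∈ M := fun g hg hP =>
      h1 ⟨hd.perm_iff.1 hP, hg⟩
    rcases omega_le_or_perm hd ht hok hM with h | h
    · exact Or.inr (le_antisymm h2 h)
    · exact Or.inl (le_antisymm (fun g hg => ⟨hd.perm_iff.1 (h g hg), h2 hg⟩) h1)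

end CfsgLib.Orth.PlanesMax
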