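import Cfsg.Agent.Lib.Classical.OrthPlanesMax.Reduce

set_option autoImplicit false
set_option linter.unusedSectionVars false

/-!
Odd characteristic: a related vector outside the members may be taken free.
-/

namespace CfsgLib.Orth.PlanesMax

open Matrix DecompMax

variable {F : Type*} [Field F] [Finite F] {ι : Type} [Fintype ι] [DecidableEq ι]
variable {Q : QuadraticForm F (ι → F)} {t : ℕ} {D : Fin t → Submodule F (ι → F)}

local notation "B" => QuadraticMap.polar (DFunLike.coe Q)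

/-- At most half the parameters give a non-zero square value. -/
theorem card_sq [Fintype F] [DecidableEq F] (h20 : (2 : F) ≠ 0) (w : F) (hw : w * w ≠ 4) :
    2 * (Finset.univ.filter fun κ : F => κ * κ - w * κ + 1 ≠ 0 ∧ IsSquare (κ * κ - w * κ + 1)).card + 1
      ≤ Fintype.card F := by
  classical
  obtain ⟨E, hE⟩ : ∃ d, d = (w / 2) * (w / 2) - 1 := ⟨_, rfl⟩
  have hE0 : E ≠ 0 := fun e => hw (by rw [hE] at e; field_simp at e; linear_combination e)
  have hf : ∀ κ : F, κ * κ - w * κ + 1 = (κ - w / 2) * (κ - w / 2) - E := fun κ => by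
    rw [hE]; field_simp; ring
  set U := (Finset.univ : Finset F).filter fun u => u ≠ 0 ∧ u * u ≠ E with hU
  set img := U.image fun u => w / 2 + (u + E / u) / 2 with himg
  have hsub : (Finset.univ.filter fun κ : F => κ * κ - w * κ + 1 ≠ 0 ∧
      IsSquare (κ * κ - w * κ + 1)) ⊆ img := by
    intro κ hκ
    rw [Finset.mem_filter] at hκ
    obtain ⟨-, hne, s, hs⟩ := hκ
    rw [hf] at hs hne
    obtain ⟨u, hudef⟩ : ∃ u, u = κ - w / 2 + s := ⟨_, rfl⟩
    have hprod : u * (κ - w / 2 - s) = E := by rw [hudef]; linear_combination hs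
    have hu : u ≠ 0 := fun e => hE0 (by rw [← hprod, e, zero_mul])
    refine Finset.mem_image.2 ⟨u, Finset.mem_filter.2 ⟨Finset.mem_univ _, hu, fun e => hne ?_⟩, ?_⟩
    · rw [hs]
      have h1 : (2 * s) * u = 0 := by rw [hudef] at e hprod ⊢; linear_combination e - hprod
      rw [(mul_eq_zero.1 ((mul_eq_zero.1 h1).resolve_right hu)).resolve_left h20, mul_zero]
    · rw [show E / u = κ - w / 2 - s by rw [div_eq_iff hu, ← hprod]; ring, hudef]
      field_simp; ring
  have h2 : 2 * img.card ≤ U.card := by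
    refine Finset.mul_card_image_le_card U 2 fun κ hκ => ?_
    obtain ⟨u, hu, rfl⟩ := Finset.mem_image.1 hκ
    rw [hU, Finset.mem_filter] at hu
    refine le_trans (le_of_eq (Finset.card_pair (a := u) (b := E / u) ?_).symm)
      (Finset.card_le_card fun x hx => ?_)
    · intro e
      have := congrArg (· * u) e
      simp only [div_mul_cancel₀ _ hu.2.1] at this
      exact hu.2.2 this
    · rw [Finset.mem_insert, Finset.mem_singleton] at hx
      rw [hU, Finset.mem_filter, Finset.mem_filter]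
      rcases hx with rfl | rfl
      · exact ⟨hu, rfl⟩
      · refine ⟨⟨Finset.mem_univ _, div_ne_zero hE0 hu.2.1, fun e => hu.2.2 ?_⟩, ?_⟩
        · have h := congrArg (· * (u * u)) e
          rw [div_mul_div_comm, div_mul_cancel₀ _ (mul_ne_zero hu.2.1 hu.2.1)] at h
          exact (mul_left_cancel₀ hE0 h).symm
        · rw [div_div_cancel₀ hE0]; ring
  have h3 : U.card + 1 ≤ Fintype.card F := by
    have hsub : U ⊆ (Finset.univ : Finset F).erase 0 := fun u hu =>
      Finset.mem_erase.2 ⟨(Finset.mem_filter.1 hu).2.1, Finset.mem_univ _⟩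
    have := Finset.card_le_card hsub
    rw [Finset.card_erase_of_mem (Finset.mem_univ _), Finset.card_univ] at this
    have := Fintype.card_pos (α := F)
    omega
  have := Finset.card_le_card hsub
  omega

/-- Both classes occur among the values `s² - 1`. -/
theorem exists_shift_class (h20 : (2 : F) ≠ 0) (h7 : 7 ≤ Nat.card F) {c : F} (hc : c ≠ 0) :
    ∃ s : F, s ≠ 0 ∧ s * s - 1 ≠ 0 ∧ ¬ IsSquare (c * (s * s - 1)) := by
  classical
  cases nonempty_fintype F
  rw [Nat.card_eq_fintype_card] at h7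
  by_cases hcs : IsSquare c
  · -- values with `s² - 1` a non-zero square are too few
    by_contra hbad
    push Not at hbad
    obtain ⟨E, hEdef⟩ : ∃ E : Finset F, E = (Finset.univ : Finset F) \ {0, 1, -1} := ⟨_, rfl⟩
    have hEc : Fintype.card F ≤ E.card + 3 := by
      have h1 := Finset.le_card_sdiff ({0, 1, -1} : Finset F) Finset.univ
      have h2 := Finset.card_le_three (a := (0 : F)) (b := 1) (c := -1)
      rw [Finset.card_univ] at h1
      rw [hEdef]; omega
    set U := (Finset.univ : Finset F).filter fun u => u ≠ 0 ∧ u * u ≠ 1 with hU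
    have hsub : E ⊆ U.image fun u => (u + 1 / u) / 2 := by
      intro s hs
      rw [hEdef] at hs
      simp only [Finset.mem_sdiff, Finset.mem_univ, true_and, Finset.mem_insert,
        Finset.mem_singleton, not_or] at hs
      have hne : s * s - 1 ≠ 0 := fun e => by
        rcases mul_self_eq_one_iff.1 (sub_eq_zero.1 e) with h | h
        · exact hs.2.1 h
        · exact hs.2.2 h
      obtain ⟨r, hr⟩ := hbad s hs.1 hne
      obtain ⟨e, he⟩ := hcs
      have he0 : e ≠ 0 := fun h => hc (by rw [he, h, mul_zero])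
      obtain ⟨σ, hσ⟩ : ∃ σ, σ = r / e := ⟨_, rfl⟩
      have hσ2 : s * s - 1 = σ * σ := by
        rw [hσ]; field_simp; rw [he] at hr; linear_combination hr
      have hu : s + σ ≠ 0 := fun h => one_ne_zero (α := F) (by linear_combination (s - σ) * h - hσ2)
      refine Finset.mem_image.2 ⟨s + σ, Finset.mem_filter.2 ⟨Finset.mem_univ _, hu, fun h => hne ?_⟩, ?_⟩
      · rw [hσ2]
        have h1 : (2 * σ) * (s + σ) = 0 := by linear_combination h - hσ2
        rw [(mul_eq_zero.1 ((mul_eq_zero.1 h1).resolve_right hu)).resolve_left h20, mul_zero]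
      · rw [show 1 / (s + σ) = s - σ by rw [div_eq_iff hu]; linear_combination -hσ2]
        field_simp; ring
    have h2 : 2 * (U.image fun u => (u + 1 / u) / 2).card ≤ U.card := by
      refine Finset.mul_card_image_le_card U 2 fun κ hκ => ?_
      obtain ⟨u, hu, rfl⟩ := Finset.mem_image.1 hκ
      rw [hU, Finset.mem_filter] at hu
      refine le_trans (le_of_eq (Finset.card_pair (a := u) (b := 1 / u) ?_).symm)
        (Finset.card_le_card fun x hx => ?_)
      · intro e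
        have := congrArg (· * u) e
        simp only [div_mul_cancel₀ _ hu.2.1] at this
        exact hu.2.2 this
      · rw [Finset.mem_insert, Finset.mem_singleton] at hx
        rw [hU, Finset.mem_filter, Finset.mem_filter]
        rcases hx with rfl | rfl
        · exact ⟨hu, rfl⟩
        · refine ⟨⟨Finset.mem_univ _, div_ne_zero one_ne_zero hu.2.1, fun e => hu.2.2 ?_⟩, ?_⟩
          · have h := congrArg (· * (u * u)) e
            rw [div_mul_div_comm, div_mul_cancel₀ _ (mul_ne_zero hu.2.1 hu.2.1), one_mul, one_mul] at h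
            exact h.symm
          · rw [one_div_one_div]; ring
    have h3 : U.card + 3 ≤ Fintype.card F := by
      have hsub : U ⊆ (Finset.univ : Finset F) \ {0, 1, -1} := fun u hu => by
        rw [hU, Finset.mem_filter] at hu
        simp only [Finset.mem_sdiff, Finset.mem_univ, true_and, Finset.mem_insert,
          Finset.mem_singleton, not_or]
        exact ⟨hu.2.1, fun e => hu.2.2 (by rw [e, mul_one]), fun e => hu.2.2 (by rw [e]; ring)⟩
      have h1 := Finset.card_le_card hsub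
      rw [Finset.card_sdiff_of_subset (Finset.subset_univ _), Finset.card_univ] at h1
      have h01 : ({0, 1, -1} : Finset F).card = 3 := by
        rw [Finset.card_eq_three]
        refine ⟨0, 1, -1, zero_ne_one, fun e => one_ne_zero (α := F) (by linear_combination e),
          fun e => h20 (by linear_combination e), rfl⟩
      omega
    have := Finset.card_le_card hsub
    omega
  · -- a non-zero square value of `s² - 1`
    obtain ⟨u, hu⟩ : ∃ u : F, u ∈ (Finset.univ : Finset F) \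
        ({0, 1, -1} ∪ (Finset.univ.filter fun u : F => (1 : F) * (u * u) + 0 * u + 1 = 0)) := by
      refine Finset.card_pos.1 ?_
      have h1 := Finset.le_card_sdiff ({0, 1, -1} ∪ (Finset.univ.filter fun u : F =>
        (1 : F) * (u * u) + 0 * u + 1 = 0)) (Finset.univ : Finset F)
      have h2 := Finset.card_union_le ({0, 1, -1} : Finset F) (Finset.univ.filter fun u : F =>
        (1 : F) * (u * u) + 0 * u + 1 = 0)
      have h3 := Finset.card_le_three (a := (0 : F)) (b := 1) (c := -1)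
      have h4 := card_roots (α := (1 : F)) (β := 0) (γ := 1) (Or.inl one_ne_zero)
      rw [Finset.card_univ] at h1
      omega
    simp only [Finset.mem_sdiff, Finset.mem_univ, true_and, Finset.mem_union, Finset.mem_insert,
      Finset.mem_singleton, Finset.mem_filter, not_or, one_mul, zero_mul, add_zero] at hu
    obtain ⟨⟨hu0, hu1, hu2⟩, hu3⟩ := hu
    have hd : (u - 1 / u) ≠ 0 := fun e => by
      field_simp at e
      rcases mul_self_eq_one_iff.1 (show u * u = 1 by linear_combination e) with h | h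
      · exact hu1 h
      · exact hu2 h
    have hval : ((u + 1 / u) / 2) * ((u + 1 / u) / 2) - 1 = ((u - 1 / u) / 2) * ((u - 1 / u) / 2) := by
      field_simp; ring
    refine ⟨(u + 1 / u) / 2, div_ne_zero (fun e => hu3 ?_) h20, ?_, fun h => hcs ?_⟩
    · field_simp at e; linear_combination e
    · rw [hval]; exact mul_ne_zero (div_ne_zero hd h20) (div_ne_zero hd h20)
    · obtain ⟨r, hr⟩ := h
      refine ⟨r / ((u - 1 / u) / 2), ?_⟩
      rw [hval] at hr
      have := div_ne_zero hd h20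
      rw [div_mul_div_comm, eq_div_iff (mul_ne_zero this this)]
      exact hr

/-- Anisotropic components of different classes give freedom. -/
theorem free_of_classes (hd : Dec Q 2 D) (h20 : (2 : F) ≠ 0) {v : ι → F} {p q : Fin t}
    (hp : Q (proj Q (D p) v) ≠ 0) (hq : Q (proj Q (D q) v) ≠ 0)
    (h : ¬ IsSquare (Q (proj Q (D p) v) * Q (proj Q (D q) v))) : Free D Q v := by
  obtain ⟨x, hx, hx0, hax, hQx⟩ := (plane hd p).exists_perp (hd.comp_mem p v) hp
  obtain ⟨y, hy, hy0, hay, hQy⟩ := (plane hd q).exists_perp (hd.comp_mem q v) hq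
  refine Or.inr ⟨p, q, x, hx, y, hy, hQx, hQy, ?_, ?_, fun h' => h ?_⟩
  · rw [b_comm, ← hd.b_comp p v hx]; exact hax
  · rw [b_comm, ← hd.b_comp q v hy]; exact hay
  · obtain ⟨r, hr⟩ := same_disc hd (hd.comp_mem p v) hx hax hp hQx (hd.comp_mem q v) hy hay hq hQy h20
    obtain ⟨s, hs⟩ := h'
    have hne : s ≠ 0 := fun e => mul_ne_zero hQx hQy (by rw [hs, e, mul_zero])
    refine ⟨r / s, ?_⟩
    rw [div_mul_div_comm, eq_div_iff (mul_ne_zero hne hne), ← hs, ← hr]
    ring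

/-! ### Sums of value sets with signs -/

section sums

variable [Fintype F] [DecidableEq F]

theorem eq_top_of_large (h20 : (2 : F) ≠ 0) (H : AddSubgroup F) (s : Finset F)
    (hs : ∀ x ∈ s, x ∈ H) (hc : Fintype.card F < 3 * s.card) : H = ⊤ := by
  classical
  have hodd := FiniteField.odd_card_of_char_ne_two (F := F) fun e => h20 (by
    have := CharP.cast_eq_zero F (ringChar F)
    rwa [e, Nat.cast_ofNat] at this)
  have h1 : s.card ≤ Nat.card H := by
    rw [← Fintype.card_coe, ← Nat.card_eq_fintype_card]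
    exact Nat.card_le_card_of_injective (fun x => (⟨x.1, hs x.1 x.2⟩ : H))
      fun a b h => Subtype.ext (congrArg Subtype.val h :)
  have hmul := H.card_mul_index
  rw [Nat.card_eq_fintype_card (α := F)] at hmul
  refine AddSubgroup.index_eq_one.1 ?_
  have h3 : H.index < 3 := by
    by_contra h
    have := Nat.mul_le_mul h1 (not_lt.1 h)
    omega
  have h4 : H.index ≠ 0 := fun e => by
    rw [e, mul_zero] at hmul
    have := Fintype.card_pos (α := F)
    omega
  have h5 : H.index ≠ 2 := fun e => by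
    rw [e] at hmul
    omega
  omega

theorem two_cover (X Y : Finset F) (hX : Fintype.card F + 1 ≤ 2 * X.card)
    (hY : Fintype.card F + 1 ≤ 2 * Y.card) (T : F) : ∃ x ∈ X, ∃ y ∈ Y, x + y = T := by
  classical
  obtain ⟨w, hw⟩ := Finset.inter_nonempty_of_card_lt_card_add_card (Finset.subset_univ _)
    (Finset.subset_univ _) (show (Finset.univ : Finset F).card <
      X.card + (Y.image fun y => T - y).card by
        rw [Finset.card_univ, Finset.card_image_of_injective _ sub_right_injective]; omega)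
  rw [Finset.mem_inter] at hw
  obtain ⟨y, hy, e⟩ := Finset.mem_image.1 hw.2
  exact ⟨w, hw.1, y, hy, by rw [← e, sub_add_cancel]⟩

/-- Some sum of three is attained with both signs. -/
theorem exists_double (h20 : (2 : F) ≠ 0) (E : Fin 3 → Finset (F × Bool))
    (h0 : (0, false) ∈ E 2) (hc : ∀ i, Fintype.card F + 1 ≤ 2 * ((E i).image Prod.fst).card)
    (hflip : ∃ δ, (δ, true) ∈ E 2) :
    ∃ x : F, ∀ s : Bool, ∃ e : Fin 3 → F × Bool, (∀ i, e i ∈ E i) ∧
      (e 0).1 + (e 1).1 + (e 2).1 = x ∧ xor (xor (e 0).2 (e 1).2) (e 2).2 = s := by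
  classical
  by_contra hno
  push Not at hno
  have hc2 : ∀ T : F, ∃ a ∈ E 0, ∃ b ∈ E 1, a.1 + b.1 = T := fun T => by
    obtain ⟨x, hx, y, hy, e⟩ := two_cover _ _ (hc 0) (hc 1) T
    obtain ⟨a, ha, rfl⟩ := Finset.mem_image.1 hx
    obtain ⟨b, hb, rfl⟩ := Finset.mem_image.1 hy
    exact ⟨a, ha, b, hb, e⟩
  choose fa hfa fb hfb hsum using hc2
  let ψ : F → Bool := fun T => xor (fa T).2 (fb T).2
  have key : ∀ y, ∀ d ∈ E 2, ψ (y + d.1) = xor (ψ y) d.2 := by
    intro y d hd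
    obtain ⟨s, hs⟩ := hno (y + d.1)
    have e1 := hs ![fa y, fb y, d] (fun i => by fin_cases i; exacts [hfa y, hfb y, hd])
      (by show (fa y).1 + (fb y).1 + d.1 = _; rw [hsum])
    have e2 := hs ![fa (y + d.1), fb (y + d.1), (0, false)]
      (fun i => by fin_cases i; exacts [hfa _, hfb _, h0])
      (by show (fa _).1 + (fb _).1 + (0 : F) = _; rw [hsum, add_zero])
    change xor (ψ y) d.2 ≠ s at e1
    change xor (ψ (y + d.1)) false ≠ s at e2
    revert e1 e2
    cases ψ (y + d.1) <;> cases xor (ψ y) d.2 <;> cases s <;> simp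
  let H : AddSubgroup F :=
    { carrier := {h | ∃ c : Bool, ∀ y, ψ (y + h) = xor (ψ y) c}
      zero_mem' := ⟨false, fun y => by rw [add_zero, Bool.xor_false]⟩
      add_mem' := fun {a b} ⟨c, hc⟩ ⟨c', hc'⟩ => ⟨xor c c', fun y => by
        rw [← add_assoc, hc', hc, Bool.xor_assoc]⟩
      neg_mem' := fun {a} ⟨c, hc⟩ => ⟨c, fun y => by
        have h := hc (y + -a)
        rw [neg_add_cancel_right] at h
        rw [h, Bool.xor_assoc, Bool.xor_self, Bool.xor_false]⟩ }
  have htop := eq_top_of_large h20 H ((E 2).image Prod.fst) (fun x hx => by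
    obtain ⟨d, hd, rfl⟩ := Finset.mem_image.1 hx
    exact ⟨d.2, fun y => key y d hd⟩) (by
    have := hc 2
    have := Fintype.card_pos (α := F)
    omega)
  obtain ⟨δ, hδ⟩ := hflip
  have hhalf : (δ / 2) ∈ H := htop ▸ AddSubgroup.mem_top _
  obtain ⟨c, hc⟩ := hhalf
  have h1 : ψ (0 + δ) = xor (ψ 0) true := key 0 _ hδ
  have h2 : ψ (0 + δ / 2 + δ / 2) = xor (xor (ψ 0) c) c := by rw [hc, hc]
  rw [add_assoc, show δ / 2 + δ / 2 = δ by field_simp; ring, h1, Bool.xor_assoc (ψ 0) c c, Bool.xor_self] at h2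
  revert h2
  cases ψ 0 <;> simp

/-- Some sum of three avoiding a given value is attained with both signs. -/
theorem exists_double_avoid (h20 : (2 : F) ≠ 0) (h5 : 5 ≤ Fintype.card F)
    (E : Fin 3 → Finset (F × Bool))
    (h0 : (0, false) ∈ E 2) (hc : ∀ i, Fintype.card F + 1 ≤ 2 * ((E i).image Prod.fst).card)
    (hflip : ∃ δ, (δ, true) ∈ E 2) (x₀ : F) :
    ∃ x : F, x ≠ x₀ ∧ ∀ s : Bool, ∃ e : Fin 3 → F × Bool, (∀ i, e i ∈ E i) ∧
      (e 0).1 + (e 1).1 + (e 2).1 = x ∧ xor (xor (e 0).2 (e 1).2) (e 2).2 = s := by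
  classical
  by_contra hno
  push Not at hno
  have hc2 : ∀ T : F, ∃ a ∈ E 0, ∃ b ∈ E 1, a.1 + b.1 = T := fun T => by
    obtain ⟨x, hx, y, hy, e⟩ := two_cover _ _ (hc 0) (hc 1) T
    obtain ⟨a, ha, rfl⟩ := Finset.mem_image.1 hx
    obtain ⟨b, hb, rfl⟩ := Finset.mem_image.1 hy
    exact ⟨a, ha, b, hb, e⟩
  choose fa hfa fb hfb hsum using hc2
  let ψ : F → Bool := fun T => xor (fa T).2 (fb T).2
  have key : ∀ y, ∀ d ∈ E 2, y + d.1 ≠ x₀ → ψ (y + d.1) = xor (ψ y) d.2 := by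
    intro y d hd hne
    obtain ⟨s, hs⟩ := hno (y + d.1) hne
    have e1 := hs ![fa y, fb y, d] (fun i => by fin_cases i; exacts [hfa y, hfb y, hd])
      (by show (fa y).1 + (fb y).1 + d.1 = _; rw [hsum])
    have e2 := hs ![fa (y + d.1), fb (y + d.1), (0, false)]
      (fun i => by fin_cases i; exacts [hfa _, hfb _, h0])
      (by show (fa _).1 + (fb _).1 + (0 : F) = _; rw [hsum, add_zero])
    change xor (ψ y) d.2 ≠ s at e1
    change xor (ψ (y + d.1)) false ≠ s at e2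
    revert e1 e2
    cases ψ (y + d.1) <;> cases xor (ψ y) d.2 <;> cases s <;> simp
  haveI : NeZero (2 : F) := ⟨h20⟩
  obtain ⟨δ, hδ⟩ := hflip
  obtain ⟨x, hx, y, hy, hxy⟩ := two_cover _ _ (hc 2) (hc 2) (δ / 2)
  obtain ⟨a, ha, rfl⟩ := Finset.mem_image.1 hx
  obtain ⟨b, hb, rfl⟩ := Finset.mem_image.1 hy
  obtain ⟨z, -, hz⟩ := Finset.exists_mem_notMem_of_card_lt_card
    (s := ({x₀ - δ, x₀ - a.1, x₀ - a.1 - b.1, x₀ - a.1 - b.1 - a.1} : Finset F)) (t := Finset.univ) (by
      rw [Finset.card_univ]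
      exact lt_of_le_of_lt Finset.card_le_four (by omega))
  simp only [Finset.mem_insert, Finset.mem_singleton, not_or] at hz
  obtain ⟨z0, z1, z2, z3⟩ := hz
  have hd2 : a.1 + b.1 + a.1 + b.1 = δ := by rw [hxy, add_assoc, hxy, add_halves]
  have k0 := key z _ hδ fun e => z0 (by linear_combination e)
  have k1 := key z a ha fun e => z1 (by linear_combination e)
  have k2 := key _ b hb fun e : z + a.1 + b.1 = x₀ => z2 (by linear_combination e)
  have k3 := key _ a ha fun e : z + a.1 + b.1 + a.1 = x₀ => z3 (by linear_combination e)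
  have k4 := key _ b hb fun e : z + a.1 + b.1 + a.1 + b.1 = x₀ => z0 (by linear_combination e - hd2)
  rw [k3, k2, k1, show z + a.1 + b.1 + a.1 + b.1 = z + δ by linear_combination hd2, k0] at k4
  revert k4
  cases ψ z <;> cases a.2 <;> cases b.2 <;> simp

end sums

/-! ### Signed moves -/

/-- A move inside the members of `S`, with the norm change and the coset. -/
def Mv (D : Fin t → Submodule F (ι → F)) (τ : Grp Q) (v : ι → F) (S : Finset (Fin t)) (Δ : F)
    (ε : Bool) : Prop :=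
  ∃ g : Grp Q, Perm D g ∧
    (g : Grp Q ⧸ Cfsg.Omega F ⇑Q) = (if ε then (τ : Grp Q ⧸ Cfsg.Omega F ⇑Q) else 1) ∧
    (∀ x, (∀ i ∈ S, proj Q (D i) x = 0) → ap g x = x) ∧
    (∀ i, i ∉ S → proj Q (D i) (ap g v - v) = 0) ∧ QuadraticMap.polar ⇑Q v (ap g v - v) = -Δ

variable (hd : Dec Q 2 D)
include hd

theorem mv_zero (τ : Grp Q) (v : ι → F) (S : Finset (Fin t)) : Mv D τ v S 0 false :=
  ⟨1, perm_one, by simp, fun x _ => ap_one x, fun i _ => by rw [ap_one, sub_self, map_zero],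
    by rw [ap_one, sub_self, b_zero_right, neg_zero]⟩

theorem mv_mul {τ : Grp Q}
    (hτ : (τ : Grp Q ⧸ Cfsg.Omega F ⇑Q) * (τ : Grp Q ⧸ Cfsg.Omega F ⇑Q) = 1)
    {v : ι → F} {S S' : Finset (Fin t)} {Δ Δ' : F} {ε ε' : Bool}
    (hdisj : Disjoint S S') (h : Mv D τ v S Δ ε) (h' : Mv D τ v S' Δ' ε') :
    Mv D τ v (S ∪ S') (Δ + Δ') (xor ε ε') := by
  obtain ⟨g, hgP, hgq, hgf, hgs, hgB⟩ := h
  obtain ⟨g', hgP', hgq', hgf', hgs', hgB'⟩ := h'
  have e : ap (g * g') v - v = (ap g v - v) + (ap g' v - v) := by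
    rw [ap_mul]
    conv_lhs => rw [← add_sub_cancel v (ap g' v), ap_add, hgf (ap g' v - v)
      fun i hi => hgs' i (Finset.disjoint_left.1 hdisj hi)]
    abel
  refine ⟨g * g', perm_mul hd hgP hgP', ?_, fun x hx => ?_, fun i hi => ?_, ?_⟩
  · rw [QuotientGroup.mk_mul, hgq, hgq']
    cases ε <;> cases ε' <;> simp [hτ]
  · rw [ap_mul, hgf' x fun i hi => hx i (Finset.mem_union_right _ hi),
      hgf x fun i hi => hx i (Finset.mem_union_left _ hi)]
  · rw [Finset.mem_union, not_or] at hi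
    rw [e, map_add, hgs i hi.1, hgs' i hi.2, add_zero]
  · rw [e, b_add_right, hgB, hgB']; ring

/-- One signed move inside a member. -/
theorem mv_one [Fintype F] [DecidableEq F] {e n : ι → F} {re rn : Grp Q} (hre : IsRefl e re) (hrn : IsRefl n rn)
    (hν : ¬ IsSquare (Q e * Q n)) {v : ι → F} (i : Fin t) {a b x : ι → F}
    (ha : a = proj Q (D i) v) (hb : b ∈ D i) (hab : B a b = 0) (hQb : Q b ≠ 0)
    (hx : x ∈ D i) (hQx : Q x = Q a) (hne : Q (a - x) ≠ 0) :
    Mv D (re * rn) v {i} (Q (a - x)) (decide (¬ IsSquare (Q (a - x) * Q b))) := by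
  classical
  have haD : a ∈ D i := ha ▸ hd.comp_mem i v
  obtain ⟨rb, hrb⟩ := exists_refl hd.nd hQb
  have hτ : (((re * rn : Grp Q)) : Grp Q ⧸ Cfsg.Omega F ⇑Q) * (((re * rn : Grp Q)) : Grp Q ⧸ Cfsg.Omega F ⇑Q) = 1 := by
    rw [← QuotientGroup.mk_mul, QuotientGroup.eq_one_iff]
    exact four_mem hd hre hrn hre hrn hν hν
  obtain ⟨r, hr⟩ := exists_refl hd.nd hne
  have hw : a - x ∈ D i := (D i).sub_mem haD hx
  have hbv : B b v = 0 := by rw [b_comm, ← hd.b_comp i v hb, ← ha]; exact hab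
  have hwv : B (a - x) v = Q (a - x) := by
    rw [b_comm, ← hd.b_comp i v hw, ← ha, b_sub_right, b_self, q_sub, hQx, b_comm a x]; ring
  have hgv : ap (r * rb) v = v - (a - x) := by
    rw [ap_mul, refl_fix hrb hbv, hr.2, hwv, inv_mul_cancel₀ hr.1, one_smul]
  refine ⟨r * rb, hd.perm_refl_pair hw hb hr hrb, ?_, fun y hy => ?_, fun l hl => ?_, ?_⟩
  · by_cases hs : IsSquare (Q (a - x) * Q b)
    · rw [decide_eq_false (not_not.2 hs), if_neg (by decide), QuotientGroup.eq_one_iff]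
      exact refl_pair_mem hd hr hrb hs
    · rw [decide_eq_true hs, if_pos rfl]
      have h1 : (((r * rb) * (re * rn) : Grp Q) : Grp Q ⧸ Cfsg.Omega F ⇑Q) = 1 :=
        (QuotientGroup.eq_one_iff _).2 (four_mem hd hr hrb hre hrn hs hν)
      rw [QuotientGroup.mk_mul] at h1
      calc _ = ((r * rb : Grp Q) : Grp Q ⧸ Cfsg.Omega F ⇑Q) *
            ((((re * rn : Grp Q)) : Grp Q ⧸ Cfsg.Omega F ⇑Q) * ((re * rn : Grp Q))) := by
            rw [hτ, mul_one]
        _ = _ := by rw [← mul_assoc, h1, one_mul]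
  · have h0 : ∀ z ∈ D i, B z y = 0 := fun z hz => by
      rw [b_comm, ← hd.b_comp i y hz, hy i (Finset.mem_singleton_self i), b_zero_left]
    rw [ap_mul, refl_fix hrb (h0 b hb), refl_fix hr (h0 _ hw)]
  · rw [Finset.mem_singleton] at hl
    rw [hgv, sub_sub_cancel_left, map_neg, hd.comp_other (Ne.symm hl) hw, neg_zero]
  · rw [hgv, sub_sub_cancel_left, ← neg_one_smul F (a - x), b_smul_right, b_comm v, hwv]; ring

/-- The signed values in one member. -/
theorem mv_set [Fintype F] [DecidableEq F] (hG : Good Q D) (h20 : (2 : F) ≠ 0)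
    {e n : ι → F} {re rn : Grp Q} (hre : IsRefl e re) (hrn : IsRefl n rn)
    (hν : ¬ IsSquare (Q e * Q n)) {v : ι → F} (i : Fin t) (hA : Q (proj Q (D i) v) ≠ 0) :
    ∃ E : Finset (F × Bool), (0, false) ∈ E ∧ Fintype.card F + 1 ≤ 2 * (E.image Prod.fst).card ∧
      (∀ d ∈ E, Mv D (re * rn) v {i} d.1 d.2) ∧ (Three Q D → ∃ δ, (δ, true) ∈ E) := by
  classical
  obtain ⟨a, ha⟩ : ∃ a, a = proj Q (D i) v := ⟨_, rfl⟩
  rw [← ha] at hA
  have haD : a ∈ D i := ha ▸ hd.comp_mem i v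
  have ha0 : a ≠ 0 := fun e => hA (by rw [e, QuadraticMap.map_zero])
  obtain ⟨b, hb, -, hab, hQb⟩ := (plane hd i).exists_perp haD hA
  have hone : ∀ x ∈ D i, Q x = Q a → Q (a - x) ≠ 0 →
      Mv D (re * rn) v {i} (Q (a - x)) (decide (¬ IsSquare (Q (a - x) * Q b))) :=
    fun x hx hQx hne => mv_one hd hre hrn hν i ha hb hab hQb hx hQx hne
  obtain ⟨S, hS, -, -, hScard⟩ := delta_set hd hG i haD ha0
  set E := insert ((0 : F), false) (S.image fun δ => (δ, decide (¬ IsSquare (δ * Q b)))) with hE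
  have hEmv : ∀ d ∈ E, Mv D (re * rn) v {i} d.1 d.2 := by
    intro d hd'
    rcases Finset.mem_insert.1 hd' with rfl | hd'
    · exact mv_zero hd _ v _
    · obtain ⟨δ, hδ, rfl⟩ := Finset.mem_image.1 hd'
      obtain ⟨hδ0, x, hx, hQx, e⟩ := hS δ hδ
      subst e
      exact hone x hx hQx hδ0
  have hcardE : Fintype.card F + 1 ≤ 2 * (E.image Prod.fst).card := by
    have h1 : (E.image Prod.fst) = insert 0 S := by
      rw [hE, Finset.image_insert, Finset.image_image]
      congr 1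
      exact Finset.image_id'
    have h2 := hScard h20 hA
    rw [Nat.card_eq_fintype_card] at h2
    have hodd := FiniteField.odd_card_of_char_ne_two (F := F) fun e => h20 (by
      have := CharP.cast_eq_zero F (ringChar F)
      rwa [e, Nat.cast_ofNat] at this)
    rw [h1, Finset.card_insert_of_notMem fun h => (hS 0 h).1 rfl]
    omega
  by_cases hflip : ∃ δ, (δ, true) ∈ E
  · exact ⟨E, Finset.mem_insert_self _ _, hcardE, hEmv, fun _ => hflip⟩
  -- enlarge by a move of negative sign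
  by_cases h3 : Three Q D
  swap
  · exact ⟨E, Finset.mem_insert_self _ _, hcardE, hEmv, fun h => absurd h h3⟩
  obtain ⟨μ, hμ⟩ := FiniteField.exists_nonsquare (F := F) fun e => h20 (by
    have := CharP.cast_eq_zero F (ringChar F)
    rwa [e, Nat.cast_ofNat] at this)
  have hμ0 : μ ≠ 0 := fun e => hμ (by rw [e]; exact IsSquare.zero)
  obtain ⟨w, hw, y, hy, z, hz, hwc, hyc, hzc, hyw, -, -⟩ := h3 i (μ * Q b) (mul_ne_zero hμ0 hQb)
  have hnsq : ¬ IsSquare (Q w * Q b) := fun ⟨r, hr⟩ => by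
    obtain ⟨s, hs⟩ := hwc.2
    have hr0 : r ≠ 0 := fun e => mul_ne_zero hwc.1 hQb (by rw [hr, e, mul_zero])
    refine hμ ⟨s / r, ?_⟩
    rw [div_mul_div_comm, eq_div_iff (mul_ne_zero hr0 hr0), ← hs, ← hr]; ring
  have hBwa : B a w ≠ 0 := fun e => by
    obtain ⟨c, hc⟩ := (plane hd i).perp_line haD hw hb ha0
      (fun e0 => hQb (by rw [e0, QuadraticMap.map_zero])) e hab
    exact hnsq ⟨c * Q b, by rw [hc, q_smul]; ring⟩
  obtain ⟨r, hr⟩ := exists_refl hd.nd hwc.1
  obtain ⟨δ, hδ⟩ : ∃ δ, δ = (Q w)⁻¹ * B w a := ⟨_, rfl⟩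
  have hax : a - ap r a = δ • w := by rw [hr.2, hδ, sub_sub_cancel]
  have hδ0 : δ ≠ 0 := hδ ▸ mul_ne_zero (inv_ne_zero hwc.1) (by rw [b_comm]; exact hBwa)
  have hne : Q (a - ap r a) ≠ 0 := by
    rw [hax, q_smul]; exact mul_ne_zero (mul_ne_zero hδ0 hδ0) hwc.1
  have hxD : ap r a ∈ D i := by rw [hr.2]; exact (D i).sub_mem haD ((D i).smul_mem _ hw)
  have hns : ¬ IsSquare (Q (a - ap r a) * Q b) := fun ⟨s, hs⟩ => hnsq ⟨s / δ, by
    rw [div_mul_div_comm, eq_div_iff (mul_ne_zero hδ0 hδ0), ← hs, hax, q_smul]; ring⟩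
  refine ⟨insert (Q (a - ap r a), true) E, Finset.mem_insert_of_mem (Finset.mem_insert_self _ _),
    le_trans hcardE (Nat.mul_le_mul_left 2 (Finset.card_le_card
      (Finset.image_subset_image (Finset.subset_insert _ _)))), fun d hd' => ?_,
    fun _ => ⟨_, Finset.mem_insert_self _ _⟩⟩
  rcases Finset.mem_insert.1 hd' with rfl | hd'
  · have := hone _ hxD (ap_q r a) hne
    rwa [decide_eq_true hns] at this
  · exact hEmv d hd'

variable {M : Subgroup (Grp Q)}

/-- A singular component gives a free vector. -/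
theorem free_of_sing (hM : ∀ g, g ∈ Cfsg.Omega F ⇑Q → Perm D g → g ∈ M) (hG : Good Q D)
    (ht : 3 ≤ t) (h20 : (2 : F) ≠ 0) {v : ι → F} (hv : Mx M D v) (hvb : ¬ Blk D v) {i : Fin t}
    (hi : Q (proj Q (D i) v) = 0) : ∃ v', Mx M D v' ∧ ¬ Blk D v' ∧ Free D Q v' := by
  classical
  by_cases hz : ∃ m, proj Q (D m) v = 0
  · obtain ⟨m, hm⟩ := hz
    exact ⟨v, hv, hvb, free_zero hd hm⟩
  push Not at hz
  have hQv : Q v ≠ 0 := mx_ne hd hM hv
  have hnb : ∀ {y : ι → F} (i : Fin t), proj Q (D i) y ≠ 0 → ∀ m, m ≠ i → proj Q (D m) y ≠ 0 →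
      ¬ Blk D y := fun {y} i hi m hmi hm => by
    rw [hd.blk_iff]; push Not; exact ⟨m, i, hmi, hm, hi⟩
  have h7 : 7 ≤ Nat.card F := hG.resolve_right fun h => hz i (h.1 i _ (hd.comp_mem i v) hi)
  obtain ⟨j, hjA⟩ : ∃ j, Q (proj Q (D j) v) ≠ 0 := by
    by_contra hc
    push Not at hc
    refine hQv ?_
    suffices h : ∀ s : Finset (Fin t), Q (∑ l ∈ s, proj Q (D l) v) = 0 by
      rw [← hd.sum_comp v]; exact h _
    intro s
    induction s using Finset.induction_on with
    | empty => rw [Finset.sum_empty, QuadraticMap.map_zero]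
    | insert p s hp ih =>
      rw [Finset.sum_insert hp, q_add, hc p, ih, ← QuadraticMap.polarBilin_apply_apply, map_sum,
        Finset.sum_eq_zero, add_zero, add_zero]
      intro l hl
      show B (proj Q (D p) v) (proj Q (D l) v) = 0
      exact hd.orth p l (fun e => hp (e ▸ hl)) _ (hd.comp_mem p v) _ (hd.comp_mem l v)
  have hji : j ≠ i := fun e => hjA (e ▸ hi)
  obtain ⟨s, hs0, hs1, hsn⟩ := exists_shift_class h20 h7 (mul_ne_zero hQv hjA)
  obtain ⟨x, hx, hBx, hQx⟩ := exists_on_line hd (hd.comp_mem i v) (hz i) hi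
    (neg_ne_zero.2 hQv) (Q v * (s * s - 1))
  have hQx0 : Q x ≠ 0 := by rw [hQx]; exact mul_ne_zero hQv hs1
  have hnew := mx_line hd hM (by omega) hv i (a' := x)
    (Or.inl ⟨Q v * s, by rw [hi, hQx]; ring⟩) hx (by rw [hi, hBx]; ring)
    (by rw [hi, hQx, sub_zero, show Q v + Q v * (s * s - 1) = Q v * (s * s) by ring]
        exact mul_ne_zero hQv (mul_ne_zero hs0 hs0))
  obtain ⟨hc1, hc2⟩ := comp_replace hd i v hx
  refine ⟨_, hnew, hnb i (by rw [hc1]; exact fun e => hQx0 (by rw [e, QuadraticMap.map_zero])) j hji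
    (by rw [hc2 j hji]; exact hz j), free_of_classes hd h20 (p := i) (q := j)
    (by rw [hc1]; exact hQx0) (by rw [hc2 j hji]; exact hjA) fun h => hsn ?_⟩
  rw [hc1, hc2 j hji, hQx] at h
  convert h using 1
  ring

/-- A free related vector exists. -/
theorem exists_free (hM : ∀ g, g ∈ Cfsg.Omega F ⇑Q → Perm D g → g ∈ M) (hG : Good Q D)
    (ht : 6 ≤ t) (h20 : (2 : F) ≠ 0) (h3 : Three Q D) {v : ι → F} (hv : Mx M D v)
    (hvb : ¬ Blk D v) : ∃ v', Mx M D v' ∧ ¬ Blk D v' ∧ Free D Q v' := by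
  classical
  cases nonempty_fintype F
  by_cases hz : ∃ m, proj Q (D m) v = 0
  · obtain ⟨m, hm⟩ := hz
    exact ⟨v, hv, hvb, free_zero hd hm⟩
  push Not at hz
  by_cases hcl : ∃ p q, Q (proj Q (D p) v) ≠ 0 ∧ Q (proj Q (D q) v) ≠ 0 ∧
      ¬ IsSquare (Q (proj Q (D p) v) * Q (proj Q (D q) v))
  · obtain ⟨p, q, hp, hq, h⟩ := hcl
    exact ⟨v, hv, hvb, free_of_classes hd h20 hp hq h⟩
  push Not at hcl
  have hQv : Q v ≠ 0 := mx_ne hd hM hv
  have hnb : ∀ {y : ι → F} (i : Fin t), proj Q (D i) y ≠ 0 → ∀ m, m ≠ i → proj Q (D m) y ≠ 0 →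
      ¬ Blk D y := fun {y} i hi m hmi hm => by
    rw [hd.blk_iff]; push Not; exact ⟨m, i, hmi, hm, hi⟩
  by_cases hsing : ∃ i, Q (proj Q (D i) v) = 0
  · obtain ⟨i, hi⟩ := hsing
    exact free_of_sing hd hM hG (by omega) h20 hv hvb hi
  push Not at hsing
  -- all components anisotropic of one class
  let ix : Fin 6 → Fin t := fun k => ⟨k, by omega⟩
  have hix : ∀ a b, a ≠ b → ix a ≠ ix b := fun a b h e => h (Fin.ext (congrArg Fin.val e :))
  obtain ⟨ν, hν⟩ := FiniteField.exists_nonsquare (F := F) fun e => h20 (by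
    have := CharP.cast_eq_zero F (ringChar F)
    rwa [e, Nat.cast_ofNat] at this)
  have hν0 : ν ≠ 0 := fun e => hν (by rw [e]; exact IsSquare.zero)
  obtain ⟨e, he, hQe⟩ := univ_member (hd.nondeg (ix 0)) (by rw [hd.rank]) 1 one_ne_zero
  obtain ⟨n, hn, hQn⟩ := univ_member (hd.nondeg (ix 0)) (by rw [hd.rank]) ν hν0
  obtain ⟨re, hre⟩ := exists_refl hd.nd (v := e) (by rw [hQe]; exact one_ne_zero)
  obtain ⟨rn, hrn⟩ := exists_refl hd.nd (v := n) (by rw [hQn]; exact hν0)
  have hnu : ¬ IsSquare (Q e * Q n) := by rw [hQe, hQn, one_mul]; exact hν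
  have hτ : (((re * rn : Grp Q)) : Grp Q ⧸ Cfsg.Omega F ⇑Q) * (((re * rn : Grp Q)) : Grp Q ⧸ Cfsg.Omega F ⇑Q) = 1 := by
    rw [← QuotientGroup.mk_mul, QuotientGroup.eq_one_iff]
    exact four_mem hd hre hrn hre hrn hnu hnu
  choose E hE0 hEc hEmv hEflip using fun i : Fin t =>
    mv_set hd hG h20 hre hrn hnu (v := v) i (hsing i)
  -- the distinguished move in the first member
  obtain ⟨a, ha⟩ : ∃ a, a = proj Q (D (ix 0)) v := ⟨_, rfl⟩
  have haD : a ∈ D (ix 0) := ha ▸ hd.comp_mem _ v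
  have hA : Q a ≠ 0 := ha ▸ hsing _
  have ha0 : a ≠ 0 := fun e => hA (by rw [e, QuadraticMap.map_zero])
  obtain ⟨w, hwD, hwc, hwa, hBw⟩ : ∃ w ∈ D (ix 0), Cls Q (Q a) w ∧
      w ∉ Submodule.span F {a} ∧ B a w ≠ 0 := by
    obtain ⟨x, hx, y, hy, z, hz', hxc, hyc, hzc, hyx, hzx, hzy⟩ := h3 (ix 0) (Q a) hA
    by_contra hc
    push Not at hc
    obtain ⟨b, hb, hb0, hab, -⟩ := (plane hd (ix 0)).exists_perp haD hA
    have hor : ∀ p ∈ D (ix 0), Cls Q (Q a) p →
        p ∈ Submodule.span F {a} ∨ p ∈ Submodule.span F {b} := fun p hp hpc => by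
      by_cases h : p ∈ Submodule.span F {a}
      · exact Or.inl h
      · obtain ⟨c, hc'⟩ := (plane hd (ix 0)).perp_line haD hp hb ha0 hb0 (hc p hp hpc h) hab
        exact Or.inr (Submodule.mem_span_singleton.2 ⟨c, hc'.symm⟩)
    have hsame : ∀ {u p r : ι → F}, Q p ≠ 0 → p ∈ Submodule.span F {u} → r ∈ Submodule.span F {u} →
        r ∈ Submodule.span F {p} := fun {u p r} hp h1 h2 => by
      obtain ⟨c, rfl⟩ := Submodule.mem_span_singleton.1 h1
      obtain ⟨d, rfl⟩ := Submodule.mem_span_singleton.1 h2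
      have hc0 : c ≠ 0 := fun e => hp (by rw [e, zero_smul, QuadraticMap.map_zero])
      exact Submodule.mem_span_singleton.2 ⟨d / c, by rw [smul_smul, div_mul_cancel₀ _ hc0]⟩
    rcases hor x hx hxc with h1 | h1 <;> rcases hor y hy hyc with h2 | h2 <;>
      rcases hor z hz' hzc with h3' | h3'
    all_goals first
      | exact hyx (hsame hxc.1 h1 h2)
      | exact hzx (hsame hxc.1 h1 h3')
      | exact hzy (hsame hyc.1 h2 h3')
  obtain ⟨r, hr⟩ := exists_refl hd.nd hwc.1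
  obtain ⟨b₀, hb₀, -, hab₀, hQb₀⟩ := (plane hd (ix 0)).exists_perp haD hA
  obtain ⟨rb, hrb⟩ := exists_refl hd.nd hQb₀
  obtain ⟨κ₀, hκ₀⟩ : ∃ c, c = (Q w)⁻¹ * B w a := ⟨_, rfl⟩
  have hκ0 : κ₀ ≠ 0 := hκ₀ ▸ mul_ne_zero (inv_ne_zero hwc.1) (by rw [b_comm]; exact hBw)
  obtain ⟨a', ha'⟩ : ∃ a', a' = ap r a := ⟨_, rfl⟩
  have hdiff : a - a' = κ₀ • w := by rw [ha', hr.2, hκ₀, sub_sub_cancel]
  have ha'D : a' ∈ D (ix 0) := by
    rw [ha', hr.2]; exact (D _).sub_mem haD ((D _).smul_mem _ hwD)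
  have hQa' : Q a' = Q a := by rw [ha', ap_q]
  obtain ⟨δ₀, hδ₀⟩ : ∃ δ, δ = Q (a - a') := ⟨_, rfl⟩
  have hδ₀w : δ₀ = κ₀ * κ₀ * Q w := by rw [hδ₀, hdiff, q_smul]
  have hδ₀0 : δ₀ ≠ 0 := hδ₀w ▸ mul_ne_zero (mul_ne_zero hκ0 hκ0) hwc.1
  -- the move as an element
  obtain ⟨g₀, hg₀v, ε₀, hmv₀⟩ : ∃ g : Grp Q, (proj Q (D (ix 0)) (ap g v) = a') ∧
      ∃ ε : Bool, Perm D g ∧
      (g : Grp Q ⧸ Cfsg.Omega F ⇑Q) =
        (if ε then (((re * rn : Grp Q)) : Grp Q ⧸ Cfsg.Omega F ⇑Q) else 1) ∧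
      (∀ x, (∀ i ∈ ({ix 0} : Finset (Fin t)), proj Q (D i) x = 0) → ap g x = x) ∧
      (∀ i, i ∉ ({ix 0} : Finset (Fin t)) → proj Q (D i) (ap g v - v) = 0) ∧
      B v (ap g v - v) = -δ₀ := by
    have hbv : B b₀ v = 0 := by rw [b_comm, ← hd.b_comp _ v hb₀, ← ha]; exact hab₀
    have hgv : ap (r * rb) v = v - κ₀ • w := by
      rw [ap_mul, refl_fix hrb hbv, hr.2, hκ₀, b_comm w v, ← hd.b_comp _ v hwD, ← ha, b_comm a w]
    refine ⟨r * rb, ?_, decide (¬ IsSquare (Q w * Q b₀)), hd.perm_refl_pair hwD hb₀ hr hrb, ?_,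
      fun y hy => ?_, fun l hl => ?_, ?_⟩
    · rw [hgv, map_sub, hd.comp_self ((D _).smul_mem _ hwD), ← ha, ← hdiff, sub_sub_cancel]
    · by_cases hs : IsSquare (Q w * Q b₀)
      · rw [decide_eq_false (not_not.2 hs), if_neg (by decide), QuotientGroup.eq_one_iff]
        exact refl_pair_mem hd hr hrb hs
      · rw [decide_eq_true hs, if_pos rfl]
        have h1 : (((r * rb) * (re * rn) : Grp Q) : Grp Q ⧸ Cfsg.Omega F ⇑Q) = 1 :=
          (QuotientGroup.eq_one_iff _).2 (four_mem hd hr hrb hre hrn hs hnu)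
        rw [QuotientGroup.mk_mul] at h1
        calc _ = ((r * rb : Grp Q) : Grp Q ⧸ Cfsg.Omega F ⇑Q) *
              ((((re * rn : Grp Q)) : Grp Q ⧸ Cfsg.Omega F ⇑Q) * ((re * rn : Grp Q))) := by
              rw [hτ, mul_one]
          _ = _ := by rw [← mul_assoc, h1, one_mul]
    · have h0 : ∀ z ∈ D (ix 0), B z y = 0 := fun z hz => by
        rw [b_comm, ← hd.b_comp _ y hz, hy _ (Finset.mem_singleton_self _), b_zero_left]
      rw [ap_mul, refl_fix hrb (h0 b₀ hb₀), refl_fix hr (h0 w hwD)]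
    · rw [Finset.mem_singleton] at hl
      rw [hgv, sub_sub_cancel_left, map_neg, hd.comp_other (Ne.symm hl) ((D _).smul_mem _ hwD), neg_zero]
    · rw [hgv, sub_sub_cancel_left, ← neg_one_smul F (κ₀ • w), b_smul_right, b_smul_right, b_comm v,
        b_comm w, ← hd.b_comp _ v hwD, ← ha, hδ₀w, hκ₀, b_comm a w]
      field_simp
  -- the parameters changing the class
  obtain ⟨β, hβ⟩ : ∃ β, β = B a a' := ⟨_, rfl⟩
  have hβ' : δ₀ = 2 * Q a - β := by rw [hδ₀, q_sub, hQa', hβ]; ring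
  obtain ⟨ω, hω⟩ : ∃ ω, ω = β / Q a := ⟨_, rfl⟩
  have hω4 : ω * ω ≠ 4 := fun h4 => by
    rcases mul_self_eq_mul_self_iff.1 (show ω * ω = 2 * 2 by rw [h4]; norm_num) with h | h
    · rw [hω, div_eq_iff hA] at h
      exact hδ₀0 (by rw [hβ', h]; ring)
    · rw [hω, div_eq_iff hA] at h
      obtain ⟨s, hs⟩ : ∃ s, s = a + a' := ⟨_, rfl⟩
      have hQs : Q s = 0 := by rw [hs, q_add, hQa', ← hβ, h]; ring
      have hsD : s ∈ D (ix 0) := hs ▸ (D _).add_mem haD ha'D
      by_cases hs0 : s = 0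
      · rw [hs] at hs0
        apply hwa
        have hw2 : κ₀ • w = (2 : F) • a := by
          rw [← hdiff, eq_neg_of_add_eq_zero_right hs0]; module
        exact (Submodule.smul_mem_iff _ hκ0).1
          (hw2 ▸ Submodule.smul_mem _ _ (Submodule.mem_span_singleton_self a))
      · obtain ⟨c, hc⟩ := (plane hd _).sing_perp hsD haD hs0 hQs (by
          rw [hs, b_add_left, b_self, b_comm a', ← hβ, h]; ring)
        exact hA (by rw [hc, q_smul, hQs, mul_zero])
  set G := Finset.univ.filter fun κ : F => κ * κ - ω * κ + 1 ≠ 0 ∧ IsSquare (κ * κ - ω * κ + 1)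
    with hGdef
  set Tκ := (Finset.univ : Finset F) \ G with hTdef
  have hTc : Fintype.card F + 1 ≤ 2 * Tκ.card := by
    have h1 := card_sq h20 ω hω4
    rw [← hGdef] at h1
    rw [hTdef, Finset.card_sdiff_of_subset (Finset.subset_univ _), Finset.card_univ]
    omega
  have hone : (1 : F) ∉ Tκ := by
    rw [hTdef, Finset.mem_sdiff, hGdef, Finset.mem_filter]
    push Not
    intro _
    have e : (1 : F) * 1 - ω * 1 + 1 = δ₀ / Q a := by
      rw [hω, hβ']; field_simp; ring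
    refine ⟨Finset.mem_univ _, by rw [e]; exact div_ne_zero hδ₀0 hA, ?_⟩
    rw [e, hδ₀w]
    obtain ⟨c, hc⟩ := hwc.2
    exact ⟨κ₀ * c / Q a, by field_simp; linear_combination hc⟩
  -- targets for the remaining sum
  set T := Tκ.image fun κ => 2 * Q v - κ * Q v - δ₀ with hT
  have hTc' : Fintype.card F + 1 ≤ 2 * T.card := by
    rw [hT, Finset.card_image_of_injective _ fun p q h => ?_]
    · exact hTc
    · exact mul_right_cancel₀ hQv (by linear_combination -h)
  obtain ⟨x, hx⟩ := exists_double h20 (fun k => E (ix ⟨k.val + 2, by omega⟩)) (hE0 _) (fun k => hEc _)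
    (hEflip _ h3)
  obtain ⟨d, hd₅, hdT⟩ : ∃ d ∈ E (ix 5), x + d.1 ∈ T := by
    obtain ⟨y, hy⟩ := Finset.inter_nonempty_of_card_lt_card_add_card (Finset.subset_univ _)
      (Finset.subset_univ _) (show (Finset.univ : Finset F).card <
        (((E (ix 5)).image Prod.fst).image fun u => x + u).card + T.card by
          rw [Finset.card_univ, Finset.card_image_of_injective _ (add_right_injective x)]
          have := hEc (ix 5)
          omega)
    rw [Finset.mem_inter] at hy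
    obtain ⟨u, hu, rfl⟩ := Finset.mem_image.1 hy.1
    obtain ⟨d, hd', rfl⟩ := Finset.mem_image.1 hu
    exact ⟨d, hd', hy.2⟩
  obtain ⟨κ, hκT, hκ⟩ := Finset.mem_image.1 hdT
  obtain ⟨ee, hee, hesum, hexor⟩ := hx (xor ε₀ d.2)
  have hdisj : ∀ (S : Finset (Fin t)) (i : Fin t), i ∉ S → Disjoint S {i} := fun S i h =>
    Finset.disjoint_singleton_right.2 h
  have hm2 := hEmv (ix 2) _ (hee 0)
  have hm3 := hEmv (ix 3) _ (hee 1)
  have hm4 := hEmv (ix 4) _ (hee 2)
  have hm5 := hEmv (ix 5) d hd₅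
  have hm := mv_mul hd hτ (hdisj _ _ (by simp [hix])) (mv_mul hd hτ (hdisj _ _ (by simp [hix]))
    (mv_mul hd hτ (hdisj _ _ (by simp [hix])) hm2 hm3) hm4) hm5
  obtain ⟨g₁, hg₁P, hg₁q, hg₁f, hg₁s, hg₁B⟩ := hm
  obtain ⟨hg₀P, hg₀q, hg₀f, hg₀s, hg₀B⟩ := hmv₀
  set S₁ : Finset (Fin t) := ({ix 2} ∪ {ix 3}) ∪ {ix 4} ∪ {ix 5} with hS₁
  have h0S : ix 0 ∉ S₁ := by simp [hS₁, hix]
  have h1S : ix 1 ∉ S₁ := by simp [hS₁, hix]
  obtain ⟨g, hg⟩ : ∃ g, g = g₀ * g₁ := ⟨_, rfl⟩
  have hsplit : ap g v - v = (ap g₀ v - v) + (ap g₁ v - v) := by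
    rw [hg, ap_mul]
    conv_lhs => rw [← add_sub_cancel v (ap g₁ v), ap_add, hg₀f (ap g₁ v - v)
      fun i hi => hg₁s i (by rw [Finset.mem_singleton] at hi; rw [hi]; exact h0S)]
    abel
  have hgO : g ∈ Cfsg.Omega F ⇑Q := by
    rw [← QuotientGroup.eq_one_iff, hg, QuotientGroup.mk_mul, hg₀q, hg₁q, hexor]
    cases ε₀ <;> cases d.2 <;> simp <;> simpa using hτ
  have hgP : Perm D g := hg ▸ perm_mul hd hg₀P hg₁P
  have hBgv : B v (ap g v) = κ * Q v := by
    have h := congrArg (B v) hsplit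
    rw [b_sub_right, b_add_right, hg₀B, hg₁B, b_self, hesum] at h
    linear_combination h + hκ
  have hgv := mx_perm hd hM hv hgO hgP
  obtain ⟨rv, hrv⟩ := exists_refl hd.nd hQv
  have hy := mx_refl hd hM hv hgv ⟨Q v, by rw [ap_q]⟩ hrv
  rw [hrv.2, hBgv, show (Q v)⁻¹ * (κ * Q v) = κ by field_simp] at hy
  have hcomp : ∀ i, proj Q (D i) (ap g v - κ • v) =
      proj Q (D i) v + (proj Q (D i) (ap g₀ v - v) + proj Q (D i) (ap g₁ v - v)) - κ • proj Q (D i) v :=
    fun i => by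
      rw [← map_add, ← hsplit, ← map_add, add_sub_cancel, map_sub, map_smul]
  have hc0 : proj Q (D (ix 0)) (ap g v - κ • v) = a' - κ • a := by
    rw [hcomp, hg₁s _ h0S, add_zero, map_sub, hg₀v, ← ha, add_sub_cancel]
  have hc1 : proj Q (D (ix 1)) (ap g v - κ • v) = (1 - κ) • proj Q (D (ix 1)) v := by
    rw [hcomp, hg₁s _ h1S, hg₀s _ (by simp [hix]), add_zero, add_zero]
    module
  have hκ1 : (1 : F) - κ ≠ 0 := fun e => hone ((sub_eq_zero.1 e) ▸ hκT)
  have hN : Q (a' - κ • a) = Q a * (κ * κ - ω * κ + 1) := by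
    rw [q_sub, q_smul, b_smul_right, b_comm a', ← hβ, hQa', hω]
    field_simp
    ring
  have hne0 : a' - κ • a ≠ 0 := fun e0 => by
    rw [sub_eq_zero] at e0
    refine hwa ?_
    have h : κ₀ • w = (1 - κ) • a := by rw [← hdiff, e0]; module
    exact (Submodule.smul_mem_iff _ hκ0).1
      (h ▸ Submodule.smul_mem _ _ (Submodule.mem_span_singleton_self a))
  have hnb' := hnb (ix 0) (by rw [hc0]; exact hne0) (ix 1) (hix 1 0 (by decide))
    (by rw [hc1]; exact smul_ne_zero hκ1 (hz _))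
  by_cases hN0 : Q (a' - κ • a) = 0
  · exact free_of_sing hd hM hG (by omega) h20 hy hnb' (i := ix 0) (by rw [hc0]; exact hN0)
  refine ⟨_, hy, hnb', free_of_classes hd h20 (p := ix 0) (q := ix 1) (by rw [hc0]; exact hN0)
    (by rw [hc1, q_smul]; exact mul_ne_zero (mul_ne_zero hκ1 hκ1) (hsing _)) fun h => ?_⟩
  rw [hc0, hc1, hN, q_smul] at h
  obtain ⟨s, hs⟩ := h
  obtain ⟨c, hc⟩ := hcl (ix 0) (ix 1) (hsing _) (hsing _)
  rw [← ha] at hc
  have hc' : c ≠ 0 := fun e => mul_ne_zero hA (hsing (ix 1)) (by rw [hc, e, mul_zero])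
  rw [hTdef, Finset.mem_sdiff] at hκT
  refine hκT.2 ?_
  rw [hGdef, Finset.mem_filter]
  refine ⟨Finset.mem_univ _, fun e => hN0 (by rw [hN, e, mul_zero]), s / ((1 - κ) * c), ?_⟩
  rw [div_mul_div_comm, eq_div_iff (mul_ne_zero (mul_ne_zero hκ1 hc') (mul_ne_zero hκ1 hc')), ← hs]
  linear_combination -((1 - κ) * (1 - κ) * (κ * κ - ω * κ + 1)) * hc

end CfsgLib.Orth.PlanesMax
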