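import Cfsg.Agent.Lib.Classical.OrthDecompMax.Setup
import Cfsg.Agent.Lib.Classical.OrthSpinor

set_option autoImplicit false
set_option linter.unusedSectionVars false

/-!
Non-degenerate planes: perpendiculars, singular lines, vectors of one norm.
-/

namespace CfsgLib.Orth.PlanesMax

open Matrix

variable {F : Type*} [Field F] [Finite F] {ι : Type} [Fintype ι] [DecidableEq ι]
variable {Q : QuadraticForm F (ι → F)}

local notation "B" => QuadraticMap.polar (DFunLike.coe Q)

/-- A non-degenerate plane. -/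
structure IsPlane (Q : QuadraticForm F (ι → F)) (W : Submodule F (ι → F)) : Prop where
  nd : NondegOn Q W
  rank : Module.finrank F W = 2

/-- No singular vectors. -/
def NoSing (Q : QuadraticForm F (ι → F)) (W : Submodule F (ι → F)) : Prop :=
  ∀ s ∈ W, Q s = 0 → s = 0

omit [Finite F] in
theorem card_roots [Fintype F] [DecidableEq F] {α β γ : F} (h : α ≠ 0 ∨ β ≠ 0 ∨ γ ≠ 0) :
    (Finset.univ.filter fun x : F => α * (x * x) + β * x + γ = 0).card ≤ 2 := by
  obtain ⟨P, hP⟩ : ∃ P : Polynomial F, P = Polynomial.C α * Polynomial.X ^ 2 +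
      Polynomial.C β * Polynomial.X + Polynomial.C γ := ⟨_, rfl⟩
  have hP0 : P ≠ 0 := fun e => by
    have h2 := congrArg (fun p : Polynomial F => p.coeff 2) (hP.symm.trans e)
    have h1 := congrArg (fun p : Polynomial F => p.coeff 1) (hP.symm.trans e)
    have h0 := congrArg (fun p : Polynomial F => p.coeff 0) (hP.symm.trans e)
    simp at h2 h1 h0
    tauto
  refine le_trans (Finset.card_le_card (t := P.roots.toFinset) fun x hx => ?_) ?_
  · rw [Finset.mem_filter] at hx
    rw [Multiset.mem_toFinset, Polynomial.mem_roots hP0, Polynomial.IsRoot, hP]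
    simp only [Polynomial.eval_add, Polynomial.eval_mul, Polynomial.eval_C, Polynomial.eval_pow,
      Polynomial.eval_X]
    linear_combination hx.2
  · refine (Multiset.toFinset_card_le _).trans ((Polynomial.card_roots' P).trans ?_)
    rw [hP]
    compute_degree!

namespace IsPlane

variable {W : Submodule F (ι → F)} (hW : IsPlane Q W)
include hW

theorem exists_indep {a : ι → F} (ha0 : a ≠ 0) : ∃ y ∈ W, y ∉ Submodule.span F {a} := by
  by_contra hc
  push Not at hc
  have := (Submodule.finrank_mono (show W ≤ _ from hc)).trans (finrank_span_singleton ha0).le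
  rw [hW.rank] at this
  omega

theorem coords {a y x : ι → F} (ha : a ∈ W) (hy : y ∈ W) (ha0 : a ≠ 0)
    (hya : y ∉ Submodule.span F {a}) (hx : x ∈ W) : ∃ p q : F, x = p • y + q • a := by
  have hle : Submodule.span F ({y, a} : Set (ι → F)) ≤ W := Submodule.span_le.2 fun z hz => by
    rcases Set.mem_insert_iff.1 hz with rfl | hz
    · exact hy
    · rw [Set.mem_singleton_iff.1 hz]; exact ha
  have hli : LinearIndependent F ![y, a] := by
    rw [LinearIndependent.pair_iff]
    intro p q h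
    by_cases hp : p = 0
    · rw [hp, zero_smul, zero_add] at h
      exact ⟨hp, (smul_eq_zero.1 h).resolve_right ha0⟩
    · refine absurd ((Submodule.smul_mem_iff _ hp).1 ?_) hya
      rw [eq_neg_of_add_eq_zero_left h]
      exact neg_mem (Submodule.smul_mem _ _ (Submodule.mem_span_singleton_self a))
  have h2 := finrank_span_eq_card hli
  rw [Fintype.card_fin, Matrix.range_cons, Matrix.range_cons, Matrix.range_empty,
    Set.union_empty, Set.singleton_union] at h2
  rw [← Submodule.eq_of_le_of_finrank_le hle (by rw [h2, hW.rank])] at hx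
  obtain ⟨p, q, h⟩ := Submodule.mem_span_pair.1 hx
  exact ⟨p, q, h.symm⟩

theorem perp_line {a x y : ι → F} (ha : a ∈ W) (hx : x ∈ W) (hy : y ∈ W) (ha0 : a ≠ 0)
    (hy0 : y ≠ 0) (hax : B a x = 0) (hay : B a y = 0) : ∃ c : F, x = c • y := by
  by_contra hc
  push Not at hc
  refine ha0 (hW.nd a ha fun w hw => ?_)
  obtain ⟨p, q, rfl⟩ := hW.coords hy hx hy0
    (fun h => by obtain ⟨c, hc'⟩ := Submodule.mem_span_singleton.1 h; exact hc c hc'.symm) hw
  rw [b_add_right, b_smul_right, b_smul_right, hax, hay, mul_zero, mul_zero, add_zero]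

theorem sing_perp {s x : ι → F} (hs : s ∈ W) (hx : x ∈ W) (hs0 : s ≠ 0) (hQs : Q s = 0)
    (h : B s x = 0) : ∃ c : F, x = c • s :=
  hW.perp_line hs hx hs hs0 hs0 h (b_self_zero hQs)

theorem sing_two {s₁ s₂ s₃ : ι → F} (h1 : s₁ ∈ W) (h2 : s₂ ∈ W) (h3 : s₃ ∈ W) (hn1 : s₁ ≠ 0)
    (hn2 : s₂ ≠ 0) (q1 : Q s₁ = 0) (q2 : Q s₂ = 0) (q3 : Q s₃ = 0) :
    (∃ c : F, s₂ = c • s₁) ∨ (∃ c : F, s₃ = c • s₁) ∨ (∃ c : F, s₃ = c • s₂) := by
  by_cases h : B s₁ s₂ = 0
  · exact Or.inl (hW.sing_perp h1 h2 hn1 q1 h)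
  obtain ⟨p, q, rfl⟩ := hW.coords h1 h2 hn1 (fun hm => h (by
    obtain ⟨c, rfl⟩ := Submodule.mem_span_singleton.1 hm
    rw [b_smul_right, b_self_zero q1, mul_zero])) h3
  rw [q_add, q_smul, q_smul, q1, q2, mul_zero, mul_zero, add_zero, zero_add, b_smul_left,
    b_smul_right, b_comm] at q3
  rcases mul_eq_zero.1 q3 with hp | hp
  · exact Or.inr (Or.inl ⟨q, by rw [hp, zero_smul, zero_add]⟩)
  · exact Or.inr (Or.inr ⟨p, by rw [(mul_eq_zero.1 hp).resolve_right h, zero_smul, add_zero]⟩)

/-- A perpendicular anisotropic vector. -/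
theorem exists_perp {a : ι → F} (ha : a ∈ W) (hQ : Q a ≠ 0) :
    ∃ b ∈ W, b ≠ 0 ∧ B a b = 0 ∧ Q b ≠ 0 := by
  have ha0 : a ≠ 0 := fun e => hQ (by rw [e, QuadraticMap.map_zero])
  obtain ⟨y, hy, hya⟩ := hW.exists_indep ha0
  obtain ⟨b, hb⟩ : ∃ b, b = B a y • a - (2 * Q a) • y := ⟨_, rfl⟩
  have hbW : b ∈ W := hb ▸ W.sub_mem (W.smul_mem _ ha) (W.smul_mem _ hy)
  have hab : B a b = 0 := by rw [hb, b_sub_right, b_smul_right, b_smul_right, b_self]; ring
  have hb0 : b ≠ 0 := by
    intro e
    rw [hb, sub_eq_zero] at e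
    by_cases h2 : (2 : F) * Q a = 0
    · rw [h2, zero_smul, smul_eq_zero] at e
      refine ha0 (hW.nd a ha fun w hw => ?_)
      obtain ⟨p, q, rfl⟩ := hW.coords ha hy ha0 hya hw
      rw [b_add_right, b_smul_right, b_smul_right, e.resolve_right ha0, b_self, h2, mul_zero,
        mul_zero, add_zero]
    · exact hya ((Submodule.smul_mem_iff _ h2).1
        (e ▸ Submodule.smul_mem _ _ (Submodule.mem_span_singleton_self a)))
  refine ⟨b, hbW, hb0, hab, fun e => ?_⟩
  obtain ⟨c, hc⟩ := hW.sing_perp hbW ha hb0 e (by rw [b_comm]; exact hab)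
  exact hQ (by rw [hc, q_smul, e, mul_zero])

/-- A partner completing a frame. -/
theorem exists_frame {a : ι → F} (ha : a ∈ W) (ha0 : a ≠ 0) :
    ∃ f ∈ W, f ∉ Submodule.span F {a} ∧ B a f = 1 := by
  obtain ⟨y, hy, hya⟩ := hW.exists_indep ha0
  have go : ∀ y ∈ W, y ∉ Submodule.span F {a} → B a y ≠ 0 →
      ∃ f ∈ W, f ∉ Submodule.span F {a} ∧ B a f = 1 := fun y hy hya hb =>
    ⟨(B a y)⁻¹ • y, W.smul_mem _ hy,
      fun h => hya ((Submodule.smul_mem_iff _ (inv_ne_zero hb)).1 h),
      by rw [b_smul_right, inv_mul_cancel₀ hb]⟩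
  by_cases hb : B a y = 0
  swap
  · exact go y hy hya hb
  refine go (y + a) (W.add_mem hy ha) (fun h => hya ?_) fun e => ha0 (hW.nd a ha fun w hw => ?_)
  · have := Submodule.sub_mem _ h (Submodule.mem_span_singleton_self a)
    rwa [add_sub_cancel_right] at this
  · rw [b_add_right, hb, zero_add] at e
    obtain ⟨p, q, rfl⟩ := hW.coords ha hy ha0 hya hw
    rw [b_add_right, b_smul_right, b_smul_right, hb, e, mul_zero, mul_zero, add_zero]

/-- Few vectors of one norm with a given product with an anisotropic vector. -/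
theorem fibre [DecidableEq (ι → F)] {a : ι → F} (ha : a ∈ W) (hQ : Q a ≠ 0) (e β : F)
    (s : Finset (ι → F)) (hs : ∀ x ∈ s, x ∈ W ∧ Q x = e ∧ B a x = β) : s.card ≤ 2 := by
  classical
  cases nonempty_fintype F
  have ha0 : a ≠ 0 := fun e => hQ (by rw [e, QuadraticMap.map_zero])
  obtain ⟨f, hf, hfa, haf⟩ := hW.exists_frame ha ha0
  have hdisc : 4 * Q a * Q f - 1 ≠ 0 := by
    intro h
    obtain ⟨w, hw⟩ : ∃ w, w = (2 * Q a) • f - a := ⟨_, rfl⟩
    have hwW : w ∈ W := hw ▸ W.sub_mem (W.smul_mem _ hf) ha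
    have hw0 : w ≠ 0 := fun e0 => by
      rw [hw, sub_eq_zero] at e0
      by_cases h2 : (2 : F) * Q a = 0
      · exact ha0 (by rw [← e0, h2, zero_smul])
      · refine hfa ((Submodule.smul_mem_iff _ h2).1 ?_)
        rw [e0]
        exact Submodule.mem_span_singleton_self a
    have hQw : Q w = 0 := by
      rw [hw, q_sub, q_smul, b_smul_left, b_comm f a, haf]
      linear_combination (Q a) * h
    obtain ⟨c, hc⟩ := hW.sing_perp hwW ha hw0 hQw (by
      rw [hw, b_sub_left, b_smul_left, b_comm f a, haf, b_self]; ring)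
    exact hQ (by rw [hc, q_smul, hQw, mul_zero])
  obtain ⟨pa, hpa⟩ : ∃ pa : (ι → F) → F, ∀ x ∈ W, ∃ p : F, x = p • f + pa x • a := by
    refine ⟨fun x => if h : x ∈ W then (hW.coords ha hf ha0 hfa h).choose_spec.choose else 0,
      fun x hx => ⟨(hW.coords ha hf ha0 hfa hx).choose, ?_⟩⟩
    simp only [dif_pos hx]
    exact (hW.coords ha hf ha0 hfa hx).choose_spec.choose_spec
  have hform : ∀ x ∈ s, x = (β - 2 * Q a * pa x) • f + pa x • a := by
    intro x hx
    obtain ⟨p, hp⟩ := hpa x (hs x hx).1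
    have h := (hs x hx).2.2
    rw [hp, b_add_right, b_smul_right, b_smul_right, haf, b_self] at h
    conv_lhs => rw [hp]
    rw [show p = β - 2 * Q a * pa x by linear_combination h]
  have hinj : Set.InjOn pa (s : Set (ι → F)) := fun x hx y hy h => by
    rw [hform x hx, hform y hy, h]
  rw [← Finset.card_image_of_injOn hinj]
  refine le_trans (Finset.card_le_card fun u hu => ?_)
    (card_roots (α := Q a * (4 * Q a * Q f - 1)) (β := β * (1 - 4 * Q a * Q f))
      (γ := β * β * Q f - e) (Or.inl (mul_ne_zero hQ hdisc)))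
  obtain ⟨x, hx, rfl⟩ := Finset.mem_image.1 hu
  refine Finset.mem_filter.2 ⟨Finset.mem_univ _, ?_⟩
  have h := (hs x hx).2.1
  rw [hform x hx, q_add, q_smul, q_smul, b_smul_left, b_smul_right, b_comm f a, haf] at h
  linear_combination h

/-- The values of the product with an anisotropic vector. -/
theorem card_values [DecidableEq F] [DecidableEq (ι → F)] {a : ι → F} (ha : a ∈ W) (hQ : Q a ≠ 0)
    (e : F) (s : Finset (ι → F)) (hs : ∀ x ∈ s, x ∈ W ∧ Q x = e) :
    s.card ≤ 2 * (s.image fun x => B a x).card :=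
  Finset.card_le_mul_card_image s 2 fun β _ => hW.fibre ha hQ e β _ fun x hx => by
    rw [Finset.mem_filter] at hx
    exact ⟨(hs x hx.1).1, (hs x hx.1).2, hx.2⟩

/-- The vectors of a given norm. -/
theorem exists_norm_set (hB : Nondeg Q) [DecidableEq (ι → F)] {a : ι → F} (ha : a ∈ W) (hQ : Q a ≠ 0) :
    ∃ s : Finset (ι → F), (∀ x ∈ s, x ∈ W ∧ Q x = Q a) ∧ Nat.card F ≤ s.card + 1 ∧
      (NoSing Q W → Nat.card F + 1 ≤ s.card) := by
  classical
  cases nonempty_fintype F
  have ha0 : a ≠ 0 := fun e => hQ (by rw [e, QuadraticMap.map_zero])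
  obtain ⟨f, hf, hfa, haf⟩ := hW.exists_frame ha ha0
  obtain ⟨im, him⟩ : ∃ im : F → ι → F, im = fun x =>
      a - ((Q (f + x • a))⁻¹ * B (f + x • a) a) • (f + x • a) := ⟨_, rfl⟩
  set V := Finset.univ.filter fun x : F => Q (f + x • a) ≠ 0 with hV
  have hval : ∀ x : F, Q (f + x • a) = Q a * (x * x) + 1 * x + Q f := fun x => by
    rw [q_add, q_smul, b_smul_right, b_comm f a, haf]; ring
  have hVcard : Nat.card F ≤ V.card + 2 := by
    have h1 := Finset.card_filter_add_card_filter_not (s := (Finset.univ : Finset F))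
      (fun x => Q (f + x • a) ≠ 0)
    rw [← hV, Finset.card_univ, ← Nat.card_eq_fintype_card] at h1
    have h2 : (Finset.univ.filter fun x : F => ¬ Q (f + x • a) ≠ 0).card ≤ 2 :=
      le_trans (Finset.card_le_card fun x hx => by
        rw [Finset.mem_filter] at hx ⊢
        exact ⟨hx.1, by rw [← hval]; exact not_not.1 hx.2⟩)
        (card_roots (α := Q a) (β := 1) (γ := Q f) (Or.inl hQ))
    omega
  have hind : ∀ p q : F, p • f + q • a = 0 → p = 0 ∧ q = 0 := by
    intro p q h
    have hp : p = 0 := by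
      by_contra hp
      refine hfa ((Submodule.smul_mem_iff _ hp).1 ?_)
      rw [eq_neg_of_add_eq_zero_left h]
      exact neg_mem (Submodule.smul_mem _ _ (Submodule.mem_span_singleton_self a))
    rw [hp, zero_smul, zero_add] at h
    exact ⟨hp, (smul_eq_zero.1 h).resolve_right ha0⟩
  have hinj : Set.InjOn im (V : Set F) := by
    intro x hx y hy h
    rw [Finset.mem_coe, hV, Finset.mem_filter] at hx hy
    rw [him] at h
    simp only at h
    obtain ⟨cx, hcx⟩ : ∃ c, c = (Q (f + x • a))⁻¹ * B (f + x • a) a := ⟨_, rfl⟩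
    obtain ⟨cy, hcy⟩ : ∃ c, c = (Q (f + y • a))⁻¹ * B (f + y • a) a := ⟨_, rfl⟩
    rw [← hcx, ← hcy, sub_right_inj] at h
    obtain ⟨e1, e2⟩ := hind (cx - cy) (cx * x - cy * y) (by
      linear_combination (norm := module) h)
    rw [sub_eq_zero] at e1
    rw [← e1, ← mul_sub, mul_eq_zero, sub_eq_zero] at e2
    rcases e2 with e | e
    · have h1 : B (f + x • a) a = 0 := (mul_eq_zero.1 (hcx.symm.trans e)).resolve_left
        (inv_ne_zero hx.2)
      have h2 : B (f + y • a) a = 0 := (mul_eq_zero.1 (hcy.symm.trans (e1.symm.trans e))).resolve_left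
        (inv_ne_zero hy.2)
      rw [b_add_left, b_smul_left, b_comm f a, haf, b_self] at h1 h2
      have hne : (2 : F) * Q a ≠ 0 := fun e0 => by
        rw [e0, mul_zero, add_zero] at h1; exact one_ne_zero h1
      exact mul_right_cancel₀ hne (by linear_combination h1 - h2)
    · exact e
  have himW : ∀ x ∈ V, im x ∈ W ∧ Q (im x) = Q a := by
    intro x hx
    rw [hV, Finset.mem_filter] at hx
    obtain ⟨r, hr⟩ := exists_refl hB hx.2
    have e : im x = ap r a := by rw [hr.2, him]
    refine ⟨?_, by rw [e, ap_q]⟩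
    rw [him]
    exact W.sub_mem ha (W.smul_mem _ (W.add_mem hf (W.smul_mem _ ha)))
  have hnot : -a ∉ V.image im := by
    intro h
    obtain ⟨x, hx, e⟩ := Finset.mem_image.1 h
    rw [him] at e
    simp only at e
    obtain ⟨c, hc⟩ : ∃ c, c = (Q (f + x • a))⁻¹ * B (f + x • a) a := ⟨_, rfl⟩
    rw [← hc] at e
    obtain ⟨e1, e2⟩ := hind (-c) (2 - c * x) (by linear_combination (norm := module) e)
    rw [neg_eq_zero] at e1
    rw [hV, Finset.mem_filter] at hx
    have h1 : B (f + x • a) a = 0 := (mul_eq_zero.1 (hc.symm.trans e1)).resolve_left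
      (inv_ne_zero hx.2)
    rw [e1, zero_mul, sub_zero] at e2
    rw [b_add_left, b_smul_left, b_comm f a, haf, b_self, e2, zero_mul, mul_zero, add_zero] at h1
    exact one_ne_zero h1
  refine ⟨insert (-a) (V.image im), ?_, ?_, fun hns => ?_⟩
  · intro x hx
    rcases Finset.mem_insert.1 hx with rfl | hx
    · exact ⟨W.neg_mem ha, QuadraticMap.map_neg Q a⟩
    · obtain ⟨y, hy, rfl⟩ := Finset.mem_image.1 hx
      exact himW y hy
  · rw [Finset.card_insert_of_notMem hnot, Finset.card_image_of_injOn hinj]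
    omega
  · have hall : V = Finset.univ := by
      rw [hV, Finset.filter_eq_self]
      intro x _ e
      refine hfa ?_
      have h0 := hns _ (W.add_mem hf (W.smul_mem _ ha)) e
      rw [eq_neg_of_add_eq_zero_left h0]
      exact neg_mem (Submodule.smul_mem _ _ (Submodule.mem_span_singleton_self a))
    rw [Finset.card_insert_of_notMem hnot, Finset.card_image_of_injOn hinj, hall, Finset.card_univ,
      Nat.card_eq_fintype_card]

end IsPlane

end CfsgLib.Orth.PlanesMax
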