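import Cfsg.Agent.Lib.Classical.OrthPlanesMax.Values

set_option autoImplicit false
set_option linter.unusedSectionVars false

/-!
Changing one component of a related vector to any other.
-/

namespace CfsgLib.Orth.PlanesMax

open Matrix DecompMax

variable {F : Type*} [Field F] [Finite F] {ι : Type} [Fintype ι] [DecidableEq ι]
variable {Q : QuadraticForm F (ι → F)} {t : ℕ} {D : Fin t → Submodule F (ι → F)}

local notation "B" => QuadraticMap.polar (DFunLike.coe Q)

theorem q_sum_zero {v a : ι → F} (h : B (v - a) a = 0) : Q v = Q (v - a) + Q a := by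
  conv_lhs => rw [← sub_add_cancel v a]
  rw [q_add, h, add_zero]

variable (hd : Dec Q 2 D)
include hd

theorem comp_replace (j : Fin t) (v : ι → F) {x : ι → F} (hx : x ∈ D j) :
    proj Q (D j) (v - proj Q (D j) v + x) = x ∧
      (∀ i, i ≠ j → proj Q (D i) (v - proj Q (D j) v + x) = proj Q (D i) v) := by
  refine ⟨?_, fun i hi => ?_⟩
  · rw [map_add, map_sub, hd.comp_self (hd.comp_mem j v), sub_self, zero_add, hd.comp_self hx]
  · rw [map_add, map_sub, hd.comp_other (Ne.symm hi) (hd.comp_mem j v), sub_zero,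
      hd.comp_other (Ne.symm hi) hx, add_zero]

theorem q_replace (j : Fin t) (v : ι → F) {x : ι → F} (hx : x ∈ D j) :
    Q (v - proj Q (D j) v + x) = Q v - Q (proj Q (D j) v) + Q x := by
  have h := hd.sub_mem_orth j v
  have h1 : B (v - proj Q (D j) v) x = 0 := by rw [b_comm]; exact h x hx
  have h2 : B (v - proj Q (D j) v) (proj Q (D j) v) = 0 := by rw [b_comm]; exact h _ (hd.comp_mem j v)
  rw [q_add, h1, add_zero, q_sum_zero h2]; ring

theorem free_of_zero (h20 : (2 : F) = 0 ∨ (2 : F) ≠ 0) {v : ι → F} {m : Fin t}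
    (hm : proj Q (D m) v = 0) : Free D Q v := by
  rcases h20 with h | h
  · exact Or.inl h
  cases nonempty_fintype F
  obtain ⟨ν, hν⟩ := FiniteField.exists_nonsquare (F := F) fun e => h (by
    have := CharP.cast_eq_zero F (ringChar F)
    rwa [e, Nat.cast_ofNat] at this)
  have hν0 : ν ≠ 0 := fun e => hν (by rw [e]; exact IsSquare.zero)
  obtain ⟨x, hx, hQx⟩ := univ_member (hd.nondeg m) (by rw [hd.rank]) 1 one_ne_zero
  obtain ⟨y, hy, hQy⟩ := univ_member (hd.nondeg m) (by rw [hd.rank]) ν hν0
  have hperp : ∀ z ∈ D m, B z v = 0 := fun z hz => by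
    rw [b_comm, ← hd.b_comp m v hz, hm, b_zero_left]
  exact Or.inr ⟨m, m, x, hx, y, hy, by rw [hQx]; exact one_ne_zero, by rw [hQy]; exact hν0,
    hperp x hx, hperp y hy, by rw [hQx, hQy, one_mul]; exact hν⟩

theorem free_zero {v : ι → F} {m : Fin t} (hm : proj Q (D m) v = 0) : Free D Q v :=
  free_of_zero hd (em _) hm

variable {M : Subgroup (Grp Q)}
variable (hM : ∀ g, g ∈ Cfsg.Omega F ⇑Q → Perm D g → g ∈ M) (hG : Good Q D) (ht : 3 ≤ t)
include hM hG ht

omit ht in
/-- Moving one component to another of the same norm. -/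
theorem mx_move {v : ι → F} {j : Fin t} (hf : ∀ x ∈ D j, Free D Q (v - proj Q (D j) v + x))
    {p p' : ι → F} (hp : p ∈ D j) (hp' : p' ∈ D j) (hQp : Q p ≠ 0) (he : Q p = Q p')
    (h : Mx M D (v - proj Q (D j) v + p)) : Mx M D (v - proj Q (D j) v + p') := by
  classical
  by_cases hpp : p = p'
  · rwa [← hpp]
  obtain ⟨s, hs, h1, h2⟩ := norm_set hd j hQp
  have h5 : 5 ≤ s.card := by
    rcases hG with h7 | ⟨hns, h4⟩
    · omega
    · have := h2 (hns j); omega
  have hbad : ∀ q ∈ D j, Q q = Q p → (s.filter fun x => Q (q - x) = 0).card ≤ 2 := fun q hq hQq => by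
    refine (plane hd j).fibre hq (by rw [hQq]; exact hQp) (Q p) (2 * Q p) _ fun x hx => ?_
    rw [Finset.mem_filter] at hx
    refine ⟨(hs x hx.1).1, (hs x hx.1).2, ?_⟩
    have := hx.2
    rw [q_sub, hQq, (hs x hx.1).2] at this
    linear_combination -this
  obtain ⟨x, hx⟩ : (s \ ((s.filter fun x => Q (p - x) = 0) ∪ (s.filter fun x => Q (p' - x) = 0))).Nonempty :=
    Finset.card_pos.1 (by
      have := Finset.le_card_sdiff ((s.filter fun x => Q (p - x) = 0) ∪
        (s.filter fun x => Q (p' - x) = 0)) s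
      have := Finset.card_union_le (s.filter fun x => Q (p - x) = 0) (s.filter fun x => Q (p' - x) = 0)
      have := hbad p hp rfl
      have := hbad p' hp' he.symm
      omega)
  simp only [Finset.mem_sdiff, Finset.mem_union, Finset.mem_filter, not_or, not_and] at hx
  have hxD := (hs x hx.1).1
  have hn1 : Q (p - x) ≠ 0 := hx.2.1 hx.1
  have hn2 : Q (x - p') ≠ 0 := by
    rw [← neg_sub, QuadraticMap.map_neg]; exact hx.2.2 hx.1
  obtain ⟨r, hr⟩ := exists_refl hd.nd hn1
  obtain ⟨r', hr'⟩ := exists_refl hd.nd hn2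
  obtain ⟨w, hw⟩ : ∃ w, w = v - proj Q (D j) v := ⟨_, rfl⟩
  have hfix : ∀ z ∈ D j, ∀ rr : Grp Q, IsRefl z rr → ap rr w = w := fun z hz rr hrr =>
    refl_fix hrr (hw ▸ hd.sub_mem_orth j v z hz)
  have hswap : ∀ {q q' : ι → F} {rr : Grp Q}, Q q = Q q' → IsRefl (q - q') rr → ap rr q = q' := by
    intro q q' rr hqq hrr
    have hB : B (q - q') q = Q (q - q') := by
      rw [b_sub_left, b_self, q_sub, ← hqq, b_comm q' q]; ring
    rw [hrr.2, hB, inv_mul_cancel₀ hrr.1, one_smul, sub_sub_cancel]
  obtain ⟨g, hg, hgP, hgv⟩ := free_move hd hM (hf p hp) ⟨j, (D j).sub_mem hxD hp'⟩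
    ⟨j, (D j).sub_mem hp hxD⟩ hr' hr
  have h3 := mx_perm hd hM h hg hgP
  rw [hgv, ← hw, ap_mul, ap_add, hswap (hs x hx.1).2.symm hr, hfix _ ((D j).sub_mem hp hxD) r hr,
    ap_add, hswap (((hs x hx.1).2.trans he)) hr', hfix _ ((D j).sub_mem hxD hp') r' hr'] at h3
  rwa [← hw]

omit hM hG ht in
/-- A vector of given norm on an affine line, the member having a singular vector. -/
theorem exists_on_line {j : Fin t} {s : ι → F} (hs : s ∈ D j) (hs0 : s ≠ 0) (hQs : Q s = 0)
    {β : F} (hβ : β ≠ 0) (X : F) : ∃ x ∈ D j, B s x = β ∧ Q x = X := by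
  obtain ⟨f, hf, -, hsf⟩ := (plane hd j).exists_frame hs hs0
  refine ⟨β • f + ((X - β * β * Q f) / β) • s, (D j).add_mem ((D j).smul_mem _ hf)
    ((D j).smul_mem _ hs), by rw [b_add_right, b_smul_right, b_smul_right, hsf, b_self_zero hQs]; ring, ?_⟩
  rw [q_add, q_smul, q_smul, hQs, b_smul_left, b_smul_right, b_comm f s, hsf]
  field_simp
  ring

/-- Any vector of the member can replace a component. -/
theorem mx_reach {v : ι → F} (hv : Mx M D v) {j : Fin t}
    (hf : ∀ x ∈ D j, Free D Q (v - proj Q (D j) v + x))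
    (ha0 : proj Q (D j) v ≠ 0) (hR : Q v - Q (proj Q (D j) v) ≠ 0) {x : ι → F} (hx : x ∈ D j)
    (hx0 : x ≠ 0) (hX : Q v - Q (proj Q (D j) v) + Q x ≠ 0) :
    Mx M D (v - proj Q (D j) v + x) := by
  classical
  cases nonempty_fintype F
  obtain ⟨a, ha⟩ : ∃ a, a = proj Q (D j) v := ⟨_, rfl⟩
  rw [← ha] at hf ha0 hR hX ⊢
  have haD : a ∈ D j := ha ▸ hd.comp_mem j v
  obtain ⟨w, hw⟩ : ∃ w, w = v - a := ⟨_, rfl⟩
  rw [← hw] at hf ⊢
  obtain ⟨R, hRdef⟩ : ∃ R, R = Q v - Q a := ⟨_, rfl⟩
  rw [← hRdef] at hR hX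
  have hva : v = w + a := by rw [hw, sub_add_cancel]
  have hcomp : ∀ p ∈ D j, proj Q (D j) (w + p) = p ∧ w + p - proj Q (D j) (w + p) = w ∧
      Q (w + p) = R + Q p := by
    intro p hp
    have h1 : proj Q (D j) (w + p) = p := by
      rw [hw, ha]; exact (comp_replace hd j v hp).1
    exact ⟨h1, by rw [h1, add_sub_cancel_right], by rw [hw, ha, q_replace hd j v hp, hRdef, ha]⟩
  have hstep : ∀ p ∈ D j, Mx M D (w + p) → ∀ q ∈ D j, B p q = Q p - R → R + Q q ≠ 0 →
      Mx M D (w + q) := by
    intro p hp hpm q hq hpq hne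
    obtain ⟨h1, h2, h3⟩ := hcomp p hp
    have := mx_line hd hM ht hpm j (a' := q) (Or.inr (hf p hp)) hq
      (by rw [h1, hpq, h3]; ring) (by rw [h1, h3]; convert hne using 1; ring)
    rwa [h2] at this
  have hmove : ∀ p ∈ D j, ∀ q ∈ D j, Q p ≠ 0 → Q p = Q q → Mx M D (w + p) → Mx M D (w + q) := by
    intro p hp q hq hQp he hpm
    obtain ⟨h1, h2, -⟩ := hcomp p hp
    have := mx_move hd hM hG (v := w + p) (j := j) (by rw [h2]; exact hf) hp hq hQp he
      (by rw [h2]; exact hpm)
    rwa [h2] at this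
  have hv0 : Mx M D (w + a) := hva ▸ hv
  -- vectors of the norm needed for the last step
  have hEne : R + Q x ≠ 0 := hX
  obtain ⟨S, hS, hS1, hS2⟩ := norm_set hd j hEne
  -- it suffices to reach one of their translates
  suffices h : ∃ z ∈ S, Q (x + z) ≠ 0 ∧ ∃ p ∈ D j, Q p = Q (x + z) ∧ Mx M D (w + p) by
    obtain ⟨z, hz, hne, p, hp, hQp, hpm⟩ := h
    have hxz : x + z ∈ D j := (D j).add_mem hx (hS z hz).1
    refine hstep (x + z) hxz (hmove p hp (x + z) hxz (by rw [hQp]; exact hne) hQp hpm) x hx ?_ hEne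
    rw [b_add_left, b_self, q_add, (hS z hz).2, b_comm z x]; ring
  by_cases hns : NoSing Q (D j)
  · have haQ : Q a ≠ 0 := fun e => ha0 (hns a haD e)
    have hxQ : Q x ≠ 0 := fun e => hx0 (hns x hx e)
    obtain ⟨β, hβdef⟩ : ∃ β, β = Q a - R := ⟨_, rfl⟩
    obtain ⟨f, hf', hfa, haf⟩ := (plane hd j).exists_frame haD ha0
    obtain ⟨b, hb, hb0, hab, hQb⟩ := (plane hd j).exists_perp haD haQ
    set L := (Finset.univ : Finset F).image fun u : F => β • f + u • b with hLdef
    have hL : ∀ y ∈ L, y ∈ D j ∧ B a y = β := fun y hy => by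
      obtain ⟨u, -, rfl⟩ := Finset.mem_image.1 hy
      exact ⟨(D j).add_mem ((D j).smul_mem _ hf') ((D j).smul_mem _ hb), by
        rw [b_add_right, b_smul_right, b_smul_right, haf, hab]; ring⟩
    have hLc : L.card = Fintype.card F := by
      rw [hLdef, Finset.card_image_of_injective _ fun u u' h => ?_, Finset.card_univ]
      exact smul_left_injective F hb0 (add_left_cancel h)
    have hV1 : Fintype.card F ≤ 2 * (L.image fun y => Q y).card := by
      rw [← hLc]
      refine Finset.card_le_mul_card_image L 2 fun e _ => (plane hd j).fibre haD haQ e β _ fun y hy => ?_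
      rw [Finset.mem_filter] at hy
      exact ⟨(hL y hy.1).1, hy.2, (hL y hy.1).2⟩
    have hV2 : Fintype.card F + 1 ≤ 2 * (S.image fun z => Q (x + z)).card := by
      have h1 := (plane hd j).card_values hx hxQ (R + Q x) S hS
      have h2 : (S.image fun z => Q (x + z)) = (S.image fun z => B x z).image
          fun β => Q x + (R + Q x) + β := by
        rw [Finset.image_image]
        refine Finset.image_congr fun z hz => ?_
        show Q (x + z) = Q x + (R + Q x) + B x z
        rw [q_add, (hS z (Finset.mem_coe.1 hz)).2]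
      rw [h2, Finset.card_image_of_injective _ (add_right_injective _), ← Nat.card_eq_fintype_card]
      have := hS2 hns
      omega
    obtain ⟨A, hA⟩ := Finset.inter_nonempty_of_card_lt_card_add_card (Finset.subset_univ _)
      (Finset.subset_univ _) (show (Finset.univ : Finset F).card <
        (L.image fun y => Q y).card + (S.image fun z => Q (x + z)).card by
          rw [Finset.card_univ]; omega)
    rw [Finset.mem_inter] at hA
    obtain ⟨y, hy, hyA⟩ := Finset.mem_image.1 hA.1
    obtain ⟨z, hz, hzA⟩ := Finset.mem_image.1 hA.2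
    have hne : Q (x + z) ≠ 0 := fun e => by
      have h0 := hns _ ((D j).add_mem hx (hS z hz).1) e
      have hzx : z = -x := eq_neg_of_add_eq_zero_right h0
      have h1 := (hS z hz).2
      rw [hzx, QuadraticMap.map_neg] at h1
      exact hR (by linear_combination -h1)
    refine ⟨z, hz, hne, y, (hL y hy).1, by rw [hzA, hyA], hstep a haD hv0 y (hL y hy).1
      (by rw [(hL y hy).2, hβdef]) fun e => ?_⟩
    obtain ⟨d, hd'⟩ : ∃ d, d = a - y := ⟨_, rfl⟩
    have hQd : Q d = 0 := by rw [hd', q_sub, (hL y hy).2, hβdef]; linear_combination e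
    have hd0 := hns d (hd' ▸ (D j).sub_mem haD (hL y hy).1) hQd
    rw [hd', sub_eq_zero] at hd0
    have h1 := (hL y hy).2
    rw [← hd0, b_self, hβdef] at h1
    exact mx_ne hd hM hv (by linear_combination h1 - hRdef)
  · simp only [NoSing, not_forall] at hns
    obtain ⟨s, hs, hQs, hs0⟩ := hns
    have hq7 : 7 ≤ Nat.card F := hG.resolve_right fun h => hs0 (h.1 j s hs hQs)
    -- a singular component
    obtain ⟨n, hn, hn0, hQn, hnm⟩ : ∃ n ∈ D j, n ≠ 0 ∧ Q n = 0 ∧ Mx M D (w + n) := by
      by_cases haQ : Q a = 0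
      · exact ⟨a, haD, ha0, haQ, hv0⟩
      have hwit : ∀ p ∈ D j, Q p ≠ 0 → Q p ≠ R → Mx M D (w + p) →
          ∃ n ∈ D j, n ≠ 0 ∧ Q n = 0 ∧ Mx M D (w + n) := by
        intro p hp hQp hpR hpm
        have hBs : B p s ≠ 0 := fun e => hQp (by
          obtain ⟨c, hc⟩ := (plane hd j).sing_perp hs hp hs0 hQs (by rw [b_comm]; exact e)
          rw [hc, q_smul, hQs, mul_zero])
        refine ⟨((Q p - R) / B p s) • s, (D j).smul_mem _ hs,
          smul_ne_zero (div_ne_zero (sub_ne_zero.2 hpR) hBs) hs0, by rw [q_smul, hQs, mul_zero],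
          hstep p hp hpm _ ((D j).smul_mem _ hs) ?_ (by rw [q_smul, hQs, mul_zero, add_zero]; exact hR)⟩
        rw [b_smul_right, div_mul_cancel₀ _ hBs]
      by_cases haR : Q a = R
      · obtain ⟨b, hb, hb0, hab, hQb⟩ := (plane hd j).exists_perp haD haQ
        obtain ⟨u, hu⟩ : ∃ u : F, u ∈ Finset.univ \ ({0} ∪ (Finset.univ.filter fun u : F => Q b * (u * u) + 0 * u + -R = 0) ∪
            (Finset.univ.filter fun u : F => Q b * (u * u) + 0 * u + R = 0)) := by
          refine Finset.card_pos.1 ?_
          have h1 := card_roots (α := Q b) (β := (0 : F)) (γ := -R) (Or.inl hQb)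
          have h2 := card_roots (α := Q b) (β := (0 : F)) (γ := R) (Or.inl hQb)
          have h3 := Finset.le_card_sdiff ({0} ∪ (Finset.univ.filter fun u : F => Q b * (u * u) + 0 * u + -R = 0) ∪
            (Finset.univ.filter fun u : F => Q b * (u * u) + 0 * u + R = 0)) Finset.univ
          have h4 := Finset.card_union_le ({0} ∪ (Finset.univ.filter fun u : F => Q b * (u * u) + 0 * u + -R = 0))
            (Finset.univ.filter fun u : F => Q b * (u * u) + 0 * u + R = 0)
          have h5 := Finset.card_union_le ({0} : Finset F) (Finset.univ.filter fun u : F => Q b * (u * u) + 0 * u + -R = 0)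
          rw [Finset.card_singleton] at h5
          rw [Finset.card_univ, ← Nat.card_eq_fintype_card] at h3
          omega
        simp only [Finset.mem_sdiff, Finset.mem_union, Finset.mem_singleton, Finset.mem_filter,
          Finset.mem_univ, true_and, not_or, zero_mul, add_zero] at hu
        refine hwit (u • b) ((D j).smul_mem _ hb)
          (by rw [q_smul]; exact mul_ne_zero (mul_ne_zero hu.1.1 hu.1.1) hQb)
          (fun e => hu.1.2 (by rw [← e, q_smul]; ring))
          (hstep a haD hv0 _ ((D j).smul_mem _ hb) (by rw [b_smul_right, hab, haR]; ring)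
            fun e => hu.2 (by rw [q_smul] at e; linear_combination e))
      · exact hwit a haD haQ haR hv0
    -- everything anisotropic from a singular component
    obtain ⟨z, hz⟩ : (S \ ((S.filter fun z => Q (x + z) = 0) ∪ (S.filter fun z => Q (x + z) = -R))).Nonempty := by
      have hval : ∀ c : F, (S.filter fun z => Q (x + z) = c).card ≤ 2 := by
        intro c
        by_cases hxQ : Q x = 0
        · refine le_trans ?_ one_le_two
          refine Finset.card_le_one.2 fun y hy y' hy' => ?_
          rw [Finset.mem_filter] at hy hy'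
          have hB : B x (y - y') = 0 := by
            have h1 := hy.2
            have h2 := hy'.2
            rw [q_add, (hS _ hy.1).2] at h1
            rw [q_add, (hS _ hy'.1).2] at h2
            rw [b_sub_right]; linear_combination h1 - h2
          obtain ⟨e, he⟩ := (plane hd j).sing_perp hx ((D j).sub_mem (hS _ hy.1).1 (hS _ hy'.1).1)
            hx0 hxQ hB
          have hy1 := (hS _ hy.1).2
          rw [eq_add_of_sub_eq he, q_add, q_smul, hxQ, (hS _ hy'.1).2, b_smul_left, mul_zero,
            zero_add, hxQ] at hy1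
          have hy1' : e * B x y' = 0 := by linear_combination hy1
          rcases mul_eq_zero.1 hy1' with h | h
          · rw [h, zero_smul, sub_eq_zero] at he; exact he
          · exfalso
            obtain ⟨e', he'⟩ := (plane hd j).sing_perp hx (hS _ hy'.1).1 hx0 hxQ h
            have := (hS _ hy'.1).2
            rw [he', q_smul, hxQ, mul_zero] at this
            exact hR (by linear_combination -this)
        · refine (plane hd j).fibre hx hxQ (R + Q x) (c - Q x - (R + Q x)) _ fun z hz => ?_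
          rw [Finset.mem_filter] at hz
          refine ⟨(hS z hz.1).1, (hS z hz.1).2, ?_⟩
          have := hz.2
          rw [q_add, (hS z hz.1).2] at this
          linear_combination this
      refine Finset.card_pos.1 ?_
      have := Finset.le_card_sdiff ((S.filter fun z => Q (x + z) = 0) ∪ (S.filter fun z => Q (x + z) = -R)) S
      have := Finset.card_union_le (S.filter fun z => Q (x + z) = 0) (S.filter fun z => Q (x + z) = -R)
      have := hval 0
      have := hval (-R)
      omega
    simp only [Finset.mem_sdiff, Finset.mem_union, Finset.mem_filter, not_or, not_and] at hz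
    obtain ⟨p, hp, hBp, hQp⟩ := exists_on_line hd hn hn0 hQn (neg_ne_zero.2 hR) (Q (x + z))
    exact ⟨z, hz.1, hz.2.1 hz.1, p, hp, hQp, hstep n hn hnm p hp (by rw [hBp, hQn]; ring)
      fun e => hz.2.2 hz.1 (by rw [← hQp]; linear_combination e)⟩

end CfsgLib.Orth.PlanesMax
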