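import Cfsg.Agent.Lib.Classical.OrthPlanesMax.Reach

set_option autoImplicit false
set_option linter.unusedSectionVars false

/-!
From any related vector outside the members to one meeting exactly two members.
-/

namespace CfsgLib.Orth.PlanesMax

open Matrix DecompMax

variable {F : Type*} [Field F] [Finite F] {ι : Type} [Fintype ι] [DecidableEq ι]
variable {Q : QuadraticForm F (ι → F)} {t : ℕ} {D : Fin t → Submodule F (ι → F)}

local notation "B" => QuadraticMap.polar (DFunLike.coe Q)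

/-- Some related vector meets exactly two members. -/
def HasPair (M : Subgroup (Grp Q)) (D : Fin t → Submodule F (ι → F)) : Prop :=
  ∃ j l, j ≠ l ∧ ∃ x ∈ D j, ∃ y ∈ D l, x ≠ 0 ∧ y ≠ 0 ∧ Mx M D (x + y)

theorem no_equilateral (h2 : (2 : F) = 0) (h4 : Nat.card F = 4) {W : Submodule F (ι → F)}
    (hW : IsPlane Q W) (hns : NoSing Q W) {a x : ι → F} (ha : a ∈ W) (ha0 : a ≠ 0) (hx : x ∈ W)
    (hQx : Q x = Q a) : Q (a - x) ≠ Q a := by
  intro h
  have hQa : Q a ≠ 0 := fun e => ha0 (hns a ha e)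
  obtain ⟨f, hf, hfa, haf⟩ := hW.exists_frame ha ha0
  cases nonempty_fintype F
  have hfour : ∀ r : F, r ^ 4 = r := fun r => by
    have := FiniteField.pow_card r
    rwa [← Nat.card_eq_fintype_card, h4] at this
  have hidem : ∀ r : F, r * r + r = 0 ∨ r * r + r = 1 := fun r => by
    have e : (r * r + r) * (r * r + r) = 1 * (r * r + r) := by
      linear_combination hfour r + (r * r * r) * h2
    by_cases h0 : r * r + r = 0
    · exact Or.inl h0
    · exact Or.inr (mul_right_cancel₀ h0 e)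
  obtain ⟨p, q, rfl⟩ := hW.coords ha hf ha0 hfa hx
  rw [q_add, q_smul, q_smul, b_smul_left, b_smul_right, b_comm f a, haf] at hQx
  rw [q_sub, q_add, q_smul, q_smul, b_smul_left, b_smul_right, b_comm f a, haf, b_add_right,
    b_smul_right, b_smul_right, haf, b_self] at h
  have hp : p = Q a := by linear_combination hQx - h - q * Q a * h2
  rw [hp] at hQx
  have h1 : Q a * Q f + (q * q + q) = 1 := mul_left_cancel₀ hQa (by linear_combination hQx)
  have hone : Q a * Q f = 1 := by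
    rcases hidem q with e | e
    · linear_combination h1 - e
    · exfalso
      refine hfa ?_
      rw [hns f hf ((mul_eq_zero.1 (show Q a * Q f = 0 by linear_combination h1 - e)).resolve_left hQa)]
      exact Submodule.zero_mem _
  obtain ⟨r, hr0, hr1⟩ := exists_ne_two_values (F := F) (by omega) 1
  have hr : r * r + r = 1 := (hidem r).resolve_left fun e => by
    have h' : r * (r + 1) = 0 := by linear_combination e
    exact hr1 (by linear_combination (mul_eq_zero.1 h').resolve_left hr0 - h2)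
  have hz : Q (f + (r / Q a) • a) = 0 := by
    rw [q_add, q_smul, b_smul_right, b_comm f a, haf]
    field_simp
    linear_combination hone + hr + h2
  refine hfa ?_
  rw [eq_neg_of_add_eq_zero_left (hns _ (W.add_mem hf (W.smul_mem _ ha)) hz)]
  exact neg_mem (Submodule.smul_mem _ _ (Submodule.mem_span_singleton_self a))

variable (hd : Dec Q 2 D)
include hd

theorem free_keep {v : ι → F} {j p q : Fin t} {x y : ι → F} (hx : x ∈ D p) (hy : y ∈ D q)
    (hQx : Q x ≠ 0) (hQy : Q y ≠ 0) (hxv : B x v = 0) (hyv : B y v = 0)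
    (hxy : ¬ IsSquare (Q x * Q y)) (hjp : j ≠ p) (hjq : j ≠ q) :
    ∀ z ∈ D j, Free D Q (v - proj Q (D j) v + z) := by
  intro z hz
  have key : ∀ {i : Fin t} {u : ι → F}, j ≠ i → u ∈ D i → B u v = 0 →
      B u (v - proj Q (D j) v + z) = 0 := fun {i u} hji hu h => by
    rw [b_add_right, b_sub_right, h, b_comm u z, hd.orth j i hji z hz u hu, b_comm u,
      hd.orth j i hji _ (hd.comp_mem j v) u hu, sub_zero, add_zero]
  exact Or.inr ⟨p, q, x, hx, y, hy, hQx, hQy, key hjp hx hxv, key hjq hy hyv, hxy⟩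

theorem free_keep_zero {v : ι → F} {j m : Fin t} (hm : proj Q (D m) v = 0) (hjm : j ≠ m) :
    ∀ z ∈ D j, Free D Q (v - proj Q (D j) v + z) := fun z hz =>
  free_zero hd (m := m) (by rw [(comp_replace hd j v hz).2 m (Ne.symm hjm)]; exact hm)

variable {M : Subgroup (Grp Q)}
variable (hM : ∀ g, g ∈ Cfsg.Omega F ⇑Q → Perm D g → g ∈ M) (hG : Good Q D) (ht : 5 ≤ t)
include hM hG ht

/-- Changing the norm of a component carrying the whole norm. -/
theorem mx_bump {v : ι → F} (hv : Mx M D v) {l : Fin t} (hf : Free D Q v)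
    (hA : Q (proj Q (D l) v) = Q v) :
    ∃ a' ∈ D l, a' ≠ 0 ∧ Q a' ≠ Q v ∧ Q a' ≠ 0 ∧ Mx M D (v - proj Q (D l) v + a') := by
  classical
  cases nonempty_fintype F
  obtain ⟨a, ha⟩ : ∃ a, a = proj Q (D l) v := ⟨_, rfl⟩
  rw [← ha] at hA ⊢
  have haD : a ∈ D l := ha ▸ hd.comp_mem l v
  have hQv : Q v ≠ 0 := mx_ne hd hM hv
  have hQa : Q a ≠ 0 := hA ▸ hQv
  have ha0 : a ≠ 0 := fun e => hQa (by rw [e, QuadraticMap.map_zero])
  obtain ⟨f, hf', -, haf⟩ := (plane hd l).exists_frame haD ha0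
  obtain ⟨b, hb, hb0, hab, hQb⟩ := (plane hd l).exists_perp haD hQa
  have hval : ∀ u : F, Q (Q a • f + u • b) = Q b * (u * u) + Q a * B f b * u + Q a * Q a * Q f := by
    intro u
    rw [q_add, q_smul, q_smul, b_smul_left, b_smul_right]; ring
  have hne : ∀ u : F, Q a • f + u • b ≠ 0 := fun u e => by
    have h : B a (Q a • f + u • b) = Q a := by
      rw [b_add_right, b_smul_right, b_smul_right, haf, hab]; ring
    rw [e, b_zero_right] at h
    exact hQa h.symm
  set Z := Finset.univ.filter fun u : F => Q (Q a • f + u • b) = 0 with hZ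
  set V := Finset.univ.filter fun u : F => Q (Q a • f + u • b) = Q v with hV
  have hZc : Z.card ≤ 2 := le_trans (Finset.card_le_card fun u hu => by
    rw [hZ, Finset.mem_filter] at hu
    rw [Finset.mem_filter]; exact ⟨hu.1, by rw [← hval]; exact hu.2⟩)
    (card_roots (α := Q b) (β := Q a * B f b) (γ := Q a * Q a * Q f) (Or.inl hQb))
  have hVc : V.card ≤ 2 := le_trans (Finset.card_le_card fun u hu => by
    rw [hV, Finset.mem_filter] at hu
    rw [Finset.mem_filter]; exact ⟨hu.1, by have := hu.2; rw [hval] at this; linear_combination this⟩)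
    (card_roots (α := Q b) (β := Q a * B f b) (γ := Q a * Q a * Q f - Q v) (Or.inl hQb))
  obtain ⟨u, hu⟩ : ((Finset.univ : Finset F) \ (Z ∪ V)).Nonempty := Finset.card_pos.1 (by
    have h1 := Finset.le_card_sdiff (Z ∪ V) (Finset.univ : Finset F)
    have h2 := Finset.card_union_le Z V
    rw [Finset.card_univ, ← Nat.card_eq_fintype_card] at h1
    rcases hG with h | ⟨hns, h4⟩
    · omega
    · have : Z.card = 0 := by
        rw [hZ, Finset.card_eq_zero, Finset.filter_eq_empty_iff]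
        exact fun u _ e => hne u (hns l _ ((D l).add_mem ((D l).smul_mem _ hf') ((D l).smul_mem _ hb)) e)
      omega)
  simp only [Finset.mem_sdiff, Finset.mem_union, hZ, hV, Finset.mem_filter, Finset.mem_univ,
    true_and, not_or] at hu
  have hmem : Q a • f + u • b ∈ D l := (D l).add_mem ((D l).smul_mem _ hf') ((D l).smul_mem _ hb)
  refine ⟨_, hmem, hne u, hu.2, hu.1, ?_⟩
  have h := mx_line hd hM (by omega) hv l (a' := Q a • f + u • b) (Or.inr hf) hmem
    (by rw [← ha, b_add_right, b_smul_right, b_smul_right, haf, hab, hA]; ring)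
    (fun e => hu.1 (by rw [← ha] at e; linear_combination e + hA))
  rwa [← ha] at h

omit hG in
/-- Two components moved so that the difference lies in two members. -/
theorem pair_of_deltas {v : ι → F} (hv : Mx M D v) (hf : Free D Q v) {l m : Fin t} (hlm : l ≠ m)
    {x y : ι → F} (hx : x ∈ D l) (hy : y ∈ D m) (hQx : Q x = Q (proj Q (D l) v))
    (hQy : Q y = Q (proj Q (D m) v)) (h1 : Q (proj Q (D l) v - x) ≠ 0)
    (h2 : Q (proj Q (D m) v - y) ≠ 0)
    (hsum : Q (proj Q (D l) v - x) + Q (proj Q (D m) v - y) = Q v) : HasPair M D := by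
  obtain ⟨a, ha⟩ : ∃ a, a = proj Q (D l) v := ⟨_, rfl⟩
  obtain ⟨c, hc⟩ : ∃ c, c = proj Q (D m) v := ⟨_, rfl⟩
  rw [← ha] at hQx h1 hsum
  rw [← hc] at hQy h2 hsum
  have haD : a ∈ D l := ha ▸ hd.comp_mem l v
  have hcD : c ∈ D m := hc ▸ hd.comp_mem m v
  obtain ⟨r, hr⟩ := exists_refl hd.nd h1
  obtain ⟨r', hr'⟩ := exists_refl hd.nd h2
  obtain ⟨g, hg, hgP, hgv⟩ := free_move hd hM hf ⟨l, (D l).sub_mem haD hx⟩
    ⟨m, (D m).sub_mem hcD hy⟩ hr hr'
  have hBa : B (a - x) v = Q (a - x) := by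
    rw [b_comm, ← hd.b_comp l v ((D l).sub_mem haD hx), ← ha, b_sub_right, b_self, q_sub, hQx,
      b_comm a x]; ring
  have hBc : B (c - y) v = Q (c - y) := by
    rw [b_comm, ← hd.b_comp m v ((D m).sub_mem hcD hy), ← hc, b_sub_right, b_self, q_sub, hQy,
      b_comm c y]; ring
  have hcross : B (a - x) (c - y) = 0 :=
    hd.orth l m hlm _ ((D l).sub_mem haD hx) _ ((D m).sub_mem hcD hy)
  have e : ap (r * r') v = v - (a - x) - (c - y) := by
    rw [ap_mul, hr'.2, hBc, inv_mul_cancel₀ hr'.1, one_smul, hr.2, b_sub_right, hBa, hcross,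
      sub_zero, inv_mul_cancel₀ hr.1, one_smul]
    abel
  have h3 := mx_perm hd hM hv hg hgP
  rw [hgv, e] at h3
  have hQv : Q v ≠ 0 := mx_ne hd hM hv
  obtain ⟨s, hs⟩ := exists_refl hd.nd hQv
  have hB : B v (v - (a - x) - (c - y)) = Q v := by
    rw [b_sub_right, b_sub_right, b_comm v (a - x), hBa, b_comm v (c - y), hBc, b_self]
    linear_combination -hsum
  have hQg : Q (v - (a - x) - (c - y)) = Q v := by rw [← e, ap_q]
  have h4 := mx_refl hd hM hv h3 ⟨Q v, by rw [hQg]⟩ hs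
  rw [hs.2, hB, inv_mul_cancel₀ hQv, one_smul] at h4
  have h5 := mx_smul hd hM h4 (c := (-1 : F)) (neg_ne_zero.2 one_ne_zero)
  refine ⟨l, m, hlm, a - x, (D l).sub_mem haD hx, c - y, (D m).sub_mem hcD hy,
    fun e0 => h1 (by rw [e0, QuadraticMap.map_zero]), fun e0 => h2 (by rw [e0, QuadraticMap.map_zero]), ?_⟩
  convert h5 using 1
  module

/-- Removing a component. -/
theorem mx_kill (h20 : (2 : F) ≠ 0) {v : ι → F} (hv : Mx M D v) {j : Fin t}
    (hf : ∀ z ∈ D j, Free D Q (v - proj Q (D j) v + z)) (ha0 : proj Q (D j) v ≠ 0)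
    (hR : Q v - Q (proj Q (D j) v) ≠ 0) : Mx M D (v - proj Q (D j) v) := by
  obtain ⟨R, hRdef⟩ : ∃ R, R = Q v - Q (proj Q (D j) v) := ⟨_, rfl⟩
  obtain ⟨x, hx, hQx⟩ := univ_member (hd.nondeg j) (by rw [hd.rank]) R (hRdef ▸ hR)
  have hx0 : x ≠ 0 := fun e => hR (by rw [← hRdef, ← hQx, e, QuadraticMap.map_zero])
  have h1 := mx_reach hd hM hG (by omega) hv hf ha0 hR hx hx0 (by
    rw [hQx, ← hRdef, ← two_mul]; exact mul_ne_zero h20 (hRdef ▸ hR))
  have hc := (comp_replace hd j v hx).1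
  have h2 := mx_line hd hM (by omega) h1 j (a' := 0) (Or.inr (hf x hx)) (D j).zero_mem
    (by rw [hc, q_replace hd j v hx, hQx, b_zero_right, hRdef]; ring)
    (by rw [hc, q_replace hd j v hx, QuadraticMap.map_zero, add_zero, add_sub_cancel_right]; exact hR)
  rwa [hc, add_sub_cancel_right, add_zero] at h2

/-- Some component with a non-zero complementary norm. -/
theorem exists_R {v : ι → F} (hv : Mx M D v) (hfree : Free D Q v) (P : Fin t → Prop) {j l : Fin t}
    (hjl : j ≠ l) (hj : P j) (hl : P l) (hj0 : proj Q (D j) v ≠ 0) (hl0 : proj Q (D l) v ≠ 0) :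
    ∃ v', Mx M D v' ∧ (∀ i, proj Q (D i) v' ≠ 0 ↔ proj Q (D i) v ≠ 0) ∧
      (∀ i, ¬ P i → proj Q (D i) v' = proj Q (D i) v) ∧
      ∃ i, P i ∧ proj Q (D i) v' ≠ 0 ∧ Q v' - Q (proj Q (D i) v') ≠ 0 := by
  by_cases hjR : Q v - Q (proj Q (D j) v) ≠ 0
  · exact ⟨v, hv, fun _ => Iff.rfl, fun _ _ => rfl, j, hj, hj0, hjR⟩
  by_cases hlR : Q v - Q (proj Q (D l) v) ≠ 0
  · exact ⟨v, hv, fun _ => Iff.rfl, fun _ _ => rfl, l, hl, hl0, hlR⟩
  push Not at hjR hlR
  obtain ⟨a', ha', ha'0, hne, hne0, h⟩ := mx_bump hd hM hG ht hv hfree (l := l)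
    (sub_eq_zero.1 hlR).symm
  obtain ⟨hc1, hc2⟩ := comp_replace hd l v ha'
  refine ⟨_, h, fun i => ?_, fun i hi => hc2 i fun e => hi (e ▸ hl), j, hj, ?_, ?_⟩
  · by_cases e : i = l
    · subst e; rw [hc1]; exact iff_of_true ha'0 hl0
    · rw [hc2 i e]
  · rw [hc2 j hjl]; exact hj0
  · rw [hc2 j hjl, q_replace hd l v ha', hlR, zero_add, sub_ne_zero]
    rw [← sub_eq_zero.1 hjR]; exact hne

/-- In odd characteristic the components are removed one at a time. -/
theorem pair_odd (h20 : (2 : F) ≠ 0) {v : ι → F} (hv : Mx M D v) (hvb : ¬ Blk D v) {m : Fin t}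
    (hm : proj Q (D m) v = 0) : HasPair M D := by
  classical
  obtain ⟨N, hN⟩ : ∃ N, N = (Finset.univ.filter fun i => proj Q (D i) v ≠ 0).card := ⟨_, rfl⟩
  induction N using Nat.strong_induction_on generalizing v with
  | _ N ih =>
    obtain ⟨j, l, hjl, hj0, hl0⟩ := comp_ne_zero_of_not_blk hd hvb
    by_cases hN3 : ∃ i, i ≠ j ∧ i ≠ l ∧ proj Q (D i) v ≠ 0
    swap
    · push Not at hN3
      refine ⟨j, l, hjl, _, hd.comp_mem j v, _, hd.comp_mem l v, hj0, hl0, ?_⟩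
      convert hv
      refine hd.ext_comp fun i => ?_
      by_cases e1 : i = j
      · subst e1; exact (hd.comp_pair hjl (hd.comp_mem i v) (hd.comp_mem l v)).1
      by_cases e2 : i = l
      · subst e2; exact (hd.comp_pair hjl (hd.comp_mem j v) (hd.comp_mem i v)).2
      rw [map_add, hd.comp_other (Ne.symm e1) (hd.comp_mem j v),
        hd.comp_other (Ne.symm e2) (hd.comp_mem l v), add_zero, hN3 i e1 e2]
    obtain ⟨i₃, hi₃j, hi₃l, hi₃⟩ := hN3
    obtain ⟨v', hv', hsupp, -, i, him, hi0, hiR⟩ := exists_R hd hM hG ht hv (free_zero hd hm)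
      (fun i => i ≠ m) hjl (fun e => hj0 (e ▸ hm)) (fun e => hl0 (e ▸ hm)) hj0 hl0
    have hm' : proj Q (D m) v' = 0 := by
      by_contra h; exact (hsupp m).1 h hm
    have hk := mx_kill hd hM hG ht h20 hv' (free_keep_zero hd hm' him) hi0 hiR
    have hcomp : ∀ p, proj Q (D p) (v' - proj Q (D i) v') = if p = i then 0 else proj Q (D p) v' := by
      intro p
      by_cases e : p = i
      · subst e; rw [if_pos rfl, map_sub, hd.comp_self (hd.comp_mem p v'), sub_self]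
      · rw [if_neg e, map_sub, hd.comp_other (Ne.symm e) (hd.comp_mem i v'), sub_zero]
    refine ih _ ?_ hk ?_ (by rw [hcomp, if_neg (Ne.symm him), hm']) rfl
    · rw [hN]
      refine Finset.card_lt_card ⟨fun p hp => ?_, fun hsub => ?_⟩
      · simp only [Finset.mem_filter, Finset.mem_univ, true_and, hcomp] at hp ⊢
        by_cases e : p = i
        · exact absurd (if_pos e) hp
        · rw [if_neg e] at hp; exact (hsupp p).1 hp
      · have h1 := hsub (Finset.mem_filter.2 ⟨Finset.mem_univ i, (hsupp i).1 hi0⟩)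
        simp [hcomp] at h1
    · rw [hd.blk_iff]
      push Not
      obtain ⟨p, q, hpq, hp, hq⟩ : ∃ p q, p ≠ q ∧ (p ≠ i ∧ proj Q (D p) v ≠ 0) ∧
          (q ≠ i ∧ proj Q (D q) v ≠ 0) := by
        by_cases e1 : i = j
        · exact ⟨l, i₃, Ne.symm hi₃l, ⟨fun e => hjl (e1 ▸ e).symm, hl0⟩, ⟨e1 ▸ hi₃j, hi₃⟩⟩
        by_cases e2 : i = l
        · exact ⟨j, i₃, Ne.symm hi₃j, ⟨Ne.symm e1, hj0⟩, ⟨e2 ▸ hi₃l, hi₃⟩⟩
        exact ⟨j, l, hjl, ⟨Ne.symm e1, hj0⟩, ⟨Ne.symm e2, hl0⟩⟩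
      exact ⟨p, q, hpq, by rw [hcomp, if_neg hp.1]; exact (hsupp p).2 hp.2,
        by rw [hcomp, if_neg hq.1]; exact (hsupp q).2 hq.2⟩

/-- In odd characteristic a free vector suffices. -/
theorem pair_of_free (h20 : (2 : F) ≠ 0) {v : ι → F} (hv : Mx M D v) (hvb : ¬ Blk D v)
    (hf : Free D Q v) : HasPair M D := by
  classical
  by_cases hz : ∃ m, proj Q (D m) v = 0
  · obtain ⟨m, hm⟩ := hz
    exact pair_odd hd hM hG ht h20 hv hvb hm
  push Not at hz
  obtain h2 | ⟨p, q, x, hx, y, hy, hQx, hQy, hxv, hyv, hxy⟩ := hf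
  · exact absurd h2 h20
  obtain ⟨j, hjp, hjq⟩ := exists_member_two hd p q (by omega)
  obtain ⟨l, hl⟩ : ∃ l, l ∉ ({p, q, j} : Finset (Fin t)) := by
    by_contra hc
    push Not at hc
    have := Finset.card_le_card (show (Finset.univ : Finset (Fin t)) ⊆ {p, q, j} from fun i _ => hc i)
    rw [Finset.card_univ, Fintype.card_fin] at this
    have := Finset.card_le_three (a := p) (b := q) (c := j)
    omega
  simp only [Finset.mem_insert, Finset.mem_singleton, not_or] at hl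
  obtain ⟨v', hv', hsupp, hout, i, ⟨hip, hiq⟩, hi0, hiR⟩ := exists_R hd hM hG ht hv
    (Or.inr ⟨p, q, x, hx, y, hy, hQx, hQy, hxv, hyv, hxy⟩) (fun i => i ≠ p ∧ i ≠ q)
    (Ne.symm hl.2.2) ⟨hjp, hjq⟩ ⟨hl.1, hl.2.1⟩ (hz j) (hz l)
  have key : ∀ {r : Fin t} {u : ι → F}, u ∈ D r → ¬ (r ≠ p ∧ r ≠ q) → B u v = 0 → B u v' = 0 :=
    fun {r u} hu hr h => by
      rw [b_comm, ← hd.b_comp r v' hu, hout r hr, hd.b_comp r v hu, b_comm]; exact h
  have hk := mx_kill hd hM hG ht h20 hv' (free_keep hd hx hy hQx hQy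
    (key hx (fun h => h.1 rfl) hxv) (key hy (fun h => h.2 rfl) hyv) hxy hip hiq) hi0 hiR
  obtain ⟨r, hri, r', hr'i, hrr⟩ : ∃ r, r ≠ i ∧ ∃ r', r' ≠ i ∧ r ≠ r' := by
    by_cases e : i = j
    · exact ⟨p, Ne.symm hip, l, e ▸ hl.2.2, Ne.symm hl.1⟩
    · exact ⟨p, Ne.symm hip, j, Ne.symm e, Ne.symm hjp⟩
  refine pair_odd hd hM hG ht h20 hk ?_ (m := i)
    (by rw [map_sub, hd.comp_self (hd.comp_mem i v'), sub_self])
  rw [hd.blk_iff]
  push Not
  exact ⟨r, r', hrr, by rw [map_sub, hd.comp_other (Ne.symm hri) (hd.comp_mem i v'), sub_zero]; exact (hsupp r).2 (hz r),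
    by rw [map_sub, hd.comp_other (Ne.symm hr'i) (hd.comp_mem i v'), sub_zero]; exact (hsupp r').2 (hz r')⟩

/-- In characteristic two. -/
theorem pair_even (h20 : (2 : F) = 0) {v : ι → F} (hv : Mx M D v) (hvb : ¬ Blk D v) :
    HasPair M D := by
  classical
  obtain ⟨p, q, hpq, hp0, hq0⟩ := comp_ne_zero_of_not_blk hd hvb
  by_cases h3 : ∃ i, i ≠ p ∧ i ≠ q ∧ proj Q (D i) v ≠ 0
  swap
  · push Not at h3
    refine ⟨p, q, hpq, _, hd.comp_mem p v, _, hd.comp_mem q v, hp0, hq0, ?_⟩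
    convert hv
    refine hd.ext_comp fun i => ?_
    by_cases e1 : i = p
    · subst e1; exact (hd.comp_pair hpq (hd.comp_mem i v) (hd.comp_mem q v)).1
    by_cases e2 : i = q
    · subst e2; exact (hd.comp_pair hpq (hd.comp_mem p v) (hd.comp_mem i v)).2
    rw [map_add, hd.comp_other (Ne.symm e1) (hd.comp_mem p v),
      hd.comp_other (Ne.symm e2) (hd.comp_mem q v), add_zero, h3 i e1 e2]
  obtain ⟨i₃, hi₃p, hi₃q, hi₃⟩ := h3
  obtain ⟨v₁, hv₁, hsupp, -, j₀, -, hj₀, hj₀R⟩ := exists_R hd hM hG ht hv (Or.inl h20)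
    (fun _ => True) hpq trivial trivial hp0 hq0
  -- three components, one with non-zero complementary norm, not all of that norm
  obtain ⟨j, l, m, hjl, hjm, hlm, hj, hl, hm, hR, hne⟩ : ∃ j l m, j ≠ l ∧ j ≠ m ∧ l ≠ m ∧
      proj Q (D j) v₁ ≠ 0 ∧ proj Q (D l) v₁ ≠ 0 ∧ proj Q (D m) v₁ ≠ 0 ∧
      Q v₁ - Q (proj Q (D j) v₁) ≠ 0 ∧
      (7 ≤ Nat.card F ∨ ¬ (Q (proj Q (D l) v₁) = Q v₁ - Q (proj Q (D j) v₁) ∧
        Q (proj Q (D m) v₁) = Q v₁ - Q (proj Q (D j) v₁))) := by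
    have hp1 := (hsupp p).2 hp0
    have hq1 := (hsupp q).2 hq0
    have h31 := (hsupp i₃).2 hi₃
    obtain ⟨l, m, hl, hm, hjl, hjm, hlm⟩ : ∃ l m, proj Q (D l) v₁ ≠ 0 ∧ proj Q (D m) v₁ ≠ 0 ∧
        j₀ ≠ l ∧ j₀ ≠ m ∧ l ≠ m := by
      by_cases e1 : j₀ = p
      · exact ⟨q, i₃, hq1, h31, e1 ▸ hpq, e1 ▸ Ne.symm hi₃p, Ne.symm hi₃q⟩
      by_cases e2 : j₀ = q
      · exact ⟨p, i₃, hp1, h31, e1, e2 ▸ Ne.symm hi₃q, Ne.symm hi₃p⟩
      exact ⟨p, q, hp1, hq1, e1, e2, hpq⟩
    by_cases hne : Q (proj Q (D l) v₁) = Q v₁ - Q (proj Q (D j₀) v₁) ∧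
        Q (proj Q (D m) v₁) = Q v₁ - Q (proj Q (D j₀) v₁)
    swap
    · exact ⟨j₀, l, m, hjl, hjm, hlm, hj₀, hl, hm, hj₀R, Or.inr hne⟩
    -- `R_l = Q (v_j₀)`
    obtain ⟨A₀, hA₀⟩ : ∃ A, A = Q (proj Q (D j₀) v₁) := ⟨_, rfl⟩
    have hRl : Q v₁ - Q (proj Q (D l) v₁) = A₀ := by rw [hne.1, sub_sub_cancel, hA₀]
    by_cases hA0 : A₀ = 0
    · -- a singular component: the field is large
      exact ⟨j₀, l, m, hjl, hjm, hlm, hj₀, hl, hm, hj₀R, Or.inl (hG.resolve_right fun h =>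
        hj₀ (h.1 j₀ _ (hd.comp_mem j₀ v₁) (hA₀ ▸ hA0)))⟩
    refine ⟨l, j₀, m, Ne.symm hjl, hlm, hjm, hl, hj₀, hm, by rw [hRl]; exact hA0, Or.inr fun h => ?_⟩
    refine mx_ne hd hM hv₁ ?_
    have h2 := h.2
    rw [hRl] at h2
    linear_combination (hne.2.symm.trans h2) + A₀ * h20 - hA₀
  obtain ⟨R, hRdef⟩ : ∃ R, R = Q v₁ - Q (proj Q (D j) v₁) := ⟨_, rfl⟩
  rw [← hRdef] at hR hne
  obtain ⟨Sl, hSl, hSl2, hSl7, -⟩ := delta_set hd hG l (hd.comp_mem l v₁) hl
  obtain ⟨Sm, hSm, hSm2, hSm7, -⟩ := delta_set hd hG m (hd.comp_mem m v₁) hm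
  obtain ⟨a, ha, c, hc, hac, hacR⟩ : ∃ a ∈ Sl, ∃ c ∈ Sm, a + c ≠ 0 ∧ a + c ≠ R := by
    by_contra hbad
    push Not at hbad
    have hsub : ∀ a ∈ Sl, Sm ⊆ {-a, R - a} := fun a ha c hc => by
      by_cases e : a + c = 0
      · exact Finset.mem_insert.2 (Or.inl (eq_neg_of_add_eq_zero_right e))
      · exact Finset.mem_insert_of_mem (Finset.mem_singleton.2 (eq_sub_of_add_eq' (hbad a ha c hc e)))
    obtain ⟨a₀, ha₀⟩ : Sl.Nonempty := Finset.card_pos.1 (by omega)
    have hcard := (Finset.card_le_card (hsub a₀ ha₀)).trans Finset.card_le_two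
    have hq7 : ¬ 7 ≤ Nat.card F := fun h => by have := hSm7 h; omega
    obtain ⟨hns, hq4⟩ := hG.resolve_left hq7
    have hq : Nat.card F = 4 := by
      haveI : CharP F 2 := CharTwo.of_one_ne_zero_of_two_eq_zero one_ne_zero h20
      cases nonempty_fintype F
      obtain ⟨n, -, hn⟩ := FiniteField.card F 2
      rw [← Nat.card_eq_fintype_card] at hn
      rw [hn] at hq7 hq4 ⊢
      have h3 : (n : ℕ) < 3 := by
        by_contra h
        exact hq7 (le_trans (by norm_num) (Nat.pow_le_pow_right two_pos (not_lt.1 h)))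
      interval_cases hn' : (n : ℕ) <;> simp_all
    cases nonempty_fintype F
    have key : ∀ (i : Fin t) (S : Finset F) (a₁ : F), proj Q (D i) v₁ ≠ 0 → 2 ≤ S.card →
        (∀ δ ∈ S, δ ≠ 0 ∧ ∃ x ∈ D i, Q x = Q (proj Q (D i) v₁) ∧ Q (proj Q (D i) v₁ - x) = δ) →
        S ⊆ {-a₁, R - a₁} → Q (proj Q (D i) v₁) = R := by
      intro i S a₁ hi hS2 hS hS'
      obtain ⟨A, hA⟩ : ∃ A, A = Q (proj Q (D i) v₁) := ⟨_, rfl⟩
      have hA0 : A ≠ 0 := hA ▸ fun e => hi (hns i _ (hd.comp_mem i v₁) e)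
      rw [← hA]
      have hSA : ∀ δ ∈ S, δ ≠ A := fun δ hδ e => by
        obtain ⟨-, x, hx, hQx, hQd⟩ := hS δ hδ
        exact no_equilateral h20 hq (plane hd i) (hns i) (hd.comp_mem i v₁) hi hx hQx
          (by rw [hQd, e, hA])
      have heq : S = {-a₁, R - a₁} := Finset.eq_of_subset_of_card_le hS' (Finset.card_le_two.trans hS2)
      have hsu : S ∪ {0, A} = Finset.univ := by
        refine Finset.eq_univ_of_card _ ?_
        rw [Finset.card_union_of_disjoint, Finset.card_pair (Ne.symm hA0),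
          ← Nat.card_eq_fintype_card, hq]
        · have := Finset.card_le_two (a := -a₁) (b := R - a₁)
          rw [← heq] at this; omega
        · rw [Finset.disjoint_right]
          intro δ hδ hδS
          simp only [Finset.mem_insert, Finset.mem_singleton] at hδ
          rcases hδ with e | e
          · exact (hS δ hδS).1 e
          · exact hSA δ hδS e
      have hmem : R ∈ S ∪ {0, A} := hsu ▸ Finset.mem_univ R
      simp only [Finset.mem_union, Finset.mem_insert, Finset.mem_singleton] at hmem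
      rcases hmem with h | h | h
      · exfalso
        rw [heq, Finset.mem_insert, Finset.mem_singleton] at h
        rcases h with h | h
        · exact (hS (R - a₁) (heq ▸ by simp)).1 (by linear_combination h - a₁ * h20)
        · exact (hS (-a₁) (heq ▸ by simp)).1 (by linear_combination -h)
      · exact absurd h hR
      · exact h.symm
    refine (hne.resolve_left hq7) ⟨?_, key m Sm a₀ hm hSm2 hSm (hsub a₀ ha₀)⟩
    obtain ⟨c₀, hc₀⟩ : Sm.Nonempty := Finset.card_pos.1 (by omega)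
    refine key l Sl c₀ hl hSl2 hSl fun a ha => ?_
    have := hsub a ha hc₀
    simp only [Finset.mem_insert, Finset.mem_singleton] at this ⊢
    rcases this with e | e
    · exact Or.inl (by linear_combination e)
    · exact Or.inr (by linear_combination e)
  obtain ⟨-, x, hx, hQx, hdx⟩ := hSl a ha
  obtain ⟨-, y, hy, hQy, hdy⟩ := hSm c hc
  obtain ⟨z, hz, hQz⟩ := univ_member (hd.nondeg j) (by rw [hd.rank]) (a + c - R) (sub_ne_zero.2 hacR)
  have hz0 : z ≠ 0 := fun e => hacR (sub_eq_zero.1 (by rw [← hQz, e, QuadraticMap.map_zero]))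
  have hv₂ := mx_reach hd hM hG (by omega) hv₁ (fun _ _ => Or.inl h20) hj (hRdef ▸ hR) hz hz0
    (by rw [← hRdef, hQz, add_sub_cancel]; exact hac)
  obtain ⟨-, hcj⟩ := comp_replace hd j v₁ hz
  refine pair_of_deltas hd hM ht hv₂ (Or.inl h20) hlm hx hy ?_ ?_ ?_ ?_ ?_
  · rw [hcj l (Ne.symm hjl)]; exact hQx
  · rw [hcj m (Ne.symm hjm)]; exact hQy
  · rw [hcj l (Ne.symm hjl), hdx]; exact (hSl a ha).1
  · rw [hcj m (Ne.symm hjm), hdy]; exact (hSm c hc).1
  · rw [hcj l (Ne.symm hjl), hcj m (Ne.symm hjm), hdx, hdy, q_replace hd j v₁ hz, ← hRdef, hQz,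
      add_sub_cancel]

end CfsgLib.Orth.PlanesMax
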