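import Cfsg.Agent.Lib.Classical.OrthPlanesMax.Plane
import Cfsg.Agent.Lib.Classical.OrthDecompMax.Spread

set_option autoImplicit false
set_option linter.unusedSectionVars false

/-!
Decompositions into planes: vectors related to members, and the basic operations on them.
-/

namespace CfsgLib.Orth.PlanesMax

open Matrix DecompMax

variable {F : Type*} [Field F] [Finite F] {ι : Type} [Fintype ι] [DecidableEq ι]
variable {Q : QuadraticForm F (ι → F)} {t : ℕ} {D : Fin t → Submodule F (ι → F)}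

local notation "B" => QuadraticMap.polar (DFunLike.coe Q)

theorem plane (hd : Dec Q 2 D) (i : Fin t) : IsPlane Q (D i) := ⟨hd.nondeg i, hd.rank i⟩

theorem refl_pair_mem (hd : Dec Q 2 D) {u w : ι → F} {r s : Grp Q} (hr : IsRefl u r)
    (hs : IsRefl w s) (h : IsSquare (Q u * Q w)) : r * s ∈ Cfsg.Omega F ⇑Q := by
  have := QuotientGroup.eq.1 (refl_coset hd.nd hd.dim hr hs h)
  rwa [refl_inv hr] at this

theorem four_mem (hd : Dec Q 2 D) {u w x y : ι → F} {r s r' s' : Grp Q} (hr : IsRefl u r)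
    (hs : IsRefl w s) (hr' : IsRefl x r') (hs' : IsRefl y s') (h : ¬ IsSquare (Q u * Q w))
    (h' : ¬ IsSquare (Q x * Q y)) : r * s * (r' * s') ∈ Cfsg.Omega F ⇑Q := by
  rw [isSquare_mul_iff hr.1] at h
  rw [isSquare_mul_iff hr'.1] at h'
  simp only [hs.1, hs'.1, false_or] at h h'
  have key : ∀ {a b : ι → F} {p q : Grp Q}, IsRefl a p → IsRefl b q →
      (IsSquare (Q a) ↔ IsSquare (Q b)) →
      (p : Grp Q ⧸ Cfsg.Omega F ⇑Q) = (q : Grp Q ⧸ Cfsg.Omega F ⇑Q) := fun {a b p q} hp hq e =>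
    refl_coset hd.nd hd.dim hp hq ((isSquare_mul_iff hp.1).2 (Or.inr e))
  rw [← QuotientGroup.eq_one_iff, QuotientGroup.mk_mul, QuotientGroup.mk_mul, QuotientGroup.mk_mul]
  have sq : ∀ {a : ι → F} {p : Grp Q}, IsRefl a p →
      (p : Grp Q ⧸ Cfsg.Omega F ⇑Q) * (p : Grp Q ⧸ Cfsg.Omega F ⇑Q) = 1 := fun {a p} hp => by
    rw [← QuotientGroup.mk_mul, refl_mul_self hp, QuotientGroup.mk_one]
  by_cases e : IsSquare (Q u) ↔ IsSquare (Q x)
  · rw [key hr hr' e, key hs hs' (by tauto)]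
    have h1 := sq hr'
    have h2 := sq hs'
    have h3 := mk_mul_comm s' r'
    calc _ = (r' : Grp Q ⧸ Cfsg.Omega F ⇑Q) * ((s' : Grp Q ⧸ Cfsg.Omega F ⇑Q) * r') * s' := by group
      _ = (r' : Grp Q ⧸ Cfsg.Omega F ⇑Q) * r' * ((s' : Grp Q ⧸ Cfsg.Omega F ⇑Q) * s') := by
        rw [h3]; group
      _ = 1 := by rw [h1, h2, mul_one]
  · rw [key hr hs' (by tauto), key hs hr' (by tauto)]
    have h1 := sq hr'
    have h2 := sq hs'
    calc _ = (s' : Grp Q ⧸ Cfsg.Omega F ⇑Q) * ((r' : Grp Q ⧸ Cfsg.Omega F ⇑Q) * r') * s' := by group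
      _ = 1 := by rw [h1, mul_one, h2]

theorem perm_mul (hd : Dec Q 2 D) {g h : Grp Q} (hg : Perm D g) (hh : Perm D h) : Perm D (g * h) :=
  fun i => by
    obtain ⟨j, hj⟩ := hh i
    obtain ⟨l, hl⟩ := hg j
    exact ⟨l, fun x hx => by rw [ap_mul]; exact hl _ (hj x hx)⟩

theorem perm_one : Perm D (1 : Grp Q) := fun i => ⟨i, fun x hx => by rwa [ap_one]⟩

/-- Related to a member vector of its own square class. -/
def Mx (M : Subgroup (Grp Q)) (D : Fin t → Submodule F (ι → F)) (x : ι → F) : Prop :=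
  Mix M D (Q x) x

/-- Some product of two reflections of different classes in members fixes the vector. -/
def Free (D : Fin t → Submodule F (ι → F)) (Q : QuadraticForm F (ι → F)) (v : ι → F) : Prop :=
  (2 : F) = 0 ∨ ∃ p q, ∃ x ∈ D p, ∃ y ∈ D q, Q x ≠ 0 ∧ Q y ≠ 0 ∧
    QuadraticMap.polar ⇑Q x v = 0 ∧ QuadraticMap.polar ⇑Q y v = 0 ∧ ¬ IsSquare (Q x * Q y)

theorem isSquare_char_two (h2 : (2 : F) = 0) (a : F) : IsSquare a :=
  have : CharP F 2 := CharTwo.of_one_ne_zero_of_two_eq_zero one_ne_zero h2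
  FiniteField.isSquare_of_char_two (ringChar.eq F 2) a

variable {M : Subgroup (Grp Q)}
variable (hd : Dec Q 2 D) (hM : ∀ g, g ∈ Cfsg.Omega F ⇑Q → Perm D g → g ∈ M)

include hd in
theorem comp_ne_zero_of_not_blk {v : ι → F} (hv : ¬ Blk D v) :
    ∃ i l, i ≠ l ∧ proj Q (D i) v ≠ 0 ∧ proj Q (D l) v ≠ 0 := by
  rw [hd.blk_iff] at hv
  push Not at hv
  exact hv

include hd in
theorem exists_member_two (j m : Fin t) (ht : 3 ≤ t) : ∃ n : Fin t, n ≠ j ∧ n ≠ m := by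
  classical
  have : (({j, m} : Finset (Fin t))).card < (Finset.univ : Finset (Fin t)).card := by
    rw [Finset.card_univ, Fintype.card_fin]
    exact lt_of_le_of_lt Finset.card_le_two (by omega)
  obtain ⟨n, -, hn⟩ := Finset.exists_mem_notMem_of_card_lt_card this
  simp only [Finset.mem_insert, Finset.mem_singleton, not_or] at hn
  exact ⟨n, hn⟩

include hd hM

theorem mx_blk {x : ι → F} (hx : Blk D x) (h : Q x ≠ 0) : Mx M D x :=
  hd.mix_blk hM hx (cls_self h)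

theorem mx_of_mix {d : F} (hd0 : d ≠ 0) {x : ι → F} (h : Mix M D d x) : Mx M D x := by
  obtain ⟨hc, b, hb, hbc, hr⟩ := h
  exact ⟨cls_self hc.1, b, hb, ⟨hbc.1, cls_pair hd0 hc hbc⟩, hr⟩

theorem mix_of_mx {d : F} {x : ι → F} (h : Mx M D x) (hc : Cls Q d x) : Mix M D d x := by
  obtain ⟨-, b, hb, hbc, hr⟩ := h
  exact ⟨hc, b, hb, ⟨hbc.1, sq_trans hc.1 (by rw [mul_comm]; exact hc.2) hbc.2⟩, hr⟩

theorem mx_ne {x : ι → F} (h : Mx M D x) : Q x ≠ 0 := h.1.1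

theorem mx_smul {x : ι → F} (h : Mx M D x) {c : F} (hc : c ≠ 0) : Mx M D (c • x) :=
  mx_of_mix hd hM (mx_ne hd hM h) (hd.mix_smul h hc)

theorem mx_perm {x : ι → F} (h : Mx M D x) {g : Grp Q} (hg : g ∈ Cfsg.Omega F ⇑Q)
    (hgP : Perm D g) : Mx M D (ap g x) :=
  mx_of_mix hd hM (mx_ne hd hM h) (hd.mix_perm h (hM g hg hgP) hgP)

/-- Reflecting a related vector in another of the same class. -/
theorem mx_refl {x y : ι → F} (hx : Mx M D x) (hy : Mx M D y) (h : IsSquare (Q x * Q y)) {r : Grp Q}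
    (hr : IsRefl x r) : Mx M D (ap r y) :=
  mx_of_mix hd hM (mx_ne hd hM hx)
    (hd.mix_refl hM (mx_ne hd hM hx) hx (mix_of_mx hd hM hy ⟨mx_ne hd hM hy, h⟩) hr)

/-- Moving member vectors of one class by an element fixing one of them. -/
theorem mx_transport {g : Grp Q} (hg : g ∈ M) {y z : ι → F} (hy : Blk D y) (hz : Blk D z)
    (hQy : Q y ≠ 0) (hQz : Q z ≠ 0) (h : IsSquare (Q y * Q z)) (hgz : ap g z = z) :
    Mx M D (ap g y) := by
  have h1 := rel_conj hg (hd.rel_blk hM hy hz hQy hQz h)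
  rw [hgz] at h1
  exact ⟨cls_self (by rw [ap_q]; exact hQy), z, hz, ⟨hQz, by rw [ap_q]; exact h⟩, h1⟩

/-- Two reflections in members, corrected to lie in `Ω` without moving a free vector. -/
theorem free_move {v u w : ι → F} (hv : Free D Q v) (hu : Blk D u) (hw : Blk D w) {r s : Grp Q}
    (hr : IsRefl u r) (hs : IsRefl w s) :
    ∃ g : Grp Q, g ∈ Cfsg.Omega F ⇑Q ∧ Perm D g ∧ ap g v = ap (r * s) v := by
  obtain ⟨i, hi⟩ := hu
  obtain ⟨j, hj⟩ := hw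
  by_cases h : IsSquare (Q u * Q w)
  · exact ⟨r * s, refl_pair_mem hd hr hs h, hd.perm_refl_pair hi hj hr hs, rfl⟩
  rcases hv with h2 | ⟨p, q, x, hx, y, hy, hQx, hQy, hxv, hyv, hxy⟩
  · exact absurd (isSquare_char_two h2 _) h
  obtain ⟨r', hr'⟩ := exists_refl hd.nd hQx
  obtain ⟨s', hs'⟩ := exists_refl hd.nd hQy
  refine ⟨r * s * (r' * s'), four_mem hd hr hs hr' hs' h hxy,
    perm_mul hd (hd.perm_refl_pair hi hj hr hs) (hd.perm_refl_pair hx hy hr' hs'), ?_⟩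
  rw [ap_mul, ap_mul r' s', refl_fix hs' hyv, refl_fix hr' hxv]

/-- Changing one component along an affine line. -/
theorem mx_line (ht : 3 ≤ t) {v : ι → F} (hv : Mx M D v) (j : Fin t) {a' : ι → F}
    (hf : IsSquare (Q v * (Q v - Q (proj Q (D j) v) + Q a')) ∨ Free D Q v) (ha' : a' ∈ D j) (hB : B (proj Q (D j) v) a' = 2 * Q (proj Q (D j) v) - Q v)
    (hQ : Q v - Q (proj Q (D j) v) + Q a' ≠ 0) :
    Mx M D (v - proj Q (D j) v + a') := by
  obtain ⟨a, ha⟩ : ∃ a, a = proj Q (D j) v := ⟨_, rfl⟩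
  rw [← ha] at hB hQ hf ⊢
  have haD : a ∈ D j := ha ▸ hd.comp_mem j v
  obtain ⟨b, hb⟩ : ∃ b, b = a - a' := ⟨_, rfl⟩
  have hbD : b ∈ D j := hb ▸ (D j).sub_mem haD ha'
  have hvb : B v b = Q v := by
    rw [← hd.b_comp j v hbD, ← ha, hb, b_sub_right, b_self, hB]; ring
  have hQb : Q b = Q v - Q a + Q a' := by rw [hb, q_sub, hB]; ring
  have hQb0 : Q b ≠ 0 := hQb ▸ hQ
  have hQv : Q v ≠ 0 := mx_ne hd hM hv
  obtain ⟨r, hr⟩ := exists_refl hd.nd hQv
  have hrb : ap r b = b - v := by rw [hr.2, hvb, inv_mul_cancel₀ hQv, one_smul]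
  have e : v - a + a' = (-1 : F) • ap r b := by rw [hrb, hb]; module
  rw [e]
  refine mx_smul hd hM ?_ (neg_ne_zero.2 one_ne_zero)
  by_cases h : IsSquare (Q v * Q b)
  · exact mx_refl hd hM hv (mx_blk hd hM ⟨j, hbD⟩ hQb0) h hr
  rcases hf.resolve_left (hQb ▸ h) with h2 | ⟨p, q, x, hx, y, hy, hQx, hQy, hxv, hyv, hxy⟩
  · exact absurd (isSquare_char_two h2 _) h
  obtain ⟨m, z, hzD, hQz, hzv, hbz⟩ :
      ∃ m, ∃ z ∈ D m, Q z ≠ 0 ∧ B z v = 0 ∧ IsSquare (Q b * Q z) := by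
    by_cases hbx : IsSquare (Q b * Q x)
    · exact ⟨p, x, hx, hQx, hxv, hbx⟩
    · refine ⟨q, y, hy, hQy, hyv, ?_⟩
      rw [isSquare_mul_iff hQb0] at hbx ⊢
      rw [isSquare_mul_iff hQx] at hxy
      simp only [hQx, hQy, false_or] at hbx hxy ⊢
      tauto
  obtain ⟨n, hnj, hnm⟩ := exists_member_two hd j m ht
  obtain ⟨b₀, hb₀, hQ₀⟩ := univ_member (hd.nondeg n) (by rw [hd.rank]) (Q v) hQv
  obtain ⟨s, hs⟩ := exists_refl hd.nd (v := b₀) (by rw [hQ₀]; exact hQv)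
  have hg : r * s ∈ M := (hd.mix_rel hM hQv hv
    (hd.mix_blk hM ⟨n, hb₀⟩ ⟨by rw [hQ₀]; exact hQv, Q v, by rw [hQ₀]⟩)).2.2 r s hr hs
  have h1 := mx_transport hd hM hg ⟨j, hbD⟩ ⟨m, hzD⟩ hQb0 hQz hbz (by
    rw [ap_mul, refl_fix hs (hd.orth n m hnm b₀ hb₀ z hzD),
      refl_fix hr (by rw [b_comm]; exact hzv)])
  rwa [ap_mul, refl_fix hs (hd.orth n j hnj b₀ hb₀ b hbD)] at h1

end CfsgLib.Orth.PlanesMax
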