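import Cfsg.Agent.Lib.Classical.OrthPlanesMax.OddFree

set_option autoImplicit false
set_option linter.unusedSectionVars false

/-!
One related vector outside the planes spreads to all anisotropic vectors.
-/

namespace CfsgLib.Orth.PlanesMax

open Matrix DecompMax

variable {F : Type*} [Field F] [Finite F] {ι : Type} [Fintype ι] [DecidableEq ι]
variable {Q : QuadraticForm F (ι → F)} {t : ℕ} {D : Fin t → Submodule F (ι → F)}

local notation "B" => QuadraticMap.polar (DFunLike.coe Q)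

theorem exists_avoid_three (h : 4 ≤ Nat.card F) (a b c : F) : ∃ x : F, x ≠ a ∧ x ≠ b ∧ x ≠ c := by
  classical
  cases nonempty_fintype F
  obtain ⟨x, -, hx⟩ := Finset.exists_mem_notMem_of_card_lt_card
    (show ({a, b, c} : Finset F).card < (Finset.univ : Finset F).card by
      rw [Finset.card_univ, ← Nat.card_eq_fintype_card]
      have := Finset.card_le_three (a := a) (b := b) (c := c)
      omega)
  simp only [Finset.mem_insert, Finset.mem_singleton, not_or] at hx
  exact ⟨x, hx⟩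

variable (hd : Dec Q 2 D)
include hd

theorem q_eq_zero_of_comps {v : ι → F} (h : ∀ i, Q (proj Q (D i) v) = 0) : Q v = 0 := by
  classical
  suffices hs : ∀ s : Finset (Fin t), Q (∑ l ∈ s, proj Q (D l) v) = 0 by
    rw [← hd.sum_comp v]; exact hs _
  intro s
  induction s using Finset.induction_on with
  | empty => rw [Finset.sum_empty, QuadraticMap.map_zero]
  | insert i s hi ih =>
    rw [Finset.sum_insert hi, q_add, h i, ih, ← QuadraticMap.polarBilin_apply_apply, map_sum,
      Finset.sum_eq_zero, add_zero, add_zero]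
    intro m hm
    show B (proj Q (D i) v) (proj Q (D m) v) = 0
    exact hd.orth i m (fun e => hi (e ▸ hm)) _ (hd.comp_mem i v) _ (hd.comp_mem m v)

variable {M : Subgroup (Grp Q)}
variable (hM : ∀ g, g ∈ Cfsg.Omega F ⇑Q → Perm D g → g ∈ M)
include hM

/-- The image under a reflection in a related vector, classes being arbitrary. -/
theorem mx_cross {u y w : ι → F} (hu : Mx M D u) (hy : Mx M D y) {n l : Fin t} (hnl : n ≠ l)
    (hun : proj Q (D n) u = 0) {b : ι → F} (hb : b ∈ D l) (hbc : Cls Q (Q u) b) (hby : B b y = 0)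
    (hw : ∀ r : Grp Q, IsRefl u r → ap r y = w) : Mx M D w := by
  obtain ⟨r, hr⟩ := exists_refl hd.nd (mx_ne hd hM hu)
  obtain ⟨s, hs⟩ := exists_refl hd.nd hbc.1
  have hg : r * s ∈ M := (hd.mix_rel hM (mx_ne hd hM hu) hu (hd.mix_blk hM ⟨l, hb⟩ hbc)).2.2 r s hr hs
  obtain ⟨c, hc, hQc⟩ := univ_member (hd.nondeg n) (by rw [hd.rank]) (Q y) (mx_ne hd hM hy)
  have hcc : Cls Q (Q y) c := ⟨by rw [hQc]; exact mx_ne hd hM hy, Q y, by rw [hQc]⟩
  have h1 := rel_conj hg (hd.mix_rel hM (mx_ne hd hM hy) hy (hd.mix_blk hM ⟨n, hc⟩ hcc))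
  have huc : B u c = 0 := by rw [← hd.b_comp n u hc, hun, b_zero_left]
  rw [ap_mul, refl_fix hs hby, hw r hr, ap_mul, refl_fix hs (hd.orth l n (Ne.symm hnl) b hb c hc),
    refl_fix hr huc] at h1
  have hQw : Q w = Q y := by rw [← hw r hr, ap_q]
  exact ⟨cls_self (by rw [hQw]; exact mx_ne hd hM hy), c, ⟨n, hc⟩, hQw.symm ▸ hcc, h1⟩

variable (hG : Good Q D) (ht : 5 ≤ t)
include hG ht

omit ht in
theorem pair_reach (ht : 3 ≤ t) {j l : Fin t} (hjl : j ≠ l) {x y : ι → F} (hx : x ∈ D j)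
    (hy : y ∈ D l) (hx0 : x ≠ 0) (h : Mx M D (x + y)) (hQy : Q y ≠ 0) {x' : ι → F} (hx' : x' ∈ D j)
    (hne : Q x' + Q y ≠ 0) : Mx M D (x' + y) := by
  by_cases hx'0 : x' = 0
  · rw [hx'0, zero_add]; exact mx_blk hd hM ⟨l, hy⟩ hQy
  obtain ⟨m, hmj, hml⟩ := exists_member_two hd j l ht
  have hc := hd.comp_pair hjl hx hy
  have hm : proj Q (D m) (x + y) = 0 := by
    rw [map_add, hd.comp_other (Ne.symm hmj) hx, hd.comp_other (Ne.symm hml) hy, add_zero]
  have hR : Q (x + y) - Q x = Q y := by rw [q_add, hd.orth j l hjl x hx y hy]; ring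
  have h1 := mx_reach hd hM hG ht h (j := j) (free_keep_zero hd hm (Ne.symm hmj))
    (by rw [hc.1]; exact hx0) (by rw [hc.1, hR]; exact hQy) hx' hx'0
    (by rw [hc.1, hR, add_comm]; exact hne)
  rwa [hc.1, add_sub_cancel_left, add_comm] at h1

omit ht in
theorem pair_all_of (ht : 3 ≤ t) {j l : Fin t} (hjl : j ≠ l) {x y : ι → F} (hx : x ∈ D j)
    (hy : y ∈ D l) (hx0 : x ≠ 0) (hy0 : y ≠ 0) (h : Mx M D (x + y)) :
    ∀ x' ∈ D j, ∀ y' ∈ D l, Q (x' + y') ≠ 0 → Mx M D (x' + y') := by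
  have h4 := hG.four_le
  have key : ∀ {j l : Fin t}, j ≠ l → ∀ {x y : ι → F}, x ∈ D j → y ∈ D l → x ≠ 0 → Q y ≠ 0 →
      Mx M D (x + y) → ∀ x' ∈ D j, ∀ y' ∈ D l, Q (x' + y') ≠ 0 → Mx M D (x' + y') := by
    intro j l hjl x y hx hy hx0 hQy h
    have main : ∀ x' ∈ D j, ∀ y' ∈ D l, Q y' ≠ 0 → Q x' + Q y' ≠ 0 → Mx M D (x' + y') := by
      intro x' hx' y' hy' hQy' hne
      obtain ⟨K, hK0, hK1, hK2⟩ := exists_avoid_three h4 0 (-Q y) (-Q y')
      obtain ⟨x₁, hx₁, hQ₁⟩ := univ_member (hd.nondeg j) (by rw [hd.rank]) K hK0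
      have hx₁0 : x₁ ≠ 0 := fun e => hK0 (by rw [← hQ₁, e, QuadraticMap.map_zero])
      have h1 := pair_reach hd hM hG ht hjl hx hy hx0 h hQy hx₁
        (fun e => hK1 (by rw [← hQ₁]; linear_combination e))
      rw [add_comm] at h1
      have h2 := pair_reach hd hM hG ht hjl.symm hy hx₁ (fun e => hQy (by rw [e, QuadraticMap.map_zero]))
        h1 (by rw [hQ₁]; exact hK0) hy' (fun e => hK2 (by rw [← hQ₁]; linear_combination e))
      rw [add_comm] at h2
      exact pair_reach hd hM hG ht hjl hx₁ hy' hx₁0 h2 hQy' hx' hne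
    intro x' hx' y' hy' hne
    have hsum : Q (x' + y') = Q x' + Q y' := by rw [q_add, hd.orth j l hjl x' hx' y' hy', add_zero]
    rw [hsum] at hne
    by_cases hQy' : Q y' = 0
    swap
    · exact main x' hx' y' hy' hQy' hne
    have hQx' : Q x' ≠ 0 := fun e => hne (by rw [e, hQy', add_zero])
    by_cases hy'0 : y' = 0
    · rw [hy'0, add_zero]; exact mx_blk hd hM ⟨j, hx'⟩ hQx'
    obtain ⟨K, hK0, hK1, -⟩ := exists_avoid_three h4 0 (-Q x') 0
    obtain ⟨y₁, hy₁, hQ₁⟩ := univ_member (hd.nondeg l) (by rw [hd.rank]) K hK0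
    have h1 := main x' hx' y₁ hy₁ (by rw [hQ₁]; exact hK0)
      (fun e => hK1 (by rw [← hQ₁]; linear_combination e))
    rw [add_comm] at h1 ⊢
    exact pair_reach hd hM hG ht hjl.symm hy₁ hx' (fun e => hK0 (by rw [← hQ₁, e, QuadraticMap.map_zero]))
      h1 hQx' hy' (by rwa [add_comm])
  by_cases hQy : Q y = 0
  · have hQx : Q x ≠ 0 := fun e => mx_ne hd hM h (by
      rw [q_add, hd.orth j l hjl x hx y hy, e, hQy, add_zero, add_zero])
    intro x' hx' y' hy' hne
    rw [add_comm] at h hne ⊢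
    exact key hjl.symm hy hx hy0 hQx h y' hy' x' hx' hne
  · exact key hjl hx hy hx0 hQy h

omit ht in
/-- All pairs of planes. -/
theorem pair_all (ht : 3 ≤ t) (hP : HasPair M D) {p q : Fin t} (hpq : p ≠ q) :
    ∀ x ∈ D p, ∀ y ∈ D q, Q (x + y) ≠ 0 → Mx M D (x + y) := by
  let Ok : Fin t → Fin t → Prop := fun p q => ∀ x ∈ D p, ∀ y ∈ D q, Q (x + y) ≠ 0 → Mx M D (x + y)
  have hsym : ∀ {p q}, Ok p q → Ok q p := fun {p q} h x hx y hy hne => by
    rw [add_comm] at hne ⊢; exact h y hy x hx hne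
  have hstep : ∀ {p q r}, p ≠ q → p ≠ r → q ≠ r → Ok p q → Ok p r := by
    intro p q r hpq hpr hqr h
    obtain ⟨K, hK0, hK1, -⟩ := exists_avoid_three hG.four_le 0 (-1) 0
    obtain ⟨x, hx, hQx⟩ := univ_member (hd.nondeg p) (by rw [hd.rank]) K hK0
    obtain ⟨y, hy, hQy⟩ := univ_member (hd.nondeg q) (by rw [hd.rank]) 1 one_ne_zero
    obtain ⟨g, hg, hgP, hgq, hgf⟩ := hd.exists_swap hqr
    have h1 := mx_perm hd hM (h x hx y hy (by
      rw [q_add, hd.orth p q hpq x hx y hy, hQx, hQy, add_zero]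
      exact fun e => hK1 (by linear_combination e))) hg hgP
    rw [ap_add, hgf p hpq hpr x hx] at h1
    exact pair_all_of hd hM hG ht hpr hx (hgq y hy) (fun e => hK0 (by rw [← hQx, e, QuadraticMap.map_zero]))
      (fun e => one_ne_zero (α := F) (by rw [← hQy, ← ap_q g y, e, QuadraticMap.map_zero])) h1
  obtain ⟨a, b, hab, x, hx, y, hy, hx0, hy0, h⟩ := hP
  have h0 : Ok a b := pair_all_of hd hM hG ht hab hx hy hx0 hy0 h
  have h1 : ∀ q, q ≠ a → Ok a q := fun q hq => by
    by_cases e : q = b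
    · exact e ▸ h0
    · exact hstep hab (Ne.symm hq) (Ne.symm e) h0
  by_cases hp : p = a
  · exact hp ▸ h1 q (hp ▸ hpq.symm)
  by_cases hq : q = a
  · exact hq ▸ hsym (h1 p hp)
  · exact hstep hp hpq (Ne.symm hq) (hsym (h1 p hp))

omit ht in
/-- Every anisotropic vector. -/
theorem mx_all (ht : 3 ≤ t) (hP : HasPair M D) {w : ι → F} (hQw : Q w ≠ 0) : Mx M D w := by
  classical
  obtain ⟨N, hN⟩ : ∃ N, N = (Finset.univ.filter fun i => proj Q (D i) w ≠ 0).card := ⟨_, rfl⟩
  induction N using Nat.strong_induction_on generalizing w with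
  | _ N ih =>
    have h4 := hG.four_le
    by_cases hb : Blk D w
    · exact mx_blk hd hM hb hQw
    obtain ⟨i₁, l₁, hil₁, hi₁, hl₁⟩ := comp_ne_zero_of_not_blk hd hb
    by_cases hN3 : ∃ m, m ≠ i₁ ∧ m ≠ l₁ ∧ proj Q (D m) w ≠ 0
    swap
    · push Not at hN3
      have e : proj Q (D i₁) w + proj Q (D l₁) w = w := by
        refine hd.ext_comp fun m => ?_
        have hc := hd.comp_pair hil₁ (hd.comp_mem i₁ w) (hd.comp_mem l₁ w)
        by_cases e1 : m = i₁
        · rw [e1]; exact hc.1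
        by_cases e2 : m = l₁
        · rw [e2]; exact hc.2
        rw [map_add, hd.comp_other (Ne.symm e1) (hd.comp_mem i₁ w),
          hd.comp_other (Ne.symm e2) (hd.comp_mem l₁ w), add_zero, hN3 m e1 e2]
      have h1 := pair_all hd hM hG ht hP hil₁ _ (hd.comp_mem i₁ w) _ (hd.comp_mem l₁ w)
        (by rw [e]; exact hQw)
      rwa [e] at h1
    obtain ⟨m₁, hm₁i, hm₁l, hm₁⟩ := hN3
    -- the step when two components have a non-zero sum of norms
    have hstep : ∀ w : ι → F, Q w ≠ 0 →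
        (Finset.univ.filter fun i => proj Q (D i) w ≠ 0).card = N → ∀ i l, i ≠ l →
        proj Q (D i) w ≠ 0 → proj Q (D l) w ≠ 0 →
        Q (proj Q (D i) w) + Q (proj Q (D l) w) ≠ 0 → Mx M D w := by
      intro w hQw hwN i l hil hi hl hsum
      obtain ⟨a, ha⟩ : ∃ a, a = proj Q (D i) w := ⟨_, rfl⟩
      obtain ⟨c, hc⟩ : ∃ c, c = proj Q (D l) w := ⟨_, rfl⟩
      rw [← ha, ← hc] at hsum
      rw [← ha] at hi
      rw [← hc] at hl
      have haD : a ∈ D i := ha ▸ hd.comp_mem i w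
      have hcD : c ∈ D l := hc ▸ hd.comp_mem l w
      obtain ⟨S, hS, hS1, -⟩ := norm_set hd i hsum
      obtain ⟨z, hz, hBz⟩ : ∃ z ∈ S, B a z ≠ 2 * (Q a + Q c) := by
        by_contra hbad
        push Not at hbad
        by_cases hA : Q a = 0
        · have h1 : S.card ≤ 1 := Finset.card_le_one.2 fun y hy y' hy' => by
            obtain ⟨e, he⟩ := (plane hd i).sing_perp haD ((D i).sub_mem (hS y hy).1 (hS y' hy').1)
              hi hA (by rw [b_sub_right, hbad y hy, hbad y' hy', sub_self])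
            have h2 := (hS y hy).2
            rw [eq_add_of_sub_eq he, q_add, q_smul, hA, (hS y' hy').2, b_smul_left, mul_zero,
              zero_add, hA] at h2
            have h3 : e * B a y' = 0 := by linear_combination h2
            rcases mul_eq_zero.1 h3 with h | h
            · rw [h, zero_smul, sub_eq_zero] at he; exact he
            · exfalso
              obtain ⟨e', he'⟩ := (plane hd i).sing_perp haD (hS y' hy').1 hi hA h
              have h4 := (hS y' hy').2
              rw [he', q_smul, hA, mul_zero] at h4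
              exact hsum (by rw [hA]; linear_combination -h4)
          omega
        · have h1 := (plane hd i).fibre haD hA (Q a + Q c) (2 * (Q a + Q c)) S fun y hy =>
            ⟨(hS y hy).1, (hS y hy).2, hbad y hy⟩
          omega
      obtain ⟨hzD, hQz⟩ := hS z hz
      have hdz : a - z ∈ D i := (D i).sub_mem haD hzD
      obtain ⟨u, hu⟩ : ∃ u, u = (a - z) + c := ⟨_, rfl⟩
      have hQu : Q u = 2 * (Q a + Q c) - B a z := by
        rw [hu, q_add, hd.orth i l hil _ hdz c hcD, q_sub, hQz]; ring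
      have hQu0 : Q u ≠ 0 := by rw [hQu]; exact sub_ne_zero.2 (Ne.symm hBz)
      have hmu : Mx M D u := hu ▸ pair_all hd hM hG ht hP hil _ hdz c hcD (hu ▸ hQu0)
      have hcu := hd.comp_pair hil hdz hcD
      rw [← hu] at hcu
      have hBuw : B u w = Q u := by
        rw [hQu, hu, b_add_left, b_comm (a - z), ← hd.b_comp i w hdz, b_comm c,
          ← hd.b_comp l w hcD, ← ha, ← hc, b_sub_right, b_self, b_self]
        ring
      have hQy : Q (w - u) = Q w := by rw [q_sub, b_comm, hBuw]; ring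
      have hyl : proj Q (D l) (w - u) = 0 := by rw [map_sub, hcu.2, ← hc, sub_self]
      have hyout : ∀ m, m ≠ i → m ≠ l → proj Q (D m) u = 0 := fun m h1 h2 => by
        rw [hu, map_add, hd.comp_other h1.symm hdz, hd.comp_other h2.symm hcD, add_zero]
      have hlt : (Finset.univ.filter fun m => proj Q (D m) (w - u) ≠ 0).card < N := by
        rw [← hwN]
        refine Finset.card_lt_card ⟨fun m hm => ?_, fun hsub => ?_⟩
        · simp only [Finset.mem_filter, Finset.mem_univ, true_and] at hm ⊢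
          intro e
          by_cases h1 : m = i
          · exact hi (by rw [ha, ← h1]; exact e)
          by_cases h2 : m = l
          · exact hl (by rw [hc, ← h2]; exact e)
          · exact hm (by rw [map_sub, e, hyout m h1 h2, sub_zero])
        · have h1 := hsub (Finset.mem_filter.2 ⟨Finset.mem_univ l, hc ▸ hl⟩)
          simp only [Finset.mem_filter, Finset.mem_univ, true_and] at h1
          exact h1 hyl
      have hmy := ih _ hlt (w := w - u) (by rw [hQy]; exact hQw) rfl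
      obtain ⟨b, hb, hQb⟩ := univ_member (hd.nondeg l) (by rw [hd.rank]) (Q u) hQu0
      obtain ⟨n, hni, hnl⟩ := exists_member_two hd i l ht
      refine mx_cross hd hM hmu hmy hnl (hyout n hni hnl) hb ⟨by rw [hQb]; exact hQu0, Q u, by rw [hQb]⟩
        (by rw [b_comm, ← hd.b_comp l _ hb, hyl, b_zero_left]) fun r hr => ?_
      rw [hr.2, b_sub_right, hBuw, b_self,
        show Q u - 2 * Q u = -Q u by ring, mul_neg, inv_mul_cancel₀ hQu0, neg_one_smul, sub_neg_eq_add,
        sub_add_cancel]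
    by_cases hex : ∃ i l, i ≠ l ∧ proj Q (D i) w ≠ 0 ∧ proj Q (D l) w ≠ 0 ∧
        Q (proj Q (D i) w) + Q (proj Q (D l) w) ≠ 0
    · obtain ⟨i, l, hil, hi, hl, hs⟩ := hex
      exact hstep w hQw hN.symm i l hil hi hl hs
    push Not at hex
    -- all norms equal, the characteristic being two
    have e1 := hex i₁ l₁ hil₁ hi₁ hl₁
    have e2 := hex i₁ m₁ (Ne.symm hm₁i) hi₁ hm₁
    have e3 := hex l₁ m₁ (Ne.symm hm₁l) hl₁ hm₁
    obtain ⟨A, hA⟩ : ∃ A, A = Q (proj Q (D i₁) w) := ⟨_, rfl⟩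
    rw [← hA] at e1 e2
    have hA0 : A ≠ 0 := fun e0 => hQw (q_eq_zero_of_comps hd fun p => by
      by_cases hp : p = i₁
      · rw [hp, ← hA, e0]
      by_cases hp0 : proj Q (D p) w = 0
      · rw [hp0, QuadraticMap.map_zero]
      · have := hex i₁ p (Ne.symm hp) hi₁ hp0
        rwa [← hA, e0, zero_add] at this)
    have h20 : (2 : F) = 0 := by
      by_contra h2
      exact mul_ne_zero h2 hA0 (by linear_combination e1 + e2 - e3)
    have hl₁A : Q (proj Q (D l₁) w) = A := by linear_combination e1 - A * h20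
    have hm₁A : Q (proj Q (D m₁) w) = A := by linear_combination e2 - A * h20
    obtain ⟨K, hK0, hKA, -⟩ := exists_avoid_three h4 0 A 0
    obtain ⟨z, hzD, hQz⟩ := univ_member (hd.nondeg i₁) (by rw [hd.rank]) K hK0
    obtain ⟨a, ha⟩ : ∃ a, a = proj Q (D i₁) w := ⟨_, rfl⟩
    obtain ⟨c, hc⟩ : ∃ c, c = proj Q (D l₁) w := ⟨_, rfl⟩
    rw [← ha] at hA
    rw [← hc] at hl₁A
    have haD : a ∈ D i₁ := ha ▸ hd.comp_mem i₁ w
    have hcD : c ∈ D l₁ := hc ▸ hd.comp_mem l₁ w
    obtain ⟨S, hS, hS1, -⟩ := norm_set hd l₁ hK0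
    obtain ⟨z', hz', hBz'⟩ : ∃ z' ∈ S, B c z' ≠ B a z := by
      by_contra hbad
      push Not at hbad
      have h1 := (plane hd l₁).fibre hcD (by rw [hl₁A]; exact hA0) K (B a z) S fun y hy =>
        ⟨(hS y hy).1, (hS y hy).2, hbad y hy⟩
      omega
    obtain ⟨hz'D, hQz'⟩ := hS z' hz'
    have hdz : a - z ∈ D i₁ := (D i₁).sub_mem haD hzD
    have hdz' : c - z' ∈ D l₁ := (D l₁).sub_mem hcD hz'D
    obtain ⟨u, hu⟩ : ∃ u, u = (a - z) + (c - z') := ⟨_, rfl⟩
    have hQu : Q u = B a z + B c z' := by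
      rw [hu, q_add, hd.orth i₁ l₁ hil₁ _ hdz _ hdz', q_sub, q_sub, hQz, hQz', hl₁A, ← hA]
      linear_combination (A + K - B a z - B c z') * h20
    have hQu0 : Q u ≠ 0 := fun e => hBz' (by linear_combination (hQu.symm.trans e) - B a z * h20)
    have hmu : Mx M D u := hu ▸ pair_all hd hM hG ht hP hil₁ _ hdz _ hdz' (hu ▸ hQu0)
    have hcu := hd.comp_pair hil₁ hdz hdz'
    rw [← hu] at hcu
    have hBuw : B u w = Q u := by
      rw [hQu, hu, b_add_left, b_comm (a - z), ← hd.b_comp i₁ w hdz, b_comm (c - z'),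
        ← hd.b_comp l₁ w hdz', ← ha, ← hc, b_sub_right, b_sub_right, b_self, b_self, ← hA, hl₁A]
      linear_combination (A + A - B a z - B c z') * h20
    have hQy : Q (w - u) = Q w := by rw [q_sub, b_comm, hBuw]; ring
    have hout : ∀ m, m ≠ i₁ → m ≠ l₁ → proj Q (D m) u = 0 := fun m h1 h2 => by
      rw [hu, map_add, hd.comp_other h1.symm hdz, hd.comp_other h2.symm hdz', add_zero]
    have hyi : proj Q (D i₁) (w - u) = z := by rw [map_sub, hcu.1, ← ha, sub_sub_cancel]
    have hyl : proj Q (D l₁) (w - u) = z' := by rw [map_sub, hcu.2, ← hc, sub_sub_cancel]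
    have hym : proj Q (D m₁) (w - u) = proj Q (D m₁) w := by
      rw [map_sub, hout m₁ hm₁i hm₁l, sub_zero]
    have hz'0 : z' ≠ 0 := fun e => hK0 (by rw [← hQz', e, QuadraticMap.map_zero])
    have hz0 : z ≠ 0 := fun e => hK0 (by rw [← hQz, e, QuadraticMap.map_zero])
    have hmy := hstep (w - u) (by rw [hQy]; exact hQw) (by
        rw [hN]
        congr 1
        refine Finset.filter_congr fun m _ => ?_
        by_cases e : m = i₁
        · rw [e, hyi]; exact iff_of_true hz0 hi₁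
        by_cases e' : m = l₁
        · rw [e', hyl]; exact iff_of_true hz'0 hl₁
        rw [map_sub, hout m e e', sub_zero])
      i₁ m₁ (Ne.symm hm₁i) (by rw [hyi]; exact hz0) (by rw [hym]; exact hm₁)
      (by rw [hyi, hym, hQz, hm₁A]; exact fun e => hKA (by linear_combination e - A * h20))
    obtain ⟨b, hb, -, hbz, hQb⟩ := (plane hd l₁).exists_perp hz'D (by rw [hQz']; exact hK0)
    obtain ⟨n, hni, hnl⟩ := exists_member_two hd i₁ l₁ ht
    refine mx_cross hd hM hmu hmy hnl (hout n hni hnl) hb ⟨hQb, isSquare_char_two h20 _⟩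
      (by rw [b_comm, ← hd.b_comp l₁ _ hb, hyl]; exact hbz) fun r hr => ?_
    rw [hr.2, b_sub_right, hBuw, b_self,
      show Q u - 2 * Q u = -Q u by ring, mul_neg, inv_mul_cancel₀ hQu0, neg_one_smul, sub_neg_eq_add,
      sub_add_cancel]

end CfsgLib.Orth.PlanesMax
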