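import Cfsg.Agent.Lib.Classical.OrthPlanesMax.Escape

set_option autoImplicit false
set_option linter.unusedSectionVars false

/-!
Counting the norms available in one plane.
-/

namespace CfsgLib.Orth.PlanesMax

open Matrix DecompMax

variable {F : Type*} [Field F] [Finite F] {ι : Type} [Fintype ι] [DecidableEq ι]
variable {Q : QuadraticForm F (ι → F)} {t : ℕ} {D : Fin t → Submodule F (ι → F)}

local notation "B" => QuadraticMap.polar (DFunLike.coe Q)

/-- The fields admitted for the spreading argument. -/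
def Good (Q : QuadraticForm F (ι → F)) (D : Fin t → Submodule F (ι → F)) : Prop :=
  7 ≤ Nat.card F ∨ ((∀ i, NoSing Q (D i)) ∧ 4 ≤ Nat.card F)

theorem Good.four_le (hG : Good Q D) : 4 ≤ Nat.card F := hG.elim (fun h => by omega) fun h => h.2

variable (hd : Dec Q 2 D)
include hd

/-- The vectors of a given norm in one member. -/
theorem norm_set [DecidableEq (ι → F)] (i : Fin t) {d : F} (hd0 : d ≠ 0) :
    ∃ s : Finset (ι → F), (∀ x ∈ s, x ∈ D i ∧ Q x = d) ∧ Nat.card F ≤ s.card + 1 ∧
      (NoSing Q (D i) → Nat.card F + 1 ≤ s.card) := by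
  obtain ⟨a, ha, hQa⟩ := univ_member (hd.nondeg i) (by rw [hd.rank]) d hd0
  obtain ⟨s, hs, h1, h2⟩ := (plane hd i).exists_norm_set hd.nd ha (by rw [hQa]; exact hd0)
  exact ⟨s, fun x hx => ⟨(hs x hx).1, (hs x hx).2.trans hQa⟩, h1, h2⟩

theorem exists_three (h : 7 ≤ Nat.card F ∨ ((∀ i, NoSing Q (D i)) ∧ Nat.card F ≠ 3)) :
    Three Q D := by
  classical
  cases nonempty_fintype F
  intro i d hd0
  obtain ⟨s, hs, h1, h2⟩ := norm_set hd i hd0
  have hcls : ∀ x ∈ s, x ∈ D i ∧ Cls Q d x := fun x hx =>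
    ⟨(hs x hx).1, by rw [(hs x hx).2]; exact hd0, d, by rw [(hs x hx).2]⟩
  have hspan : ∀ x ∈ s, ∀ y ∈ s, y ≠ x → y ≠ -x → y ∉ Submodule.span F {x} := by
    intro x hx y hy hne hne' h
    obtain ⟨c, rfl⟩ := Submodule.mem_span_singleton.1 h
    have h0 := (hs _ hy).2
    rw [q_smul, (hs x hx).2, mul_left_eq_self₀] at h0
    rcases mul_self_eq_one_iff.1 (h0.resolve_right hd0) with rfl | rfl
    · exact hne (one_smul _ _)
    · exact hne' (neg_one_smul _ _)
  suffices h' : ∃ x ∈ s, ∃ y ∈ s, ∃ z ∈ s, (y ≠ x ∧ y ≠ -x) ∧ (z ≠ x ∧ z ≠ -x) ∧ (z ≠ y ∧ z ≠ -y) by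
    obtain ⟨x, hx, y, hy, z, hz, a, b, c⟩ := h'
    exact ⟨x, (hcls x hx).1, y, (hcls y hy).1, z, (hcls z hz).1, (hcls x hx).2, (hcls y hy).2,
      (hcls z hz).2, hspan x hx y hy a.1 a.2, hspan x hx z hz b.1 b.2, hspan y hy z hz c.1 c.2⟩
  have hcard : 3 ≤ s.card := by
    rcases h with h | ⟨hns, -⟩
    · omega
    · have := h2 (hns i); have := Finite.one_lt_card (α := F); omega
  obtain ⟨x, hx⟩ : s.Nonempty := Finset.card_pos.1 (by omega)
  by_cases h20 : (2 : F) = 0
  · have hneg : ∀ v : ι → F, -v = v := fun v => by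
      rw [neg_eq_iff_add_eq_zero, ← two_smul F, h20, zero_smul]
    obtain ⟨y, hy⟩ : (s.erase x).Nonempty := Finset.card_pos.1 (by
      rw [Finset.card_erase_of_mem hx]; omega)
    rw [Finset.mem_erase] at hy
    obtain ⟨z, hz⟩ : ((s.erase x).erase y).Nonempty := Finset.card_pos.1 (by
      rw [Finset.card_erase_of_mem (Finset.mem_erase.2 hy), Finset.card_erase_of_mem hx]; omega)
    rw [Finset.mem_erase, Finset.mem_erase] at hz
    refine ⟨x, hx, y, hy.2, z, hz.2.2, ⟨hy.1, ?_⟩, ⟨hz.2.1, ?_⟩, hz.1, ?_⟩ <;> rw [hneg]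
    · exact hy.1
    · exact hz.2.1
    · exact hz.1
  · have h5 : 5 ≤ s.card := by
      rcases h with h | ⟨hns, hq⟩
      · omega
      · have := h2 (hns i)
        have hodd := FiniteField.odd_card_of_char_ne_two (F := F) fun e => h20 (by
          have := CharP.cast_eq_zero F (ringChar F)
          rwa [e, Nat.cast_ofNat] at this)
        rw [← Nat.card_eq_fintype_card] at hodd
        have := Finite.one_lt_card (α := F)
        omega
    obtain ⟨y, hy⟩ : (s \ {x, -x}).Nonempty := Finset.card_pos.1 (by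
      have := Finset.le_card_sdiff {x, -x} s
      have := Finset.card_le_two (a := x) (b := -x)
      omega)
    rw [Finset.mem_sdiff, Finset.mem_insert, Finset.mem_singleton, not_or] at hy
    obtain ⟨z, hz⟩ : (s \ {x, -x, y, -y}).Nonempty := Finset.card_pos.1 (by
      have := Finset.le_card_sdiff {x, -x, y, -y} s
      have := Finset.card_le_four (a := x) (b := -x) (c := y) (d := -y)
      omega)
    simp only [Finset.mem_sdiff, Finset.mem_insert, Finset.mem_singleton, not_or] at hz
    exact ⟨x, hx, y, hy.1, z, hz.1, hy.2, ⟨hz.2.1, hz.2.2.1⟩, hz.2.2.2⟩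

/-- The norms of the differences of a vector with those of its norm. -/
theorem delta_set [DecidableEq F] (hG : Good Q D) (i : Fin t) {a : ι → F} (ha : a ∈ D i) (ha0 : a ≠ 0) :
    ∃ S : Finset F, (∀ δ ∈ S, δ ≠ 0 ∧ ∃ x ∈ D i, Q x = Q a ∧ Q (a - x) = δ) ∧ 2 ≤ S.card ∧
      (7 ≤ Nat.card F → 3 ≤ S.card) ∧
      ((2 : F) ≠ 0 → Q a ≠ 0 → Nat.card F ≤ 2 * S.card + 2) := by
  classical
  cases nonempty_fintype F
  have hq := Finite.one_lt_card (α := F)
  by_cases hQa : Q a = 0
  · have hq7 : 7 ≤ Nat.card F := hG.resolve_right fun h => ha0 (h.1 i a ha hQa)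
    obtain ⟨f₀, hf₀, -, haf⟩ := (plane hd i).exists_frame ha ha0
    obtain ⟨f, hf⟩ : ∃ f, f = f₀ - Q f₀ • a := ⟨_, rfl⟩
    have hf1 : B a f = 1 := by rw [hf, b_sub_right, b_smul_right, haf, b_self_zero hQa]; ring
    have hf0 : Q f = 0 := by rw [hf, q_sub, q_smul, hQa, b_smul_right, b_comm f₀, haf]; ring
    refine ⟨Finset.univ.erase 0, fun δ hδ => ⟨Finset.ne_of_mem_erase hδ, (-δ) • f,
      (D i).smul_mem _ (hf ▸ (D i).sub_mem hf₀ ((D i).smul_mem _ ha)),
      by rw [q_smul, hf0, mul_zero, hQa],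
      by rw [q_sub, q_smul, hQa, hf0, b_smul_right, hf1]; ring⟩, ?_, fun _ => ?_,
      fun _ h => absurd hQa h⟩ <;>
    · rw [Finset.card_erase_of_mem (Finset.mem_univ _), Finset.card_univ, ← Nat.card_eq_fintype_card]
      omega
  obtain ⟨s, hs, h1, h2⟩ := norm_set hd i hQa
  set S := ((s.erase a).image fun x => Q (a - x)).erase 0 with hS
  have himg : (s.erase a).card ≤ 2 * ((s.erase a).image fun x => B a x).card :=
    (plane hd i).card_values ha hQa (Q a) _ fun x hx => hs x (Finset.mem_of_mem_erase hx)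
  have heq : ((s.erase a).image fun x => Q (a - x)) =
      ((s.erase a).image fun x => B a x).image fun β => 2 * Q a - β := by
    rw [Finset.image_image]
    refine Finset.image_congr fun x hx => ?_
    show Q (a - x) = 2 * Q a - B a x
    rw [q_sub, (hs x (Finset.mem_of_mem_erase (Finset.mem_coe.1 hx))).2]; ring
  have hcard : ((s.erase a).image fun x => Q (a - x)).card =
      ((s.erase a).image fun x => B a x).card := by
    rw [heq, Finset.card_image_of_injective _ fun u v h => sub_right_injective h]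
  have hns0 : NoSing Q (D i) → (0 : F) ∉ (s.erase a).image fun x => Q (a - x) := fun hns h => by
    obtain ⟨x, hx, e⟩ := Finset.mem_image.1 h
    rw [Finset.mem_erase] at hx
    exact hx.1 (sub_eq_zero.1 (hns _ ((D i).sub_mem ha (hs x hx.2).1) e)).symm
  have hzero : (2 : F) ≠ 0 → (0 : F) ∉ (s.erase a).image fun x => Q (a - x) := fun h20 h => by
    obtain ⟨x, hx, e⟩ := Finset.mem_image.1 h
    rw [Finset.mem_erase] at hx
    have hB : B a x = 2 * Q a := by
      rw [q_sub, (hs x hx.2).2] at e; linear_combination -e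
    obtain ⟨n, hn⟩ : ∃ n, n = a - x := ⟨_, rfl⟩
    have hnD : n ∈ D i := hn ▸ (D i).sub_mem ha (hs x hx.2).1
    have hn0 : n ≠ 0 := hn ▸ sub_ne_zero.2 (Ne.symm hx.1)
    obtain ⟨c, hc⟩ := (plane hd i).sing_perp hnD ha hn0 (hn ▸ e) (by
      rw [hn, b_comm, b_sub_right, b_self, hB, sub_self])
    have e' : Q n = 0 := hn ▸ e
    exact hQa (by rw [hc, q_smul, e', mul_zero])
  have hes : s.card ≤ (s.erase a).card + 1 := by
    have := Finset.pred_card_le_card_erase (a := a) (s := s); omega
  refine ⟨S, fun δ hδ => ?_, ?_, fun hq7 => ?_, fun h20 _ => ?_⟩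
  · rw [hS, Finset.mem_erase] at hδ
    obtain ⟨x, hx, e⟩ := Finset.mem_image.1 hδ.2
    exact ⟨hδ.1, x, (hs x (Finset.mem_of_mem_erase hx)).1, (hs x (Finset.mem_of_mem_erase hx)).2, e⟩
  · have hp := Finset.pred_card_le_card_erase (a := (0 : F))
      (s := (s.erase a).image fun x => Q (a - x))
    rw [← hS] at hp
    rcases hG with h | ⟨hns, hq4⟩
    · by_cases h20 : (2 : F) = 0
      · have := FiniteField.even_card_of_char_two (F := F) (ringChar.eq F 2 (C :=
          CharTwo.of_one_ne_zero_of_two_eq_zero one_ne_zero h20))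
        rw [← Nat.card_eq_fintype_card] at this
        omega
      · rw [Finset.erase_eq_of_notMem (hzero h20)] at hS
        rw [hS, hcard]; omega
    · rw [Finset.erase_eq_of_notMem (hns0 (hns i))] at hS
      have := h2 (hns i)
      rw [hS, hcard]; omega
  · have hp := Finset.pred_card_le_card_erase (a := (0 : F))
      (s := (s.erase a).image fun x => Q (a - x))
    rw [← hS] at hp
    by_cases h20 : (2 : F) = 0
    · have := FiniteField.even_card_of_char_two (F := F) (ringChar.eq F 2 (C :=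
        CharTwo.of_one_ne_zero_of_two_eq_zero one_ne_zero h20))
      rw [← Nat.card_eq_fintype_card] at this
      by_cases h8 : 10 ≤ Nat.card F
      · omega
      have hq8 : Nat.card F = 8 := by omega
      -- the equation `B a x = 0` has only the excluded solution
      have h0 : (0 : F) ∉ (s.erase a).image fun x => Q (a - x) := by
        intro h
        obtain ⟨x, hx, e⟩ := Finset.mem_image.1 h
        rw [Finset.mem_erase] at hx
        have hB : B a x = 0 := by
          rw [q_sub, (hs x hx.2).2, ← two_mul, h20, zero_mul, zero_sub, neg_eq_zero] at e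
          exact e
        obtain ⟨c, hc⟩ := (plane hd i).perp_line ha (hs x hx.2).1 ha ha0 ha0 hB (by
          rw [b_self, h20, zero_mul])
        have hc2 := (hs x hx.2).2
        rw [hc, q_smul, mul_left_eq_self₀] at hc2
        haveI : CharP F 2 := CharTwo.of_one_ne_zero_of_two_eq_zero one_ne_zero h20
        rcases mul_self_eq_one_iff.1 (hc2.resolve_right hQa) with rfl | rfl
        · exact hx.1 (by rw [hc, one_smul])
        · exact hx.1 (by rw [hc, CharTwo.neg_eq, one_smul])
      rw [Finset.erase_eq_of_notMem h0] at hS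
      rw [hS, hcard]; omega
    · rw [Finset.erase_eq_of_notMem (hzero h20)] at hS
      rw [hS, hcard]; omega
  · rw [Finset.erase_eq_of_notMem (hzero h20)] at hS
    rw [hS, hcard]
    omega

end CfsgLib.Orth.PlanesMax
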